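import Cfsg.Agent.Lib.OS.M2

/-!
# S3130, the orthogonal model 3: the group `U`, the elements `x i w = ρ(e i, w)`, the normal series `N i`, `N (i + 1) / N i ≅ W i`.
-/

set_option autoImplicit false
set_option linter.unusedSectionVars false

namespace Cfsg.Lib.OS

open Subgroup Cfsg.Lib.Orth Finset Module QuadraticMap
open scoped commutatorElement

namespace Fr

variable {F V : Type*} [Field F] [Finite F] [AddCommGroup V] [Module F V] [FiniteDimensional F V] {Q : QuadraticForm F V} {m : ℕ}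
  {A : Type*} [Group A] (r : Fr Q m A)

/-- The action of `A` on `U`. -/
def fU : A →* MulAut r.U where
  toFun θ :=
    { toFun := fun g => ⟨Gam.cj Q (r.s θ) g, cj_H g.2⟩
      invFun := fun g => ⟨Gam.cj Q (r.s θ⁻¹) g, cj_H g.2⟩
      left_inv := fun g => Subtype.ext (by simp only [map_inv]; exact (Gam.cj Q (r.s θ)).symm_apply_apply g)
      right_inv := fun g => Subtype.ext (by simp only [map_inv]; exact (Gam.cj Q (r.s θ)).apply_symm_apply g)
      map_mul' := fun g h => Subtype.ext (map_mul (Gam.cj Q (r.s θ)) g.1 h.1) }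
  map_one' := MulEquiv.ext fun g => Subtype.ext (by simp)
  map_mul' θ η := MulEquiv.ext fun g => Subtype.ext (by simp)

/-- `ρ(e i, w)` for `w ∈ Ep i`. -/
noncomputable def x (i : ℕ) (w : V) : r.U := ⟨eich Q (r.e i) (r.pE i w), eich_U pE_mem⟩

/-- The action of `U` on `V`. -/
abbrev ap (g : r.U) (v : V) : V := g.1.1 v

theorem ap_P {i : ℕ} {v : V} (g : r.U) (h : ∀ j < i, polar Q (r.e j) v = 0) (j : ℕ) (hj : j < i) : polar Q (r.e j) (r.ap g v) = 0 := by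
  rcases le_or_gt m j with c | c
  · exact r.pe_hi c _
  · have h1 : v ∈ r.Fl (2 * m - j) := by
      rw [Fl_high c]
      exact fun k hk => h k (hk.trans_lt hj)
    exact (H_Fl g.2 h1).1 j (by omega)
theorem ap_inv_ap (g : r.U) (v : V) : r.ap g⁻¹ (r.ap g v) = v := O.inv_apply_apply g.1 v
theorem ap_ap_inv (g : r.U) (v : V) : r.ap g (r.ap g⁻¹ v) = v := O.apply_inv_apply g.1 v
/-- The elements acting trivially on `E i ^ ⊥ / E i`, `E i = ⟨e₀, …, e (i - 1)⟩`. -/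
def N (i : ℕ) : Subgroup r.U where
  carrier := {g | ∀ v, (∀ j < i, polar Q (r.e j) v = 0) → r.ap g v - v ∈ r.Fl i}
  one_mem' v _ := (sub_self v).symm ▸ zero_mem _
  mul_mem' {g g'} hg hg' v hv := by
    have := add_mem (hg _ (r.ap_P g' hv)) (hg' v hv)
    rwa [sub_add_sub_cancel] at this
  inv_mem' {g} hg v hv := by
    have := neg_mem (hg _ (r.ap_P g⁻¹ hv))
    rwa [ap_ap_inv, neg_sub] at this

/-- The coordinate `N (i + 1) → W i`. -/
def c (i : ℕ) (g : r.U) : V := r.pW i (r.ap g (r.f i))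

variable {r} {i j d : ℕ} {u v w w' : V} {θ : A} {g g' y : r.U}

theorem fU_val (θ : A) (g : r.U) : (r.fU θ g).1 = Gam.cj Q (r.s θ) g := rfl
theorem ap_fU (θ : A) (g : r.U) (v : V) : r.ap (r.fU θ g) ((r.s θ).T v) = (r.s θ).T (r.ap g v) := Gam.cj_apply_T _ _ _
theorem ap_mul (g g' : r.U) (v : V) : r.ap (g * g') v = r.ap g (r.ap g' v) := rfl
theorem ap_ext (h : ∀ v, r.ap g v = r.ap g' v) : g = g' := Subtype.ext (O.ext h)
theorem ap_sub (g : r.U) (h : v ∈ r.Fl (d + 1)) : r.ap g v - v ∈ r.Fl d := g.2 d v h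
theorem ap_Fl (g : r.U) (h : v ∈ r.Fl d) : r.ap g v ∈ r.Fl d := H_Fl g.2 h
theorem fx_iff : g ∈ fx r.fU 1 θ ↔ r.fU θ g = g := by simp [fx, ← SetLike.mem_coe]
/-- A fixed element commutes with `T`. -/
theorem T_ap (h : r.fU θ g = g) (v : V) : (r.s θ).T (r.ap g v) = r.ap g ((r.s θ).T v) := by rw [← ap_fU, h]
theorem ap_polar (g : r.U) (u v : V) : polar Q (r.ap g u) (r.ap g v) = polar Q u v := O.map_polar _ _ _
theorem ap_Q (g : r.U) (v : V) : Q (r.ap g v) = Q v := O.map_Q _ _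
theorem ap_one (v : V) : r.ap 1 v = v := rfl
theorem ap_add (g : r.U) (u v : V) : r.ap g (u + v) = r.ap g u + r.ap g v := map_add _ _ _
theorem ap_sub' (g : r.U) (u v : V) : r.ap g (u - v) = r.ap g u - r.ap g v := map_sub _ _ _
theorem ap_smul (g : r.U) (a : F) (v : V) : r.ap g (a • v) = a • r.ap g v := map_smul _ _ _
theorem fU_eq_iff : r.fU θ g = g ↔ ∀ v, (r.s θ).T (r.ap g v) = r.ap g ((r.s θ).T v) :=
  ⟨T_ap, fun h => ap_ext fun v => by rw [← (r.s θ).T_inv_T v, ap_fU, h]⟩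
theorem x_pE (i : ℕ) (w : V) : r.x i (r.pE i w) = r.x i w := Subtype.ext (congrArg (eich Q _) (pE_of_mem pE_mem))
theorem ap_e0 (g : r.U) : r.ap g (r.e 0) = r.e 0 := by
  have := ap_sub (d := 0) g (e_mem_Fl (r := r) one_pos)
  rwa [Fl_zero, Submodule.mem_bot, sub_eq_zero] at this
theorem ap_Ep (g : r.U) (h : w ∈ r.Ep i) : r.ap g w ∈ r.Ep i := fun j hj =>
  r.ap_P (i := i + 1) g (fun k hk => h k (Nat.lt_succ_iff.1 hk)) j (Nat.lt_succ_iff.2 hj)
theorem x_val (h : w ∈ r.Ep i) : (r.x i w).1 = eich Q (r.e i) w := congrArg (eich Q _) (pE_of_mem h)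
theorem x_ap (h : w ∈ r.Ep i) (v : V) :
    r.ap (r.x i w) v = v + polar Q w v • r.e i + polar Q (r.e i) v • w + (Q w * polar Q (r.e i) v) • r.e i := by
  rw [ap, x_val h, eich_apply (r.Qe i) (h i le_rfl), r.sub, r.sub]
theorem x_ap_perp (h : w ∈ r.Ep i) (hv : polar Q (r.e i) v = 0) : r.ap (r.x i w) v = v + polar Q w v • r.e i := by simp [x_ap h, hv]
theorem x_ap_fix (h : w ∈ r.Ep i) (hv : polar Q (r.e i) v = 0) (hw : polar Q w v = 0) : r.ap (r.x i w) v = v := by simp [x_ap h, hv, hw]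
theorem x_ap_f (h : w ∈ r.W i) (hi : i < m) : r.ap (r.x i w) (r.f i) = r.f i + w + Q w • r.e i := by
  simp [x_ap (W_le_Ep h), polar_comm Q w, (h i le_rfl).2, r.ef_self hi]
theorem x_add (i : ℕ) (w w' : V) : r.x i (w + w') = r.x i w * r.x i w' := Subtype.ext (by
  change eich Q _ _ = eich Q _ _ * eich Q _ _
  rw [map_add, eich_add (r.Qe i) (pE_mem i le_rfl) (pE_mem i le_rfl)])
@[simp] theorem x_zero (i : ℕ) : r.x i 0 = 1 := Subtype.ext (by
  change eich Q _ _ = 1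
  rw [map_zero, eich_zero])
theorem x_sq (i : ℕ) (w : V) : r.x i w * r.x i w = 1 := by rw [← x_add, r.two, x_zero]
theorem x_inv (i : ℕ) (w : V) : (r.x i w)⁻¹ = r.x i w := inv_eq_of_mul_eq_one_left (x_sq i w)
theorem x_comm (i : ℕ) (w w' : V) : r.x i w * r.x i w' = r.x i w' * r.x i w := by rw [← x_add, add_comm, x_add]
theorem x_self (i : ℕ) (a : F) : r.x i (a • r.e i) = 1 := Subtype.ext (by
  rw [x_val (Submodule.smul_mem _ _ (r.e_mem_Ep i i)), eich_self_smul (r.Qe i)]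
  rfl)
/-- `eich_swap`. -/
theorem x_swap (i j : ℕ) (a : F) : r.x i (a • r.e j) = r.x j (a • r.e i) := Subtype.ext (by
  rw [x_val (Submodule.smul_mem _ _ (r.e_mem_Ep i j)), x_val (Submodule.smul_mem _ _ (r.e_mem_Ep j i)), ← eich_smul_left (r.Qe j) (r.ee j i),
    eich_swap (u := r.e i) (r.Qe i) (by rw [polar_smul_right', r.ee, mul_zero]) (by rw [Q_smul, r.Qe, mul_zero]), r.neg])
theorem x_conj (hg : r.ap g (r.e i) = r.e i) (h : w ∈ r.Ep i) : g * r.x i w * g⁻¹ = r.x i (r.ap g w) := Subtype.ext (by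
  rw [x_val (ap_Ep g h), Subgroup.coe_mul, Subgroup.coe_mul, Subgroup.coe_inv, x_val h, conj_eich]
  exact congrArg (eich Q · _) hg)
theorem x_cm (hg : r.ap g (r.e i) = r.e i) (h : w ∈ r.Ep i) : ⁅g, r.x i w⁆ = r.x i (r.ap g w + w) := by rw [commutatorElement_def, x_conj hg h, x_inv, x_add]
theorem x_fix (hg : r.ap g (r.e i) = r.e i) (h : w ∈ r.Ep i) (hw : r.ap g w = w) : g * r.x i w = r.x i w * g := by rw [← mul_inv_eq_iff_eq_mul, x_conj hg h, hw]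
theorem fU_x (θ : A) (i : ℕ) (w : V) : r.fU θ (r.x i w) = r.x i ((r.s θ).T w) := Subtype.ext (by
  change Gam.cj Q _ (eich Q _ _) = eich Q _ _
  rw [Gam.cj_eich, r.se, r.sc, T_pE]
  simp)
theorem x_eq_one (hi : i < m) (h : w ∈ r.Ep i) : r.x i w = 1 ↔ ∃ a : F, w = a • r.e i := by
  refine ⟨fun e => ⟨polar Q w (r.f i) + Q w, ?_⟩, fun ⟨a, e⟩ => e ▸ x_self i a⟩
  have := x_ap h (r.f i)
  rw [e, ap_one, r.ef_self hi, one_smul, mul_one, add_assoc, add_assoc, left_eq_add, add_left_comm, ← add_smul, add_eq_zero_iff_eq_neg,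
    r.neg] at this
  exact this
theorem x_inj (hi : i < m) (h : w ∈ r.W i) (h' : w' ∈ r.W i) (e : r.x i w = r.x i w') : w = w' := by
  obtain ⟨a, ha⟩ := (x_eq_one hi (W_le_Ep (add_mem h h'))).1 (by rw [x_add, e, x_sq])
  have := (add_mem h h' i le_rfl).2
  rw [ha, polar_smul_right', r.fe_self hi, mul_one] at this
  rwa [this, zero_smul, ← r.sub, sub_eq_zero] at ha
theorem x0_pW (h : w ∈ r.Ep 0) : r.x 0 (r.pW 0 w) = r.x 0 w := by
  obtain ⟨a, ha⟩ := mem_Fl_one.1 (sub_pW h (by have := r.m3; omega))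
  conv_rhs => rw [sub_eq_iff_eq_add'.1 ha, x_add, x_self, mul_one]
theorem fU_x_iff (hi : i < m) (h : w ∈ r.W i) : r.fU θ (r.x i w) = r.x i w ↔ (r.s θ).T w = w := by
  rw [fU_x]
  exact ⟨x_inj hi (T_W.2 h) h, fun e => by rw [e]⟩
/-- `γ` acts as conjugation by the reflection. -/
theorem fUγ_val (g : r.U) : (r.fU r.γ g).1 = refl Q r.v0 * g * refl Q r.v0 := by rw [fU_val, r.sγ, Gam.cj_ofO, MulAut.conj_apply, refl_inv]
theorem fUγ_iff : r.fU r.γ g = g ↔ r.ap g r.v0 = r.v0 := by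
  simp only [fU_eq_iff, Tγ, ap_add, ap_smul, add_right_inj]
  refine ⟨fun h => ?_, fun h v => by rw [h, ← ap_polar g r.v0 v, h]⟩
  obtain ⟨u, -, h1⟩ := exists_dual r.v0_mem r.v0_ne
  have e := h u
  rw [h1, one_smul] at e
  have q := ap_Q g r.v0
  rw [← e, Q_smul, r.Qv, mul_one, ← one_pow 2] at q
  rw [← e, sq_inj_of_two r.h2 q, one_smul]

theorem mem_N : g ∈ r.N i ↔ ∀ v, (∀ j < i, polar Q (r.e j) v = 0) → r.ap g v - v ∈ r.Fl i := Iff.rfl
instance N_normal : (r.N i).Normal := ⟨fun g hg y v hv => by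
  have := ap_Fl y (hg _ (r.ap_P y⁻¹ hv))
  rwa [ap_sub', ap_ap_inv] at this⟩
theorem N_zero : r.N 0 = ⊥ := (eq_bot_iff_forall _).2 fun g hg => ap_ext fun v => by
  have := hg v fun _ h => absurd h (Nat.not_lt_zero _)
  rwa [Fl_zero, Submodule.mem_bot, sub_eq_zero] at this
/-- `E m ^ ⊥ = Fl (m + 1)`. -/
theorem N_top : r.N m = ⊤ := (eq_top_iff' _).2 fun g v hv =>
  ap_sub g ⟨fun j hj => hv j (by omega), fun c => by omega, fun j hj => r.pf_hi (by omega) v⟩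
theorem N_mono (h : i ≤ j) : r.N i ≤ r.N j := fun _ hg v hv => Fl_mono h (hg v fun k hk => hv k (hk.trans_le h))
theorem fU_N (h : g ∈ r.N i) : r.fU θ g ∈ r.N i := fun v hv => by
  rw [← (r.s θ).T_inv_T v] at hv ⊢
  rw [ap_fU, ← map_sub, T_Fl]
  exact h _ fun j hj => by simpa only [T_e, map_eq_zero_iff _ (RingEquiv.injective _)] using hv j hj
theorem x_N (i : ℕ) (w : V) : r.x i w ∈ r.N (i + 1) := fun v hv => by
  rw [← x_pE, x_ap_perp pE_mem (hv i i.lt_succ_self), add_sub_cancel_left]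
  exact Submodule.smul_mem _ _ (e_mem_Fl i.lt_succ_self)
theorem c_mem (i : ℕ) (g : r.U) : r.c i g ∈ r.W i := pW_mem
theorem c_x (hi : i < m) (h : w ∈ r.Ep i) : r.c i (r.x i w) = r.pW i w := by
  simp [c, x_ap h, pW_f, pW_Fl (e_mem_Fl (r := r) i.lt_succ_self) hi, r.ef_self hi]
theorem ap_f_Ep (hi : i < m) (g : r.U) : r.ap g (r.f i) - r.f i ∈ r.Ep i := Fl_high (r := r) hi ▸ ap_sub g (f_mem_Fl (by omega))
theorem N_Ep (h : g ∈ r.N (i + 1)) (hv : v ∈ r.Ep i) : r.ap g v - v ∈ r.Fl (i + 1) := h v fun j hj => hv j (Nat.lt_succ_iff.1 hj)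
theorem c_eq (i : ℕ) (g : r.U) : r.c i g = r.pW i (r.ap g (r.f i) - r.f i) := by rw [map_sub, pW_f le_rfl, sub_zero, c]
theorem Fl_of_succ (hi : i < m) (h : v ∈ r.Fl (i + 1)) (h0 : polar Q (r.f i) v = 0) : v ∈ r.Fl i :=
  ⟨fun k _ => (le_or_gt m k).elim (r.pe_hi · v) fun c => h.1 k (by omega), fun _ => h.2.1 hi,
    fun k hk => hk.eq_or_lt.elim (· ▸ h0) (h.2.2 k)⟩
/-- `g (f i) - f i ∈ Fl (2 m - i) = Ep i`. -/
theorem ap_f (hi : i < m) (g : r.U) : r.ap g (r.f i) - r.f i - r.c i g ∈ r.Fl (i + 1) := by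
  rw [c_eq]
  exact sub_pW (ap_f_Ep hi g) hi
theorem c_mul (hi : i < m) (h : g ∈ r.N (i + 1)) (g' : r.U) : r.c i (g * g') = r.c i g + r.c i g' := by
  have := pW_Fl (N_Ep h (ap_f_Ep hi g')) hi
  rw [map_sub, ← c_eq, ap_sub', map_sub, sub_sub, sub_eq_zero] at this
  exact this
/-- If `g (f i) = f i + ε`, `ε ∈ Fl (i + 1)`, then `Q (g (f i)) = 0` gives `ε ∈ Fl i`; for `v ∈ Ep i`: `g v - v ∈ Fl (i + 1)` has `e i`-coefficient
`B (f i) (g v - v) = B (g (f i)) (g v) - B (f i) v - B ε (g v) = 0`. -/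
theorem c_eq_zero (hi : i < m) (h : g ∈ r.N (i + 1)) : r.c i g = 0 ↔ g ∈ r.N i := by
  refine ⟨fun e v hv => ?_, fun hg => by rw [c_eq, pW_Fl (Fl_mono i.le_succ (hg _ fun j hj => r.ef_ne hj.ne)) hi]⟩
  have h1 := ap_f hi g
  rw [e, sub_zero] at h1
  have h2 : polar Q (r.f i) (r.ap g (r.f i) - r.f i) = 0 := by
    have := Q_add Q (r.f i) (r.ap g (r.f i) - r.f i)
    rwa [add_sub_cancel, ap_Q, Q_Fl hi h1, add_zero, left_eq_add] at this
  have h3 : v - polar Q (r.e i) v • r.f i ∈ r.Ep i := fun j hj => by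
    rw [polar_sub_right, polar_smul_right']
    rcases hj.eq_or_lt with rfl | c
    · rw [r.ef_self hi, mul_one, sub_self]
    · rw [hv j c, r.ef_ne c.ne, mul_zero, sub_self]
  have h4 := Fl_of_succ hi (N_Ep h h3) (by
    rw [polar_sub_right, ← ap_polar g (r.f i) (_ - _), ← polar_sub_left, ← neg_sub, polar_neg_left, neg_eq_zero]
    exact polar_Fl h1 (Fl_high (r := r) hi ▸ ap_Ep g h3) (by omega))
  have := add_mem h4 (Submodule.smul_mem _ (polar Q (r.e i) v) (Fl_of_succ hi h1 h2))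
  convert this using 1
  simp only [ap_sub', ap_smul, smul_sub]
  abel
theorem dec (hi : i < m) (h : g ∈ r.N (i + 1)) : g * r.x i (r.c i g) ∈ r.N i := by
  rw [← c_eq_zero hi (mul_mem h (x_N _ _)), c_mul hi h, c_x hi (W_le_Ep (c_mem i g)), pW_of_mem (c_mem i g), r.two]
/-- `y⁻¹ (f i) = f i + v`, `v ∈ Ep i`, `g v - v ∈ Fl (i + 1)`. -/
theorem c_conj (hi : i < m) (h : g ∈ r.N (i + 1)) (y : r.U) : r.c i (y * g * y⁻¹) = r.pW i (r.ap y (r.c i g)) := by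
  have h1 := pW_Fl (ap_Fl y (add_mem (ap_f hi g) (N_Ep h (ap_f_Ep hi y⁻¹)))) hi
  rw [c_eq, ← sub_eq_zero, ← map_sub, ← h1, ap_mul, ap_mul]
  congr 1
  have := congrArg (r.ap y) (show r.ap g (r.f i) - r.f i - r.c i g + (r.ap g (r.ap y⁻¹ (r.f i) - r.f i) - (r.ap y⁻¹ (r.f i) - r.f i)) =
    r.ap g (r.ap y⁻¹ (r.f i)) - r.ap y⁻¹ (r.f i) - r.c i g by rw [ap_sub']; abel)
  rw [this, ap_sub', ap_sub', ap_ap_inv]
theorem c_fU (θ : A) (i : ℕ) (g : r.U) : r.c i (r.fU θ g) = (r.s θ).T (r.c i g) := by rw [c, c, T_pW, ← ap_fU, r.sf]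
theorem eq_x0 (h : g ∈ r.N 1) : g = r.x 0 (r.c 0 g) := by
  have := dec (by have := r.m3; omega) h
  rwa [N_zero, mem_bot, mul_eq_one_iff_eq_inv, x_inv] at this
theorem mem_N1 : g ∈ r.N 1 ↔ ∃ w ∈ r.W 0, g = r.x 0 w := ⟨fun h => ⟨_, c_mem 0 g, eq_x0 h⟩, fun ⟨w, _, e⟩ => e ▸ x_N 0 w⟩
theorem N1_comm (h : g ∈ r.N 1) (h' : g' ∈ r.N 1) : g * g' = g' * g := by rw [eq_x0 h, eq_x0 h', x_comm]
theorem comm_x0 (h : w ∈ r.Ep 0) : g * r.x 0 w = r.x 0 w * g ↔ r.ap g w - w ∈ r.Fl 1 := by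
  rw [← commutatorElement_eq_one_iff_mul_comm, x_cm (ap_e0 g) h, x_eq_one (by have := r.m3; omega) (add_mem (ap_Ep g h) h), r.sub,
    mem_Fl_one]
/-- `g` is trivial on `Ep 1 / ⟨e₀⟩`.  Then `g ∈ N 2`, and `c 1 g` is orthogonal to `W 1` (`B (g (f 1)) (g w) = 0`); `W_nd`, `c_eq_zero`. -/
theorem N1_of (h : ∀ w ∈ r.Ep 1, r.ap g w - w ∈ r.Fl 1) : g ∈ r.N 1 := by
  have h2 : g ∈ r.N 2 := fun v hv => Fl_mono one_le_two (h v fun j hj => hv j (by omega))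
  refine (c_eq_zero (by have := r.m3; omega) h2).1 (W_nd (c_mem 1 g) fun u hu => ?_)
  obtain ⟨a, ha⟩ := mem_Fl_one.1 (h u (W_le_Ep hu))
  rw [c, polar_pW hu, eq_sub_of_add_eq (sub_eq_iff_eq_add'.1 ha).symm, polar_sub_left, polar_smul_left', ap_polar, ← ap_e0 g, ap_polar,
    r.ef_ne zero_ne_one, polar_comm, (hu 1 le_rfl).2, mul_zero, sub_zero]

end Fr

end Cfsg.Lib.OS
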