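import Cfsg.Agent.Lib.OS.M6
import Cfsg.Agent.Lib.Orth.Triality
import Cfsg.Agent.Lib.Orth.AutPOmega

/-!
# S3130, the orthogonal model 8: `U` is Sylow in `Ω`, the type map `Θ : Aut Ω → A`, existence of a frame.
-/

set_option autoImplicit false
set_option linter.unusedSectionVars false

namespace Cfsg.Lib.OS

open Subgroup G2S Cfsg.Lib.BG Cfsg.Lib.Orth Finset Module QuadraticMap

/-- `A → Out X → Out X / K` is injective (`A` is a `2`-group, `K` has odd order), so bijective; `Θ` is `Aut X → Out X / K ≅ A`. -/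
theorem theta_of {X A : Type*} [Group X] [Finite X] [Group A] [Finite A] (fl : A →* MulAut X) (p2 : IsPGroup 2 A)
    (inj : ∀ θ, fl θ ∈ Cfsg.Inn X → θ = 1) (K : Subgroup (Cfsg.Out X)) [K.Normal] (ho : Odd (Nat.card K)) (hi : K.index = Nat.card A) :
    ∃ Θ : MulAut X →* A, (∀ l, Θ (MulAut.conj l) = 1) ∧ (∀ (α : MulAut X) (n : ℕ), α ^ 2 ^ n = 1 → Θ α = 1 → ∃ l, α = MulAut.conj l) ∧
      ∀ θ, Θ (fl θ) = θ := by
  let π : MulAut X →* Cfsg.Out X ⧸ K := (QuotientGroup.mk' K).comp (QuotientGroup.mk' (Cfsg.Inn X))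
  have key : ∀ (α : MulAut X) (n : ℕ), α ^ 2 ^ n = 1 → π α = 1 → α ∈ Cfsg.Inn X := fun α n h1 h2 => by
    have h3 : orderOf (α : Cfsg.Out X) ∣ Nat.card K := K.orderOf_dvd_natCard ((QuotientGroup.eq_one_iff _).1 h2)
    have h4 : orderOf (α : Cfsg.Out X) ∣ 2 ^ n := orderOf_dvd_of_pow_eq_one (by rw [← QuotientGroup.mk_pow, h1, QuotientGroup.mk_one])
    exact (QuotientGroup.eq_one_iff _).1 (orderOf_eq_one_iff.1
      (Nat.eq_one_of_dvd_coprimes (Nat.Coprime.pow_right n ho.coprime_two_right) h3 h4))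
  have hb : Function.Bijective (π.comp fl) := (Nat.bijective_iff_injective_and_card _).2
    ⟨(injective_iff_map_eq_one _).2 fun θ h => by
      obtain ⟨n, hn⟩ := p2 θ
      exact inj θ (key _ n (by rw [← map_pow, hn, map_one]) h), hi.symm⟩
  let e := MulEquiv.ofBijective _ hb
  refine ⟨e.symm.toMonoidHom.comp π, fun l => ?_, fun α n h1 h2 => ?_, fun θ => e.symm_apply_apply θ⟩
  · have : π (MulAut.conj l) = 1 := by
      rw [MonoidHom.comp_apply, QuotientGroup.mk'_apply (Cfsg.Inn X), (QuotientGroup.eq_one_iff _).2 (MonoidHom.mem_range.2 ⟨l, rfl⟩), map_one]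
    rw [MonoidHom.comp_apply, this, map_one]
  · obtain ⟨l, hl⟩ := key α n h1 (e.symm.map_eq_one_iff.1 h2)
    exact ⟨l, hl.symm⟩

/-- `K = {x | x ^ o = 1}`: its order is odd (Cauchy), and so is prime to `2 ^ k`; `Y / K ≅ range (x ↦ x ^ o)` is a `2`-group. -/
theorem exists_odd_comm {Y : Type*} [Group Y] [Finite Y] (hc : ∀ x y : Y, x * y = y * x) {k o : ℕ} (ho : Odd o) (h : Nat.card Y = 2 ^ k * o) :
    ∃ K : Subgroup Y, K.Normal ∧ Odd (Nat.card K) ∧ K.index = 2 ^ k := by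
  have hn : ∀ K : Subgroup Y, K.Normal := fun K => ⟨fun n hn g => by rwa [hc g, mul_inv_cancel_right]⟩
  obtain ⟨P, hP⟩ := Sylow.exists_subgroup_card_pow_prime 2 (h ▸ dvd_mul_right (2 ^ k) o : 2 ^ k ∣ Nat.card Y)
  have hi : P.index = o := Nat.eq_of_mul_eq_mul_left (pow_pos two_pos k) (by rw [← h, ← hP, card_mul_index])
  have := hn P
  obtain ⟨K, hK⟩ := exists_right_complement'_of_coprime (N := P)
    (by rw [hP, hi]; exact Nat.Coprime.pow_left k ho.coprime_two_left)
  exact ⟨K, hn K, by rwa [← hK.symm.index_eq_card, hi], hK.index_eq_card.trans hP⟩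

variable {F V : Type*} [Field F] [Finite F] [AddCommGroup V] [Module F V] [FiniteDimensional F V] {Q : QuadraticForm F V} {m : ℕ}

/-- Plus type: `Gam.field` on `qPlus` (`qPlus_comp`, `exists_zpowers_ringAut`), transported by `Gam.congr` along `equivalent_qPlus_of_osign`.
Minus type: `exists_gam_of_minus`.  `surjective_fld`. -/
theorem surj_fld (hQ : ND Q) (he : Even (finrank F V)) : Function.Surjective (Gam.fld Q) := by
  obtain ⟨k, hk⟩ := he
  rcases Int.units_eq_one_or (osign Q) with h | h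
  · obtain ⟨e⟩ := equivalent_qPlus_of_osign hQ (hk.trans (two_mul k).symm) h
    exact fun τ => ⟨(Gam.congr e.toLinearEquiv one_ne_zero fun v => by rw [one_mul]; exact e.map_app v).symm
      (Gam.field τ (qPlus_comp (τ : F →+* F) k)), rfl⟩
  · obtain ⟨g, hg, -⟩ := exists_gam_of_minus hQ ⟨k, hk⟩ h
    exact Gam.surjective_fld hg

/-- `mem_center_commutator_iff`; `-1 = 1`. -/
theorem center_bot (hQ : ND Q) (h2 : (2 : F) = 0) (h5 : 5 ≤ finrank F V) : center (commutator (O Q)) = ⊥ := (eq_bot_iff_forall _).2 fun g hg =>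
  Subtype.ext (((mem_center_commutator_iff hQ (not_exc_of_five_le h5) (by omega)).1 hg).elim id fun e =>
    e.trans (O.ext fun v => neg_eq_of_two h2 v))

/-- `card_outG`, `hasQuot_GO_of_two`; the kernel of `outFld` has order two, so it is central, and the quotient is cyclic. -/
theorem outG_comm (hQ : ND Q) (h2 : (2 : F) = 0) (h5 : 5 ≤ finrank F V) :
    Nat.card (Gam.OutG Q) = 2 * Nat.card (F ≃+* F) ∧ ∀ x y : Gam.OutG Q, x * y = y * x := by
  have hX := Gam.hasQuot_GO_of_two hQ (not_exc_of_five_le h5) h2 (by omega)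
  refine ⟨by rw [Gam.card_outG (surj_fld hQ (even_finrank_of_two_eq_zero hQ h2)), hX.relIndex_eq]; simp,
    commutative_of_cyclic_center_quotient (Gam.outFld Q) fun d hd => mem_center_iff.2 fun x => ?_⟩
  exact (Gam.commute_of_hasQuot_two hX x (Gam.ker_outFld (Q := Q) ▸ hd)).eq.symm

theorem odd_congr {Y Y' : Type*} [Group Y] [Group Y'] (e : Y ≃* Y') {n : ℕ} (h : ∃ K : Subgroup Y, K.Normal ∧ Odd (Nat.card K) ∧ K.index = n) :
    ∃ K : Subgroup Y', K.Normal ∧ Odd (Nat.card K) ∧ K.index = n :=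
  let ⟨K, h1, h2, h3⟩ := h
  ⟨K.map (e : Y →* Y'), h1.map _ e.surjective, by rwa [card_map_of_injective e.injective], (K.index_map_equiv e).trans h3⟩

/-- `Ω ≅ PΩ`. -/
noncomputable def toP (hQ : ND Q) (h2 : (2 : F) = 0) (h5 : 5 ≤ finrank F V) : commutator (O Q) ≃* PCom (O Q) :=
  MulEquiv.ofBijective (QuotientGroup.mk' _) ⟨by rw [← MonoidHom.ker_eq_bot_iff, QuotientGroup.ker_mk', center_bot hQ h2 h5],
    QuotientGroup.mk'_surjective _⟩
/-- `Out Ω ≅ Out PΩ` (`outCongr`, `center_bot`).  Dimension eight and Witt index four: `Out ≅ S₃ × Gal` (`equivalent_qPlus`, `zornData`, `nonempty_out_two`), `K = A₃ × K'`.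
Otherwise `Out ≅ OutG Q` (`surjective_rho`, `rho_mem_inn_iff`; compare `nonempty_out_equiv`), `outG_comm`, `exists_odd_comm`. -/
theorem exists_K (hQ : ND Q) (h2 : (2 : F) = 0) (h8 : 8 ≤ finrank F V) {k o : ℕ} (ho : Odd o) (h : 2 ^ k * o = 2 * Nat.card (F ≃+* F)) :
    ∃ K : Subgroup (Cfsg.Out (commutator (O Q))), K.Normal ∧ Odd (Nat.card K) ∧ K.index = 2 ^ k := by
  refine odd_congr (outCongr (toP hQ h2 (by omega))).symm ?_
  by_cases c : finrank F V = 8 ∧ wittIndex Q = 4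
  · obtain ⟨e⟩ := equivalent_qPlus hQ (m := 4) c.1 c.2.ge
    obtain ⟨e'⟩ := (zornData F).nonempty_out_two h2
    refine odd_congr ((outCongr (pcomCongr (O.congrI e.toLinearEquiv e.map_app))).trans e').symm ?_
    rcases k with _ | k
    · rw [pow_zero, one_mul] at h
      exact absurd ho (h ▸ Nat.not_odd_iff_even.2 (even_two_mul _))
    obtain ⟨K, h3, h4, h5⟩ := exists_odd_comm (Y := F ≃+* F) (k := k) (fun x y => IsCyclic.commGroup.mul_comm x y) ho (by
      rw [pow_succ', mul_assoc] at h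
      exact (Nat.eq_of_mul_eq_mul_left two_pos h).symm)
    refine ⟨(alternatingGroup (Fin 3)).prod K, inferInstance, ?_, by rw [index_prod, alternatingGroup.index_eq_two, h5, pow_succ']⟩
    rw [Nat.card_congr (prodEquiv _ K).toEquiv, Nat.card_prod, nat_card_alternatingGroup]
    exact Odd.mul (by simp; decide) h4
  · have h5 : 5 ≤ finrank F V := by omega
    let ψ : Gam Q →* Cfsg.Out (PCom (O Q)) := (QuotientGroup.mk' _).comp (Gam.rho Q)
    have hs : Function.Surjective ψ := (QuotientGroup.mk'_surjective _).comp (surjective_rho hQ (by omega) fun a b => c ⟨a, b⟩)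
    have hk : Gam.ZOm Q = ψ.ker := Subgroup.ext fun g =>
      ((QuotientGroup.eq_one_iff _).trans (Gam.rho_mem_inn_iff hQ (not_exc_of_five_le h5) (by omega))).symm
    exact odd_congr ((QuotientGroup.quotientMulEquivOfEq hk).trans (QuotientGroup.quotientKerEquivOfSurjective ψ hs))
      (exists_odd_comm (outG_comm hQ h2 h5).2 ho ((outG_comm hQ h2 h5).1.trans h.symm))

/-- The semi-isometries fixing a set of vectors. -/
def Γ0 (Q : QuadraticForm F V) (T : Set V) : Subgroup (Gam Q) where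
  carrier := {g | g.c = 1 ∧ ∀ v ∈ T, g.T v = v}
  one_mem' := ⟨rfl, fun _ _ => rfl⟩
  mul_mem' {a b} ha hb := ⟨Units.ext (by rw [Gam.mul_c, ha.1, hb.1]; simp), fun v hv => by rw [Gam.mul_T, hb.2 v hv, ha.2 v hv]⟩
  inv_mem' {a} ha := ⟨Units.ext (by rw [Gam.inv_c, ha.1]; simp), fun v hv => by nth_rw 1 [← ha.2 v hv]; rw [Gam.inv_T_T]⟩

theorem not_mem_fam {e f : Fin m → V} (h : IsHypFam Q e f) {v : V} (hv : Q v = 1) (he : ∀ i, polar Q (e i) v = 0) (hf : ∀ i, polar Q (f i) v = 0) :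
    v ∉ Submodule.span F (Set.range (Sum.elim e f)) := fun k => by
  have : v ∈ perp Q (Submodule.span F (Set.range (Sum.elim e f))) := mem_perp_span.2 (by rintro _ ⟨i | i, rfl⟩; exacts [he i, hf i])
  rw [nd_restrict_iff.1 h.nd_span v k (mem_perp'.1 this), map_zero] at hv
  exact zero_ne_one hv
/-- `X = span T` has dimension `2 m + 1` and `perp X = F v₀`.  The kernel of `fld` on `Γ0` is `ofO (fixer X) = {1, refl v₀}` (`fixer_eq_genIn`).  `fld` is onto:
take `g` with `g.σ = τ` (`surj_fld`), make `c = 1` by a scalar (`isSquare_of_two_eq_zero`), and move `g T` back to `T` by Witt (`witt_rel` with `U = ⊥`, for a linear map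
extending `t ↦ g t` on the independent family `T`). -/
theorem card_Γ0 (hQ : ND Q) (h2 : (2 : F) = 0) (hr : finrank F V = 2 * m + 2) {e f : Fin m → V} (h : IsHypFam Q e f) {v : V} (hv : Q v = 1)
    (he : ∀ i, polar Q (e i) v = 0) (hf : ∀ i, polar Q (f i) v = 0) :
    Nat.card (Γ0 Q (insert v (Set.range e ∪ Set.range f))) = 2 * Nat.card (F ≃+* F) := by
  let φ := (Gam.fld Q).comp (Γ0 Q (insert v (Set.range e ∪ Set.range f))).subtype
  have hv0 : Q v ≠ 0 := hv.trans_ne one_ne_zero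
  have hs : Function.Surjective φ := fun τ => by
    obtain ⟨g₀, rfl⟩ := surj_fld hQ (even_finrank_of_two_eq_zero hQ h2) τ
    obtain ⟨s, hs⟩ := isSquare_of_two_eq_zero h2 (g₀.c : F)
    have s0 : s ≠ 0 := fun k => g₀.c.ne_zero (by rw [hs, k, mul_zero])
    obtain ⟨g, g1, g2⟩ : ∃ g : Gam Q, g.σ = g₀.σ ∧ (g.c : F) = 1 :=
      ⟨Gam.scal Q (Units.mk0 s s0)⁻¹ * g₀, by simp, by rw [Gam.mul_c, Gam.scal_c, Gam.scal_σ, hs]; simp; field_simp⟩
    have p : ∀ x y, polar Q (g.T x) (g.T y) = g.σ (polar Q x y) := fun x y => by rw [Gam.map_polar, g2, one_mul]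
    have q : ∀ x, Q (g.T x) = g.σ (Q x) := fun x => by rw [Gam.map_Q, g2, one_mul]
    have h' : IsHypFam Q (fun i => g.T (e i)) fun i => g.T (f i) :=
      ⟨fun i => by simp [q, h.left], fun i => by simp [q, h.right], fun i j => by simp [p, h.ll], fun i j => by simp [p, h.rr],
        fun i j => by rw [p, h.lr]; split_ifs <;> simp⟩
    obtain ⟨o, ho⟩ := witt_family hQ
      (h'.linearIndependent.option (not_mem_fam h' (v := g.T v) (by simp [q, hv]) (fun i => by simp [p, he]) fun i => by simp [p, hf]))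
      (h.linearIndependent.option (not_mem_fam h hv he hf)) (by rintro (_ | i | i) <;> simp [q, hv, h.left, h.right]) (by
        rintro (_ | i | i) (_ | j | j) - <;>
          simp [p, he, hf, polar_comm Q v, polar_self_of_two h2, h.ll, h.rr, h.lr, h.rl, apply_ite g.σ])
    refine ⟨⟨Gam.ofO Q o * g, Units.ext (by simp [g2]), ?_⟩, by simp [φ, g1]⟩
    rintro _ (rfl | ⟨i, rfl⟩ | ⟨i, rfl⟩)
    exacts [ho none, ho (some (.inl i)), ho (some (.inr i))]
  have hX : perp Q (Submodule.span F (insert v (Set.range e ∪ Set.range f))) = F ∙ v := by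
    refine (Submodule.eq_of_le_of_finrank_eq ((Submodule.span_singleton_le_iff_mem _ _).2 (mem_perp_span.2 ?_)) ?_).symm
    · rintro _ (rfl | ⟨i, rfl⟩ | ⟨i, rfl⟩)
      exacts [polar_self_of_two h2 _, he i, hf i]
    · rw [finrank_span_singleton (ne_zero_of_Q_ne_zero hv0), finrank_perp hQ, Submodule.span_insert, sup_comm, ← Set.Sum.elim_range,
        Submodule.finrank_sup_span_singleton (not_mem_fam h hv he hf), h.finrank_span, hr]
      omega
  have hρ : Gam.ofO Q (refl Q v) ∈ Γ0 Q (insert v (Set.range e ∪ Set.range f)) := ⟨rfl, by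
    rintro _ (rfl | ⟨i, rfl⟩ | ⟨i, rfl⟩)
    exacts [refl_apply_of_perp (polar_self_of_two h2 _), refl_apply_of_perp (by rw [polar_comm, he]),
      refl_apply_of_perp (by rw [polar_comm, hf])]⟩
  have hk : φ.ker = zpowers ⟨_, hρ⟩ := by
    refine le_antisymm (fun g hg => ?_) (zpowers_le.2 rfl)
    obtain ⟨o, ho⟩ := Gam.mem_range_ofO.2 ⟨hg, g.2.1⟩
    have h1 : o ∈ fixer Q (Submodule.span F (insert v (Set.range e ∪ Set.range f))) :=
      mem_fixer_span.2 fun w hw => by rw [← Gam.ofO_T, ho]; exact g.2.2 w hw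
    rw [fixer_eq_genIn hQ, hX] at h1
    obtain ⟨k, rfl⟩ := genIn_le (K := zpowers (refl Q v)) (fun w hw h0 => by
      obtain ⟨a, rfl⟩ := Submodule.mem_span_singleton.1 hw
      rw [refl_smul (by rintro rfl; simp at h0)]
      exact mem_zpowers _) (fun u hu z _ h0 _ => by
      obtain ⟨a, rfl⟩ := Submodule.mem_span_singleton.1 hu
      rw [Q_smul, hv, mul_one, sq_eq_zero_iff] at h0
      rw [h0, zero_smul, eich_zero_left]
      exact one_mem _) h1
    exact ⟨k, Subtype.ext (by simpa using ho)⟩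
  rw [← φ.ker.card_mul_index, Subgroup.index_ker, MonoidHom.range_eq_top.2 hs, card_top, hk, Nat.card_zpowers, orderOf_eq_prime (p := 2)]
  · exact Subtype.ext (by simp [pow_two, ← map_mul, refl_mul_self])
  · exact fun k => refl_ne_one hQ hv0 (Gam.ofO_injective ((congrArg Subtype.val k).trans (map_one _).symm))

/-- `exists_isHypFam_of_le` (`wittIndex_eq_or`), `exists_Q_eq` in the plane; extend `e`, `f` by zero; `A` is a Sylow subgroup of `Γ0` containing `ofO (refl v₀)`. -/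
theorem exists_fr (hQ : ND Q) (h2 : (2 : F) = 0) (hr : finrank F V = 2 * m + 2) (hm : 3 ≤ m) : ∃ A : Subgroup (Gam Q), Nonempty (Fr Q m A) := by
  obtain ⟨e, f, h⟩ := exists_isHypFam_of_le hQ (m := m) (by have := wittIndex_eq_or hQ (m := m + 1) hr; omega)
  obtain ⟨⟨v, hv'⟩, hv⟩ := exists_Q_eq (nd_restrict_perp hQ h.nd_span) (by rw [finrank_perp hQ, h.finrank_span, hr]; omega) 1
  replace hv : Q v = 1 := hv
  have he : ∀ i, polar Q (e i) v = 0 := fun i => mem_perp_span.1 hv' _ ⟨.inl i, rfl⟩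
  have hf : ∀ i, polar Q (f i) v = 0 := fun i => mem_perp_span.1 hv' _ ⟨.inr i, rfl⟩
  have hρ : Gam.ofO Q (refl Q v) ∈ Γ0 Q (insert v (Set.range e ∪ Set.range f)) := ⟨rfl, by
    rintro _ (rfl | ⟨i, rfl⟩ | ⟨i, rfl⟩)
    exacts [refl_apply_of_perp (polar_self_of_two h2 _), refl_apply_of_perp (by rw [polar_comm, he]),
      refl_apply_of_perp (by rw [polar_comm, hf])]⟩
  have hp : IsPGroup 2 (zpowers (⟨_, hρ⟩ : Γ0 Q (insert v (Set.range e ∪ Set.range f)))) :=
    IsPGroup.of_card_dvd_pow (n := 1) (by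
      rw [Nat.card_zpowers, pow_one, orderOf_dvd_iff_pow_eq_one]
      exact Subtype.ext (by simp [pow_two, ← map_mul, refl_mul_self]))
  obtain ⟨S, hS⟩ := hp.exists_le_sylow
  have fx : ∀ θ : S.1.map (Subgroup.subtype _), θ.1 ∈ Γ0 Q (insert v (Set.range e ∪ Set.range f)) := fun θ => map_subtype_le _ θ.2
  refine ⟨S.1.map (Subgroup.subtype _), ⟨⟨fun i => if c : i < m then e ⟨i, c⟩ else 0, fun i => if c : i < m then f ⟨i, c⟩ else 0, v,
    Subgroup.subtype _, ⟨_, mem_map_of_mem _ (hS (mem_zpowers _))⟩, h2, hQ, hr, hm, fun i => ?_, fun i => ?_, fun i j => ?_, fun i j => ?_,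
    fun i j => ?_, fun i c => dif_neg c.not_gt, fun i c => dif_neg c.not_gt, fun i => ?_, fun i => ?_, hv, fun θ => (fx θ).1, fun θ i => ?_,
    fun θ i => ?_, fun θ => (fx θ).2 v (.inl rfl), Subtype.val_injective, rfl, S.2.map _, S.1.index, ?_, ?_⟩⟩⟩
  · split_ifs <;> simp [h.left]
  · split_ifs <;> simp [h.right]
  · split_ifs <;> simp [h.ll]
  · split_ifs <;> simp [h.rr]
  · by_cases a : i < m <;> by_cases b : j < m <;> simp [a, b, h.lr]
    omega
  · split_ifs <;> simp [he]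
  · split_ifs <;> simp [hf]
  · split_ifs
    exacts [(fx θ).2 _ (.inr (.inl ⟨_, rfl⟩)), map_zero _]
  · split_ifs
    exacts [(fx θ).2 _ (.inr (.inr ⟨_, rfl⟩)), map_zero _]
  · exact Nat.not_even_iff_odd.1 (even_iff_two_dvd.not.2 S.not_dvd_index)
  · rw [card_map_of_injective (subtype_injective _), card_mul_index, card_Γ0 hQ h2 hr h hv he hf]

namespace Fr

variable {A : Type*} [Group A] (r : Fr Q m A)

/-- `card_O_plus`, `card_O_minus`, `wittIndex_eq_or`, `index_commutator_of_even`, `card_U`: the index of `U` in `Ω` is odd. -/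
theorem em : Em r.j := by
  have inj : Function.Injective r.j := inclusion_injective _
  refine ⟨inj, .mk' le_top (r.pU.of_surjective _ r.j.rangeRestrict_surjective) ?_⟩
  obtain ⟨n, h1, hq, -⟩ := r.exists_n
  have ev : ∀ k, Even (Nat.card F ^ (k + 1)) := fun k => (hq ▸ Nat.even_pow.2 ⟨even_two, by omega⟩ : Even (Nat.card F)).pow_of_ne_zero k.succ_ne_zero
  have od : ∀ k, Odd (Nat.card F ^ (k + 1) - 1) := fun k => Nat.Even.sub_odd (pow_pos Nat.card_pos _) (ev k) odd_one
  have op : Odd (∏ i ∈ range m, (Nat.card F ^ (2 * (i + 1)) - 1)) := prod_induction _ Odd (fun _ _ => Odd.mul) odd_one fun i _ => od (2 * i + 1)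
  obtain ⟨o, ho, e⟩ : ∃ o, Odd o ∧ Nat.card (O Q) = 2 * Nat.card F ^ ((m + 1) * m) * o := by
    rcases wittIndex_eq_or r.nd (m := m + 1) r.rk with c | c
    · exact ⟨_, (od m).mul op, by rw [card_O_plus r.nd r.rk c, mul_assoc]⟩
    · exact ⟨_, (ev m).add_one.mul op, by rw [card_O_minus r.nd r.rk (Nat.succ_injective c), mul_assoc]⟩
  rw [← (commutator (O Q)).index_mul_card, r.idx2, mul_assoc, ← r.j.range.card_mul_index, ← Nat.card_congr (MonoidHom.ofInjective inj).toEquiv,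
    card_U, mul_comm m] at e
  rw [relIndex_top_right, Nat.eq_of_mul_eq_mul_left (pow_pos Nat.card_pos _) (Nat.eq_of_mul_eq_mul_left two_pos e), ← even_iff_two_dvd]
  exact Nat.not_even_iff_odd.2 ho
/-- `fl θ` inner gives `rho (s θ)` inner (`rho_mk`), `s θ ∈ ZOm` (`rho_mem_inn_iff`, `mem_ZOm`), `σ = 1`, `θ ∈ {1, γ}`; `refl v₀ = t • ω` forces `t ^ 2 = 1`, `t = 1`; `refl_not`. -/
theorem fl_inn (θ : A) (h : r.fl θ ∈ Cfsg.Inn (commutator (O Q))) : θ = 1 := by
  obtain ⟨l, hl⟩ := h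
  have h1 : Gam.rho Q (r.s θ) ∈ Cfsg.Inn (PCom (O Q)) := ⟨l, MulEquiv.ext fun x => by
    induction x using QuotientGroup.induction_on with
    | H x => exact congrArg QuotientGroup.mk (DFunLike.congr_fun hl x)⟩
  obtain ⟨t, o, ho, e⟩ := Gam.mem_ZOm.1 ((Gam.rho_mem_inn_iff r.nd r.nE (by have := r.rk; have := r.m3; omega)).1 h1)
  refine (r.ker (by simp [e])).resolve_right ?_
  rintro rfl
  have h2 : (t : F) = 1 := sq_inj_of_two r.h2 (by simpa [r.sc] using (congrArg (fun g : Gam Q => (g.c : F)) e).symm)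
  rw [Units.val_eq_one.1 h2, map_one, one_mul, r.sγ] at e
  exact refl_not (Gam.ofO_injective e ▸ ho)
theorem exists_Θ : ∃ Θ : MulAut (commutator (O Q)) →* A, (∀ l, Θ (MulAut.conj l) = 1) ∧
    (∀ (α : MulAut (commutator (O Q))) (n : ℕ), α ^ 2 ^ n = 1 → Θ α = 1 → ∃ l, α = MulAut.conj l) ∧ ∀ θ, Θ (r.fl θ) = θ := by
  have := r.finA
  obtain ⟨k, hk⟩ := r.p2.exists_card_eq
  obtain ⟨o, ho, e⟩ := r.odd
  obtain ⟨K, h1, h2, h3⟩ := exists_K r.nd r.h2 (by have := r.rk; have := r.m3; omega) ho (hk ▸ e)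
  exact theta_of r.fl r.p2 r.fl_inn K h2 (h3.trans hk.symm)
include r in
/-- `normal_omega_le_center_or`. -/
theorem qs (N : Subgroup (commutator (O Q))) (hN : N.Normal) : N = ⊤ ∨ N ≤ center (commutator (O Q)) := (normal_omega_le_center_or r.nd (by have := r.rk; have := r.m3; omega) N).symm
include r in
/-- `center_bot`. -/
theorem lift (β : MulAut (commutator (O Q) ⧸ center (commutator (O Q)))) :
    ∃ α : MulAut (commutator (O Q)), ∀ x : commutator (O Q), β x = (α x : commutator (O Q)) := by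
  let e := toP r.nd r.h2 (by have := r.rk; have := r.m3; omega)
  exact ⟨(e.trans β).trans e.symm, fun x => (e.apply_symm_apply _).symm⟩

end Fr

end Cfsg.Lib.OS
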