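import Cfsg.Agent.Lib.OS.Ab
import Cfsg.Agent.Lib.USt.Gn

/-!
# S3130: general lemmas on `St` over `BM`.  Copy of `USt/Gn`.
-/

set_option autoImplicit false
set_option linter.unusedSectionVars false

namespace Cfsg.Lib.OS

open Subgroup G2S Cfsg.Lib.BG Cfsg.Lib.GW GSt.SLa Cfsg.Lib.CT
open scoped commutatorElement Cfsg.Lib.Transfer

variable {J A G : Type*} [Group J] [Finite J] [Group A] [Group G] [Finite G] {ψ : J →* G} {t g u v : G} {P : Subgroup G}

namespace BM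
variable (b : BM J A)
include b

theorem Θ_cj (α β : MulAut J) : b.Θ (α * β * α⁻¹) = b.Θ β := by
  rw [map_mul, map_mul, map_inv, b.comm (b.Θ α), mul_inv_cancel_right]
/-- `oddZ`. -/
theorem two_center {x : J} {n : ℕ} (h : x ∈ center J) (hn : x ^ 2 ^ n = 1) : x = 1 := 
  let ⟨_, e⟩ := odd_pow b.oddZ; one_of hn (e x h)
/-- An exponent killing the centre, `≡ 1` modulo `2 ^ n`. -/
theorem exists_k (n : ℕ) : ∃ q, ∀ z ∈ center J, z ^ (2 ^ n * q + 1) = 1 := by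
  have c : (Nat.card (center J)).Coprime (2 ^ n) := (Nat.coprime_two_right.2 b.oddZ).pow_right n
  have h := (Nat.ModEq.pow_totient c).symm
  obtain ⟨q, e⟩ := (Nat.modEq_iff_dvd' (Nat.one_le_pow _ _ Nat.card_pos)).1 h
  obtain ⟨k, hk⟩ := Nat.exists_eq_succ_of_ne_zero (Nat.totient_pos.2 (Nat.two_pow_pos n)).ne'
  refine ⟨q, fun z hz => ?_⟩
  rw [← e, Nat.sub_add_cancel (Nat.one_le_pow _ _ Nat.card_pos), hk, pow_succ', pow_mul,
    show z ^ Nat.card (center J) = 1 from congrArg Subtype.val (pow_card_eq_one' (x := (⟨z, hz⟩ : center J))), one_pow]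
omit b in
theorem pow_k {X : Type*} [Group X] {x : X} {n : ℕ} (h : x ^ 2 ^ n = 1) (q : ℕ) : x ^ (2 ^ n * q + 1) = x := by
  rw [pow_succ, pow_mul, h, one_pow, one_mul]
/-- `x ↦ (f x)⁻¹ * f' x` is a homomorphism with abelian image, `J` is perfect. -/
theorem hom_ext {X : Type*} [Group X] {f f' : J →* X} (h : ∀ x y, Commute ((f x)⁻¹ * f' x) (f y))
    (h' : ∀ x y, Commute ((f x)⁻¹ * f' x) (f' y)) : f = f' := by
  let c : J →* X := MonoidHom.mk' (fun x => (f x)⁻¹ * f' x) fun x y => by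
    rw [map_mul, map_mul, mul_inv_rev, ← mul_assoc _ (f y)⁻¹, (h x y).inv_right.eq]; group
  have : commutator J ≤ c.ker := by
    rw [_root_.commutator_def, commutator_le]
    exact fun x _ y _ => by
      rw [MonoidHom.mem_ker, map_commutatorElement, commutatorElement_eq_one_iff_commute]
      exact (h x y).inv_right.mul_right (h' x y)
  exact MonoidHom.ext fun x => inv_mul_eq_one.1 (this (b.perf ▸ mem_top x))
/-- `y ↦ ⁅x, y⁆` is a homomorphism to the centre. -/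
theorem center_of {x : J} (h : ∀ y, ⁅x, y⁆ ∈ center J) : x ∈ center J := by
  have k : ∀ y, y⁻¹ * MulAut.conj x y ∈ center J := fun y => by
    simpa [commutatorElement_def, mul_assoc] using inv_mem (h y⁻¹)
  have := b.hom_ext (f := .id J) (f' := (MulAut.conj x).toMonoidHom) (fun y z => (mem_center_iff.1 (k y) _).symm)
    fun y z => (mem_center_iff.1 (k y) _).symm
  exact mem_center_iff.2 fun y => (cjf.1 (DFunLike.congr_fun this y).symm).symm
/-- `hom_ext`. -/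
theorem aut_ext {α β : MulAut J} (h : ∀ x, (α x)⁻¹ * β x ∈ center J) : α = β := 
  MulEquiv.toMonoidHom_injective (b.hom_ext (fun y _ => (mem_center_iff.1 (h y) _).symm)
    fun y _ => (mem_center_iff.1 (h y) _).symm)
/-- `l ^ 2 ^ n` is central; `exists_k`. -/
theorem two_of {l : J} {n : ℕ} (h : MulAut.conj l ^ 2 ^ n = 1) : ∃ l', l' ^ 2 ^ n = 1 ∧ MulAut.conj l = MulAut.conj l' := by
  obtain ⟨q, e⟩ := b.exists_k n
  refine ⟨l ^ (2 ^ n * q + 1), ?_, by rw [map_pow, pow_k h]⟩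
  rw [← map_pow] at h
  rw [← pow_mul, mul_comm, pow_mul]
  exact e _ (mem_center_iff.2 fun y => (cjf.1 (DFunLike.congr_fun h y)).symm)
/-- The case of involutions. -/
theorem sq_of {l : J} (h : MulAut.conj l * MulAut.conj l = 1) : ∃ l', l' * l' = 1 ∧ MulAut.conj l = MulAut.conj l' := by
  simpa only [pow_one, sq] using b.two_of (l := l) (n := 1) (by rwa [pow_one, sq])
/-- Two `2`-elements congruent modulo the centre are equal (they commute). -/
theorem two_eq {x y : J} {n k : ℕ} (hx : x ^ 2 ^ n = 1) (hy : y ^ 2 ^ k = 1) (h : x⁻¹ * y ∈ center J) : x = y := by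
  have c : Commute x⁻¹ y := by simpa using (Commute.refl x⁻¹).inv_right.mul_right (mem_center_iff.1 h x⁻¹)
  refine inv_mul_eq_one.1 (b.two_center (n := n + k) h ?_)
  rw [c.mul_pow, pow_add, pow_mul, inv_pow, hx, mul_comm, pow_mul, hy]; simp
theorem not_comm : ¬ ∀ x y : J, x * y = y * x := fun h =>
  let ⟨u, _, _, u2, u1, _⟩ := b.tri; u1 (b.two_center (n := 1) (mem_center_iff.2 fun y => h y u) (by rwa [pow_one, sq]))
/-- Two homomorphisms with the same range (`lift`; `ψ J / Z (ψ J) ≅ J / Z J` as `⁅x, J⁆ ≤ Z` forces `x ∈ Z`; `hom_ext`). -/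
theorem lift_range {χ : J →* G} (hk : ∀ x, ψ x = 1 → x ∈ center J) (hχ : ∀ x, χ x = 1 → x ∈ center J)
    (h : χ.range ≤ ψ.range) : ∃ γ : MulAut J, ∀ x, χ x = ψ (γ x) := by
  choose f hf using fun x => h ⟨x, rfl⟩
  have cz : ∀ z ∈ center J, ∀ y, Commute (ψ z) (ψ y) := fun z hz y =>
    Commute.map (show Commute z y from (mem_center_iff.1 hz y).symm) ψ
  let β₀ : J →* J ⧸ center J := MonoidHom.mk' (fun x => f x) fun x y => QuotientGroup.eq.2 (hk _ (by
    rw [map_mul, map_inv, map_mul, hf, hf, hf, map_mul, inv_mul_cancel]))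
  have l : β₀.ker ≤ center J := fun x hx => b.center_of fun y => hχ _ (by
    rw [map_commutatorElement, commutatorElement_eq_one_iff_commute, ← hf, ← hf]
    exact cz _ ((QuotientGroup.eq_one_iff _).1 hx) _)
  have e : β₀.ker = center J := by
    refine eq_of_le_of_card_ge l (Nat.le_of_mul_le_mul_right ?_ (Nat.pos_of_ne_zero (center J).index_ne_zero_of_finite))
    rw [card_mul_index, ← β₀.ker.card_mul_index, index_ker]
    exact Nat.mul_le_mul_left _ (card_le_card_group _)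
  let β : J ⧸ center J →* J ⧸ center J := QuotientGroup.lift _ β₀ e.ge
  have iβ : Function.Injective β := (injective_iff_map_eq_one β).2 fun x hx => by
    obtain ⟨x, rfl⟩ := QuotientGroup.mk_surjective x
    exact (QuotientGroup.eq_one_iff x).2 (l hx)
  obtain ⟨γ, hγ⟩ := b.lift (MulEquiv.ofBijective β iβ.bijective_of_finite)
  have k : ∀ x, (ψ (γ x))⁻¹ * χ x = ψ ((γ x)⁻¹ * f x) := fun x => by rw [map_mul, map_inv, hf]
  have z : ∀ x, (γ x)⁻¹ * f x ∈ center J := fun x => QuotientGroup.eq.1 (hγ x).symm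
  have := b.hom_ext (f := ψ.comp γ.toMonoidHom) (f' := χ) (fun x y => (k x).symm ▸ cz _ (z x) _)
    fun x y => by rw [← hf y]; exact (k x).symm ▸ cz _ (z x) _
  exact ⟨γ, fun x => (DFunLike.congr_fun this x).symm⟩
/-- An automorphism of `ψ J` comes from `J`. -/
theorem lift_aut (hk : ∀ x, ψ x = 1 → x ∈ center J) (h : ∀ x, g * ψ x * g⁻¹ ∈ ψ.range) :
    ∃ α : MulAut J, ∀ x, g * ψ x * g⁻¹ = ψ (α x) :=
  b.lift_range (χ := (MulAut.conj g).toMonoidHom.comp ψ) hk (fun x e => hk x (conj_eq_one_iff.1 e))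
    (by rintro _ ⟨x, rfl⟩; exact h x)
end BM

namespace St
variable (s : St ψ t)
include s

theorem it : t⁻¹ = t := inv_eq_of_mul_eq_one_left s.t2
theorem kinv (g : G) (h1 : g * t = t * g) (h2 : ∀ x, g * ψ x = ψ x * g) (h : g * g = 1) : g = 1 ∨ g = t :=
  s.k2 g 1 h1 h2 (by rwa [pow_one, sq])
theorem conj (g : G) : St ((MulAut.conj g).toMonoidHom.comp ψ) (g * t * g⁻¹) where
  ker x e := s.ker x (conj_eq_one_iff.1 e)
  t2 := by rw [conj_mul, s.t2]; simp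
  t1 := by simpa using s.t1
  tψ x := by simp [conj_mul, s.tψ]
  cn c hc := by
    obtain ⟨α, hα⟩ := s.cn (g⁻¹ * c * g) (by
      rw [← mul_left_cancel_iff (a := g), ← mul_right_cancel_iff (a := g⁻¹)]; simpa [mul_assoc] using hc)
    exact ⟨α, fun x => by simp [← hα, mul_assoc]⟩
  k2 c n hc h1 h2 := by
    have := s.k2 (g⁻¹ * c * g) n (by
      rw [← mul_left_cancel_iff (a := g), ← mul_right_cancel_iff (a := g⁻¹)]; simpa [mul_assoc] using hc)
      (fun x => by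
        rw [← mul_left_cancel_iff (a := g), ← mul_right_cancel_iff (a := g⁻¹)]; simpa [mul_assoc] using h1 x)
      (by nth_rw 2 [← inv_inv g]; rw [conj_pow, h2]; simp)
    refine this.imp (fun e => ?_) fun e => by rw [← e]; group
    rw [show c = g * (g⁻¹ * c * g) * g⁻¹ by group, e]; group
theorem comp (α : MulAut J) : St (ψ.comp α.toMonoidHom) t where
  ker x h := mem_center_iff.2 fun y => α.injective (by simpa using mem_center_iff.1 (s.ker _ h) (α y))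
  t2 := s.t2
  t1 := s.t1
  tψ _ := s.tψ _
  cn g hg := by
    obtain ⟨β, e⟩ := s.cn g hg
    exact ⟨α⁻¹ * β * α, fun x => by simp [e]⟩
  k2 g n hg e := s.k2 g n hg fun x => by simpa using e (α.symm x)
theorem cL (hg : g * t = t * g) (h : u ∈ ψ.range) : g * u * g⁻¹ ∈ ψ.range := 
  let ⟨x, e⟩ := h; let ⟨_, a⟩ := s.cn g hg; ⟨_, e ▸ (a x).symm⟩

variable (b : BM J A)
include b

/-- `ψ` is injective on `2`-elements. -/
theorem inj2 {x y : J} {n k : ℕ} (hx : x ^ 2 ^ n = 1) (hy : y ^ 2 ^ k = 1) (h : ψ x = ψ y) : x = y := 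
  b.two_eq hx hy (s.ker _ (by rw [map_mul, map_inv, h, inv_mul_cancel]))
/-- Every `2`-element of `L` is the image of a `2`-element of the same exponent. -/
theorem lift2 {n : ℕ} (h : u ∈ ψ.range) (hn : u ^ 2 ^ n = 1) : ∃ x, x ^ 2 ^ n = 1 ∧ ψ x = u := by
  obtain ⟨x, rfl⟩ := h
  obtain ⟨q, e⟩ := b.exists_k n
  refine ⟨x ^ (2 ^ n * q + 1), ?_, by rw [map_pow, BM.pow_k hn]⟩
  rw [← pow_mul, mul_comm, pow_mul]
  exact e _ (s.ker _ (by rw [map_pow, hn]))
theorem aut_uniq {α β : MulAut J} (h : ∀ x, ψ (α x) = ψ (β x)) : α = β := 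
  b.aut_ext fun x => s.ker _ (by rw [map_mul, map_inv, h, inv_mul_cancel])
theorem exists_act : ∃ f : 𝐂[t] →* MulAut J, ∀ (g : 𝐂[t]) x, ψ (f g x) = g * ψ x * g⁻¹ := 
  ⟨MonoidHom.mk' (fun g => (s.cn g (mc.1 g.2)).choose) fun a c => s.aut_uniq b fun x => by
    have e := fun g : 𝐂[t] => (s.cn g (mc.1 g.2)).choose_spec
    rw [MulAut.mul_apply, ← e, ← e, ← e, coe_mul]
    group, fun g x => ((s.cn g (mc.1 g.2)).choose_spec x).symm⟩
/-- The action of `C(t)` on `J`. -/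
noncomputable def act : 𝐂[t] →* MulAut J := (s.exists_act b).choose
theorem act_spec (g : 𝐂[t]) (x : J) : ψ (s.act b g x) = g * ψ x * g⁻¹ := (s.exists_act b).choose_spec g x
theorem act_ψ (x : J) : s.act b ⟨ψ x, mc.2 (s.tψ x).symm⟩ = MulAut.conj x := 
  s.aut_uniq b fun y => by simp [s.act_spec]
theorem act_one (hg : g ∈ 𝐂[t]) : s.act b ⟨g, hg⟩ = 1 ↔ ∀ x, g * ψ x = ψ x * g := 
  ⟨fun e x => cjf.1 ((s.act_spec b ⟨g, hg⟩ x).symm.trans (by rw [e]; rfl)), fun e => s.aut_uniq b fun x =>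
    (s.act_spec b ⟨g, hg⟩ x).trans (cjf.2 (e x))⟩
theorem act_sq (hu : u ∈ 𝐂[t]) (u2 : u * u = 1) : s.act b ⟨u, hu⟩ * s.act b ⟨u, hu⟩ = 1 := by
  rw [← map_mul, show (⟨u, hu⟩ * ⟨u, hu⟩ : 𝐂[t]) = 1 from Subtype.ext u2, map_one]
/-- If `g` centralizes the image of the `2`-element `x`, then `act g` fixes `x`. -/
theorem act_fix (hg : g ∈ 𝐂[t]) {x : J} {n : ℕ} (hx : x ^ 2 ^ n = 1) (h : g * ψ x = ψ x * g) : s.act b ⟨g, hg⟩ x = x := 
  s.inj2 b (by rw [← map_pow, hx, map_one]) hx ((s.act_spec b ⟨g, hg⟩ x).trans (cjf.2 h))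
theorem K0_of (hg : g ∈ 𝐂[t]) {x : J} (h : s.act b ⟨g, hg⟩ = MulAut.conj x) :
    ((ψ x)⁻¹ * g) * t = t * ((ψ x)⁻¹ * g) ∧ ∀ y, (ψ x)⁻¹ * g * ψ y = ψ y * ((ψ x)⁻¹ * g) := 
  ⟨Commute.mul_left (Commute.inv_left (s.tψ x).symm) (mc.1 hg), fun y => cjf.1 (by
    have : ψ (MulAut.conj x y) = g * ψ y * g⁻¹ := h ▸ s.act_spec b ⟨g, hg⟩ y
    calc _ = (ψ x)⁻¹ * (g * ψ y * g⁻¹) * ψ x := by group
      _ = _ := by rw [← this]; simp [mul_assoc])⟩
/-- As `GSt.St.inner`, with `sq_of`. -/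
theorem inner (hu : u ∈ 𝐂[t]) (u2 : u * u = 1) (h : b.Θ (s.act b ⟨u, hu⟩) = 1) :
    ∃ l, l * l = 1 ∧ (u = ψ l ∨ u = ψ l * t) := by
  obtain ⟨l, e⟩ := b.inner _ 1 (by rw [pow_one, sq, s.act_sq b hu u2]) h
  obtain ⟨l, l2, e'⟩ := b.sq_of (l := l) (e ▸ s.act_sq b hu u2)
  obtain ⟨k1, k2⟩ := s.K0_of b hu (e.trans e')
  refine ⟨l, l2, (s.kinv _ k1 k2 ?_).imp (fun e => (inv_mul_eq_one.1 e).symm) inv_mul_eq_iff_eq_mul.1⟩
  have := k2 l⁻¹
  rw [map_inv] at this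
  rw [← mul_assoc, this, mul_assoc, mul_assoc, u2, mul_one, ← mul_inv_rev, ← map_mul, l2, map_one, inv_one]
theorem not_mem : t ∉ ψ.range := fun ⟨x, e⟩ => s.t1 (by
  obtain ⟨r, hr⟩ := odd_pow b.oddZ
  have : x ∈ center J := b.center_of fun y => s.ker _ (by
    rw [map_commutatorElement, commutatorElement_eq_one_iff_mul_comm, e, s.tψ])
  rw [← pow_odd s.t2 r, ← e, ← map_pow, hr x this, map_one])
/-- As `GSt.St.T3`. -/
theorem T3 {a c : G} (hu : u * t = t * u) (ha : a * t = t * a) (hc : c * t = t * c) (u2 : u * u = 1)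
    (e1 : a * u * a⁻¹ = v) (e2 : c * u * c⁻¹ = u * v) : u ∈ ψ.range := by
  have k1 := b.Θ_cj (s.act b ⟨a, mc.2 ha⟩) (s.act b ⟨u, mc.2 hu⟩)
  have k2 := b.Θ_cj (s.act b ⟨c, mc.2 hc⟩) (s.act b ⟨u, mc.2 hu⟩)
  rw [← map_inv, ← map_mul, ← map_mul] at k1 k2
  rw [show (⟨c, mc.2 hc⟩ * ⟨u, mc.2 hu⟩ * (⟨c, mc.2 hc⟩ : 𝐂[t])⁻¹ : 𝐂[t]) =
      ⟨u, mc.2 hu⟩ * (⟨a, mc.2 ha⟩ * ⟨u, mc.2 hu⟩ * (⟨a, mc.2 ha⟩ : 𝐂[t])⁻¹)
    from Subtype.ext (e2.trans (by rw [← e1]; rfl)), map_mul, map_mul, k1, mul_eq_left] at k2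
  obtain ⟨l, -, e | e⟩ := s.inner b _ u2 k2
  · exact ⟨l, e.symm⟩
  have f : ∀ c, c * t = t * c → c * u * c⁻¹ * t ∈ ψ.range := fun c hc => by
    have := s.cL hc ⟨l, rfl⟩
    rwa [e, ← conj_mul, cjf.2 hc, mul_assoc, s.t2, mul_one]
  have f1 := f a ha
  have f2 := f c hc
  rw [e2, mul_assoc, ← e1, mul_mem_cancel_right f1] at f2
  exact f2
/-- `tri`, `T3`, `qs`, `lift_range`. -/
theorem range {χ : J →* G} (hχ : ∀ x, χ x = 1 → x ∈ center J) (h : ∀ x, χ x * t = t * χ x) :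
    ∃ γ : MulAut J, ∀ x, χ x = ψ (γ x) := by
  obtain ⟨u, a, c, u2, u1, e⟩ := b.tri
  have hu : χ u ∈ ψ.range := s.T3 b (v := χ (a * u * a⁻¹)) (h u) (h a) (h c) (by rw [← map_mul, u2, map_one]) (by simp)
    (by rw [← map_inv, ← map_mul, ← map_mul, e, map_mul])
  have := (b.qs (ψ.range.comap χ) ⟨fun x hx g => by simpa using s.cL (h g) hx⟩).resolve_right fun l =>
    u1 (b.two_center (n := 1) (l hu) (by rwa [pow_one, sq]))
  exact b.lift_range s.ker hχ (by rintro _ ⟨x, rfl⟩; exact this.ge (mem_top x))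
/-- The kernel of `act` on `P` lies in `{1, t}` (`k2`). -/
theorem card_two (hP : IsPGroup 2 P) (h : P ≤ 𝐂[t]) :
    Nat.card P ≤ 2 * Nat.card ((P.subgroupOf 𝐂[t]).map (s.act b)) := by
  classical
  let a := (s.act b).comp (P.subgroupOf 𝐂[t]).subtype
  have c3 : Nat.card a.ker ≤ 2 := by
    refine (Nat.card_le_card_of_injective (fun x : a.ker => decide (x.1.1.1 = 1)) fun x y e => ?_).trans_eq (by simp)
    have k : ∀ x : a.ker, x.1.1.1 = 1 ∨ x.1.1.1 = t := fun x =>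
      let ⟨n, hn⟩ := hP ⟨_, x.1.2⟩
      s.k2 _ n (mc.1 x.1.1.2) ((s.act_one b x.1.1.2).1 x.2) (congrArg Subtype.val hn)
    simp only [decide_eq_decide] at e
    refine Subtype.ext (Subtype.ext (Subtype.ext ?_))
    rcases k x with p | p <;> rcases k y with q | q
    exacts [p.trans q.symm, p.trans (e.1 p).symm, (e.2 q).trans q.symm, p.trans q.symm]
  rw [← Nat.card_congr (subgroupOfEquivOfLe h).toEquiv, ← a.ker.card_mul_index, index_ker, MonoidHom.range_comp, range_subtype]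
  exact Nat.mul_le_mul_right _ c3
end St

end Cfsg.Lib.OS
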