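import Cfsg.Agent.Lib.OS.SB_a

/-!
# S3130, split case IV: the graph case of the transfer, first part.  `S = T ⊓ N ≤ N0`, `φ` standard of type `(γ, γ)`, `R = C_S(φ) = V₁ V₂ B`, `V = m.V γ`, `γ ≠ 1` is `p.ι1`, `z₁ = μ (j z)`, `z₂ = ν (j z)`.
-/

set_option autoImplicit false
set_option linter.unusedSectionVars false

namespace Cfsg.Lib.OS

open Subgroup G2S Cfsg.Lib.BG Cfsg.Lib.GW GSt.SLa
open USt (conj_one_iff pg_prod N0_le sup_t A_card A_norm P_card P_cen cen_focal trd PD UP)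
open GSt (N0 HH)
open scoped commutatorElement Cfsg.Lib.Transfer

variable {J U A G : Type*} [Group J] [Finite J] [Group U] [Finite U] [Group A] [Group G] [Finite G] {m : SM J U A}
  {ψ μ ν : J →* G} {t g φ r y : G} {P T Γ N X Y : Subgroup G} {α β : MulAut J} {θ η ι : A}

theorem ac_c1 (h : Ac μ ν g 1 β) : g ∈ 𝐂(μ.range) := mem_cent.2 (by rintro _ ⟨x, rfl⟩; exact (cjf.1 (h.1 x)).symm)
theorem ac_c2 (h : Ac μ ν g α 1) : g ∈ 𝐂(ν.range) := ac_c1 (And.symm h)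
theorem c_ac (h1 : g ∈ 𝐂(μ.range)) (h2 : g ∈ 𝐂(ν.range)) : Ac μ ν g 1 1 :=
  ⟨fun x => cjf.2 (mem_cent.1 h1 _ ⟨x, rfl⟩).symm, fun x => cjf.2 (mem_cent.1 h2 _ ⟨x, rfl⟩).symm⟩
theorem N0_le' : N0 μ ν ≤ 𝐍(ν.range) := GSt.N0_symm.ge.trans N0_le
theorem SM.V_fU (m : SM J U A) {x : U} (h : x ∈ m.V θ) (η : A) : m.fU η x ∈ m.V θ :=
  mem_V.2 (by rw [← MulAut.mul_apply, ← map_mul, m.comm, map_mul, MulAut.mul_apply, mem_V.1 h])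

namespace SN
variable (s : SN m ψ t μ ν T Γ N)
include s
theorem cc (h : g ∈ T) (h1 : g ∈ 𝐂(μ.range)) (h2 : g ∈ 𝐂(ν.range)) : g = 1 := s.T_eq h (one_mem _) (c_ac h1 h2) GSt.Ac.one
theorem ac_μ (x : J) : Ac μ ν (μ x) (MulAut.conj x) 1 := by simpa using s.sq.ac_μν x 1
theorem ac_ν (x : J) : Ac μ ν (ν x) 1 (MulAut.conj x) := by simpa using s.sq.ac_μν 1 x
theorem μ_TN (x : U) : μ (m.j x) ∈ T ⊓ N := ⟨s.SS_T (mem_sup_left ⟨x, rfl⟩), s.μN ⟨_, rfl⟩⟩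
theorem ν_TN (x : U) : ν (m.j x) ∈ T ⊓ N := s.symm.μ_TN x
theorem card_μ {E : Subgroup J} (h : IsPGroup 2 E) : Nat.card (E.map μ) = Nat.card E :=
  (Nat.card_congr (mapEquiv _ (eq_bot_iff.2 fun x hx =>
    m.two_center (s.kerμ x hx.2) (congrArg Subtype.val (h ⟨x, hx.1⟩).choose_spec))).toEquiv).symm
theorem tΓt (h : g ∈ Γ ⊓ N) : t * g * t ∈ Γ ⊓ N := mem_inf.2 ⟨mul_mem (mul_mem s.tΓ h.1) s.tΓ, by simpa only [s.it] using s.cjN h.2 t⟩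
theorem dg (hγ : ∀ φ' ι, Ph m μ ν Γ N φ' ι → ι = m.γ) (h : g ∈ Γ ⊓ N) (a : Ac μ ν g (m.fl ι) (m.fl ι)) (h2 : ι * ι = 1) : ι = 1 ∨ ι = m.γ :=
  or_iff_not_imp_left.2 fun c => hγ _ _ (s.ph_of h a h2 c)
theorem dg2 (hγ : ∀ φ' ι, Ph m μ ν Γ N φ' ι → ι = m.γ) (h : g ∈ Γ ⊓ N) (a : Ac μ ν g (m.fl θ) (m.fl η)) (h1 : θ * θ = 1) (h2 : η * η = 1) :
    θ * η = 1 ∨ θ * η = m.γ :=
  s.dg hγ (mul_mem h (s.tΓt h)) (by simpa only [← map_mul, m.comm η θ] using a.mul (s.sq.ac_t a)) (Inv.mul_self_mul_of_comm h1 h2 (m.comm _ _))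
theorem ty_sq (h : Ty m μ ν g θ η) (g2 : g * g = 1) : θ * θ = 1 ∧ η * η = 1 :=
  let ⟨_, _, a⟩ := h; ⟨(m.R_sq (s.sq.ac_sq m.toBM a g2).1).2, (m.R_sq (s.sq.ac_sq m.toBM a g2).2).2⟩
end SN
/-- `C_S(y)`. -/
abbrev CS (T N : Subgroup G) (y : G) : Subgroup G := T ⊓ N ⊓ 𝐂[y]

/-- The hypotheses of this file. -/
structure KS (m : SM J U A) (ψ : J →* G) (t : G) (μ ν : J →* G) (T Γ N : Subgroup G) (φ : G) : Prop extends SN m ψ t μ ν T Γ N where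
  p : Ph m μ ν Γ N φ m.γ
  h0 : T ⊓ N ≤ N0 μ ν

namespace KS
variable (s : KS m ψ t μ ν T Γ N φ)
include s

theorem symm : KS m ψ t ν μ T Γ N φ := ⟨s.toSN.symm, s.p.symm, s.h0.trans GSt.N0_symm.ge⟩
/-- `p.ac`. -/
theorem V1 {x : U} (h : x ∈ m.V m.γ) : μ (m.j x) ∈ CS T N φ :=   ⟨s.μ_TN x, mc.2 (cjf.1 (by rw [s.p.ac.1, m.fl_j, mem_V.1 h])).symm⟩
/-- `T_U1`-type computation: `x ∈ R` acts on the first factor as `conj (j a) * fl θ` with `a ∈ V` (`decN`, `p.cen`, `fix_pr`). -/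
theorem act {x : G} (h : x ∈ CS T N φ) : ∃ a ∈ m.V m.γ, ∃ θ β, Ac μ ν x (MulAut.conj (m.j a) * m.fl θ) β := by
  obtain ⟨θ, η, a, c, e⟩ := s.ty h.1.1 (s.h0 h.1)
  have := (s.sq.uniq m.toBM (e.mul s.p.ac) (mc.1 h.2 ▸ s.p.ac.mul e)).1
  rw [m.fl_R m.γ] at this
  exact ⟨a, mem_V.2 (by simpa using (m.R_cm this).symm), θ, _, e⟩
/-- `act`, `AB` for `K = {v ∈ V | μ (j v) ∈ X}` (`⁅x, μ (j v)⁆ ∈ X`, `V1`, `R_j`; `fU θ` maps `V` to `V` by `comm`). -/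
theorem ab1 (hX : X ≤ CS T N φ) (hn : CS T N φ ≤ 𝐍(X)) (hz : μ (m.j m.z) ∉ X) {x : G} (h : x ∈ X) : ∃ α ∈ m.D0, ∃ β, Ac μ ν x α β := by
  obtain ⟨a, ha, θ, β, e⟩ := s.act (hX h)
  obtain ⟨h1, h2⟩ := m.AB s.p.ι1 a θ (m.V m.γ ⊓ X.comap (μ.comp m.j)) ha inf_le_left (le_norm_iff.2 fun v hv k hk =>
    mem_inf.2 ⟨mul_mem (mul_mem hv hk.1) (inv_mem hv), by simpa using conj_mem_of_norm (hn (s.V1 hv)) hk.2⟩) (fun c => hz c.2) fun v hv =>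
    mem_inf.2 ⟨mul_mem (mul_mem (mul_mem ha (m.V_fU hv θ)) (inv_mem ha)) (inv_mem hv), by
      change μ (m.j _) ∈ X
      rw [map_mul, map_mul, ← m.R_j, ← e.1]
      simpa [mul_assoc] using mul_mem h (conj_mem_of_norm (hn (s.V1 hv)) (inv_mem h))⟩
  exact ⟨_, ⟨a, h1, θ, h2, rfl⟩, β, e⟩
/-- `ab1` twice, `T_eq`, `card_D0`, `nβ`. -/
theorem ab2 (hX : X ≤ CS T N φ) (hn : CS T N φ ≤ 𝐍(X)) (h1 : μ (m.j m.z) ∉ X) (h2 : ν (m.j m.z) ∉ X) : Nat.card X < m.lo := by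
  have k (x : X) : ∃ α : m.D0, ∃ β : m.D0, Ac μ ν x α β := by
    obtain ⟨α, hα, β, a⟩ := s.ab1 hX hn h1 x.2
    obtain ⟨β', hβ, α', a'⟩ := s.symm.ab1 hX hn h2 x.2
    exact ⟨⟨α, hα⟩, ⟨β', hβ⟩, a.1, a'.1⟩
  choose α β a using k
  have := Nat.card_le_card_of_injective (fun x => (α x, β x)) fun x y e => Subtype.ext (s.T_eq (hX x.2).1.1 (hX y.2).1.1 (a x) (by
    obtain ⟨e1, e2⟩ := Prod.mk.inj e
    rw [e1, e2]; exact a y))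
  rw [Nat.card_prod] at this
  exact (this.trans ((Nat.mul_le_mul m.card_D0 m.card_D0).trans_eq (by ring))).trans_lt m.nβ
theorem nb' (hP : IsPGroup 2 P) (h : P ≤ N ⊓ 𝐂[g * φ * g⁻¹]) : Nat.card P ≤ Nat.card (CS T N φ) :=
  (s.nb (s.pt s.p) hP (h.trans inf_le_left) fun _ hx => mc.1 (h hx).2).trans (s.lb s.p)
theorem pCS (y : G) : IsPGroup 2 (CS T N y) := pgroup_of_le s.syl.pgroup (inf_le_left.trans inf_le_left)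
/-- `lb`, `nb`. -/
theorem conj_eq (hy : g * φ * g⁻¹ ∈ T) (h : g ⋆ CS T N φ ≤ T) : g ⋆ CS T N φ = CS T N (g * φ * g⁻¹) :=   eq_of_le_of_card_ge (le_inf (le_inf h (Transfer.conj_le_iff.2 fun _ hx => s.cjN hx.1.2 g)) (conj_cent1 g φ ▸ Transfer.conj_mono g inf_le_right))
    ((s.nb' (s.pCS _) (inf_le_inf_right _ inf_le_right)).trans_eq (Transfer.card_conj g _).symm)
/-- `conj_eq`, `lb`, `nb`, `Syl.of_max`. -/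
theorem syl_y (hy : g * φ * g⁻¹ ∈ T) (h : g ⋆ CS T N φ ≤ T) : Syl 2 (CS T N (g * φ * g⁻¹)) (N ⊓ 𝐂[g * φ * g⁻¹]) :=   Syl.of_max (inf_le_inf_right _ inf_le_right) (s.pCS _) fun _ hQ h1 h2 => (eq_of_le_of_card_ge h1 (by
    rw [← s.conj_eq hy h, Transfer.card_conj]; exact s.nb' hQ h2)).ge
/-- `Syl.inf` (`h0`, `N0_le`). -/
theorem syl_1 (hy : g * φ * g⁻¹ ∈ T) (h : g ⋆ CS T N φ ≤ T) : Syl 2 (CS T N (g * φ * g⁻¹) ⊓ μ.range) (μ.range ⊓ 𝐂[g * φ * g⁻¹]) := by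
  have := (s.syl_y hy h).inf (N := μ.range ⊓ 𝐂[g * φ * g⁻¹]) (inf_le_inf_right _ s.μN)
    (norm_inf (inf_le_left.trans (s.h0.trans N0_le)) (norm_cent1 inf_le_right))
  rwa [inf_comm μ.range, ← inf_assoc, inf_assoc (T ⊓ N), inf_idem, inf_comm 𝐂[_] μ.range] at this
/-- `LO`, `syl_1` for `E.map μ` (`μ` is injective on the `2`-group `E`), `μ J ≤ C(ν J)`. -/
theorem big1 (hy : g * φ * g⁻¹ ∈ T) (h : g ⋆ CS T N φ ≤ T) (a : Ac μ ν (g * φ * g⁻¹) α β) (h1 : m.Θ α = 1 ∨ m.Θ α = m.γ) :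
    m.lo ≤ Nat.card ↥(CS T N (g * φ * g⁻¹) ⊓ 𝐂(ν.range)) := by
  obtain ⟨E, p, c, n⟩ := m.LO (s.sq.ac_sq m.toBM a (cj2 s.p.sq g)).1 h1
  refine n.trans ((s.card_μ p).ge.trans (((s.syl_1 hy h).card_le (p.map _) ?_).trans (card_le_of_le (inf_le_inf_left _ ?_)))) <;>
    rintro _ ⟨x, hx⟩
  · obtain ⟨hx, rfl⟩ := hx
    exact ⟨⟨x, rfl⟩, mc.2 (cjf.1 (by rw [a.1, c x hx])).symm⟩
  · exact hx ▸ ac_c2 (s.ac_μ x)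
/-- Commutators have type `(1, 1)` (`h0`, `exists_τ`, `comm`); `ty_one`. -/
theorem comm_SS : ⁅T ⊓ N, T ⊓ N⁆ ≤ SS m μ ν := commutator_le.2 fun x hx y hy => by
  obtain ⟨α, β, a⟩ := s.h0 hx
  obtain ⟨α', β', a'⟩ := s.h0 hy
  have b := ((a.mul a').mul a.inv).mul a'.inv
  obtain ⟨θ, η, e⟩ := s.ty (Au.cm_mem hx.1 hy.1) ⟨_, _, b⟩
  obtain ⟨e1, e2⟩ := s.sq.ty_Θ m e b
  rw [map_mul, m.Θ_cj, map_inv, mul_inv_cancel] at e1 e2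
  subst e1 e2
  exact (s.sq.ty_one s.toSY (Au.cm_mem hx.1 hy.1)).1 e
/-- `cen_focal` for `syl_y`; `y ∈ ⁅g ⋆ R, g ⋆ R⁆` gives `φ ∈ ⁅R, R⁆ ≤ S'` (`comm_SS`), `not_SS`. -/
theorem not_comm (hy : g * φ * g⁻¹ ∈ T) (h : g ⋆ CS T N φ ≤ T) : g * φ * g⁻¹ ∉ ⁅N ⊓ 𝐂[g * φ * g⁻¹], N ⊓ 𝐂[g * φ * g⁻¹]⁆ := fun c => by
  have := cen_focal (s.syl_y hy h) ⟨⟨hy, s.cjN s.p.memN g⟩, mc.2 rfl⟩ (fun _ hx => mc.1 hx.2) c
  rw [← s.conj_eq hy h, ← Transfer.conj_commutator, Transfer.conj_mem_conj] at this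
  exact s.not_SS (ty_fl s.p.ac) s.p.ι1 (s.comm_SS (commutator_mono inf_le_left inf_le_left this))
/-- `w₁⁻¹ (y w₁ y⁻¹) = w₂ (y w₂ y⁻¹)⁻¹`, `w₂ = w₁⁻¹ w`, lies in `T` and centralizes both factors (`cm_odd`). -/
theorem split (hy : y ∈ T ⊓ N) {w w₁ : G} (hw : w ∈ CS T N y) (h1 : w₁ ∈ T ⊓ N ⊓ 𝐂(ν.range)) (h2 : w₁⁻¹ * w ∈ 𝐂(μ.range)) :
    w ∈ CS T N y ⊓ 𝐂(ν.range) ⊔ CS T N y ⊓ 𝐂(μ.range) := by
  have y1 := norm_cent N0_le (s.h0 hy)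
  have y2 := norm_cent N0_le' (s.h0 hy)
  have e : w₁⁻¹ * (y * w₁ * y⁻¹) = w₁⁻¹ * w * (y * (w₁⁻¹ * w) * y⁻¹)⁻¹ := by
    rw [← conj_mul, cjf.2 (mc.1 hw.2).symm]; group
  have c : w₁ ∈ 𝐂[y] := mc.2 (cjf.1 (inv_mul_eq_one.1 (s.cc (mul_mem (inv_mem h1.1.1) (mul_mem (mul_mem hy.1 h1.1.1) (inv_mem hy.1)))
    (e ▸ mul_mem h2 (inv_mem (conj_mem_of_norm y1 h2))) (mul_mem (inv_mem h1.2) (conj_mem_of_norm y2 h1.2)))).symm).symm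
  simpa using mul_mem_sup (show w₁ ∈ CS T N y ⊓ 𝐂(ν.range) from ⟨⟨h1.1, c⟩, h1.2⟩)
    (show w₁⁻¹ * w ∈ CS T N y ⊓ 𝐂(μ.range) from mem_inf.2 ⟨mul_mem (inv_mem ⟨h1.1, c⟩) hw, h2⟩)
/-- `w = μ (j a) ν (j a')`; `split`. -/
theorem split_SS (hy : y ∈ T ⊓ N) : CS T N y ⊓ SS m μ ν ≤ CS T N y ⊓ 𝐂(ν.range) ⊔ CS T N y ⊓ 𝐂(μ.range) := fun w hw => by
  obtain ⟨a, c, rfl⟩ := (s.sq.mem_SS m).1 hw.2
  exact s.split hy hw.1 ⟨s.μ_TN a, ac_c2 (s.ac_μ _)⟩ (by rw [inv_mul_cancel_left]; exact ac_c1 (s.ac_ν _))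
/-- `w` has type `(c, d)`, `c² = d² = 1`, `σ_w ∈ B` of this type (`decN`), `σ_w · t σ_w t ∈ B` has type `(c d, c d)`, so `c d ∈ {1, γ}` (`ph_of`, `hγ`).  `c d = 1`: `σ_w` has type `(c, c)`; `c d = γ`:
`σ_w r` has type `(c, c)`.  So `c ∈ {1, γ}`.  `split` with `w₁ = μ (j a)` or `μ (j a) · t r t`, where `w` acts as `conj (j a) * fl c` on the first factor. -/
theorem split_inv (hγ : ∀ φ' ι, Ph m μ ν Γ N φ' ι → ι = m.γ) (hr : r ∈ Γ ⊓ N) (a : Ac μ ν r (m.fl 1) (m.fl m.γ)) (hy : y ∈ T ⊓ N) {w : G} (hw : w ∈ CS T N y) (w2 : w * w = 1) :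
    w ∈ CS T N y ⊓ 𝐂(ν.range) ⊔ CS T N y ⊓ 𝐂(μ.range) := by
  obtain ⟨c, d, e⟩ := s.ty hw.1.1 (s.h0 hw.1)
  obtain ⟨c2, d2⟩ := s.ty_sq e w2
  obtain ⟨-, -, σ, hσ, -, b⟩ := s.decN hw.1 e
  obtain ⟨u, u', e⟩ := e
  obtain rfl | rfl : c = 1 ∨ c = m.γ := by
    rcases s.dg2 hγ hσ b c2 d2 with k | k
    · exact s.dg hγ hσ (by rwa [show d = c from mul_left_cancel (k.trans c2.symm)] at b) c2
    · exact s.dg hγ (mul_mem hσ hr) (by simpa only [← map_mul, mul_one, ← k, m.comm c d, ← mul_assoc, d2, one_mul] using b.mul a) c2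
  · exact s.split hy hw ⟨s.μ_TN u, ac_c2 (s.ac_μ _)⟩ (ac_c1 (by simpa using (s.ac_μ (m.j u)).inv.mul e))
  · have b := (s.ac_μ (m.j u)).mul (s.sq.ac_t a)
    exact s.split hy hw ⟨mul_mem (s.μ_TN u) ⟨s.Γ_T (s.tΓt hr).1, (s.tΓt hr).2⟩, ac_c2 (by simpa using b)⟩ (ac_c1 (by simpa using b.inv.mul e))
end KS

end Cfsg.Lib.OS
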