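import Cfsg.Agent.Lib.OS.KA
import Cfsg.Agent.Lib.OS.SB

/-!
# S3130, split case V: the graph case of the transfer.  Notation of `KA`; `y = g φ g⁻¹`, `X`, `Y` are the conjugates under `g⁻¹` of `C_S(y) ⊓ C(M₂)`, `C_S(y) ⊓ C(M₁)`.
-/

set_option autoImplicit false
set_option linter.unusedSectionVars false

namespace Cfsg.Lib.OS

open Subgroup G2S Cfsg.Lib.BG Cfsg.Lib.GW GSt.SLa
open USt (conj_one_iff pg_prod N0_le sup_t A_card A_norm P_card P_cen cen_focal trd PD UP)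
open GSt (N0 HH)
open scoped commutatorElement Cfsg.Lib.Transfer

variable {J U A G : Type*} [Group J] [Finite J] [Group U] [Finite U] [Group A] [Group G] [Finite G] {m : SM J U A}
  {ψ μ ν : J →* G} {t g φ r y : G} {P T Γ N X Y : Subgroup G} {α β : MulAut J} {θ η ι : A}

theorem mt₂ {a b c : Prop} (h : ¬ a → ¬ b → c) (hc : ¬ c) : a ∨ b := by_contra fun k => hc (h (fun x => k (.inl x)) fun x => k (.inr x))
/-- Copy of `LS.H8.ext_tr`. -/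
theorem ext_tr {S D : Subgroup G} (hS : Syl 2 S N) {X : Type*} [Group X] [IsCyclic X] (χ : S →* X) (h2 : φ * φ = 1) (hN : φ ∈ ⁅N, N⁆)
    (hD : IsPGroup 2 D) (DN : D ≤ N) (hc : D ≤ 𝐂[φ]) : ∃ g, ∃ h : g * φ * g⁻¹ ∈ S, χ ⟨_, h⟩ = 1 ∧ g ⋆ D ≤ S := by
  obtain ⟨P, rfl⟩ := Syl.iff_sylow.1 hS
  let χ' : P →* X := χ.comp ((P : Subgroup N).equivMapOfInjective N.subtype N.subtype_injective).toMonoidHom
  have e : (χ'.ker.map (P : Subgroup N).subtype).subgroupOf P = χ'.ker := comap_map_eq_self_of_injective (subtype_injective _) _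
  have : ((χ'.ker.map (P : Subgroup N).subtype).subgroupOf P).Normal := by rw [e]; infer_instance
  rw [← map_subtype_commutator] at hN
  obtain ⟨y, hy, rfl⟩ := hN
  obtain ⟨g, ⟨x, hx, e'⟩, h, l⟩ := Transfer.exists_conj_mem_and_conj_le P (T := χ'.ker.map (P : Subgroup N).subtype)
    (((QuotientGroup.quotientMulEquivOfEq e).trans (QuotientGroup.quotientKerEquivRange χ')).isCyclic.2 inferInstance) (y := y) (Subtype.ext h2)
    (mem_sup_right hy) (C := D.subgroupOf N) hD.comap_subtype fun x hx => mem_cent1.2 (Subtype.ext (mem_cent1.1 (hc hx)))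
  refine ⟨g, ⟨_, h, rfl⟩, (congrArg χ (Subtype.ext (congrArg Subtype.val e').symm)).trans hx, Transfer.conj_le_iff.2 fun x hx => ?_⟩
  exact ⟨_, Transfer.conj_le_iff.1 l ⟨x, DN hx⟩ hx, rfl⟩

theorem good {l : J} (a : Ac μ ν y (MulAut.conj l) β) (h : l ∈ ⁅𝐂[l], 𝐂[l]⁆) : μ l ∈ ⁅μ.range ⊓ 𝐂[y], μ.range ⊓ 𝐂[y]⁆ := by
  have k : (𝐂[l]).map μ ≤ μ.range ⊓ 𝐂[y] := by
    rintro _ ⟨x, hx, rfl⟩
    exact ⟨⟨x, rfl⟩, mc.2 (cjf.1 (by rw [a.1, MulAut.conj_apply, cjf.2 (mc.1 hx).symm])).symm⟩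
  exact commutator_mono k k (map_commutator _ _ μ ▸ mem_map_of_mem μ h)

theorem SN.μj (s : SN m ψ t μ ν T Γ N) : Function.Injective (μ.comp m.j) := fun a b e =>
  congrArg Prod.fst (s.sq.i_inj m (a₁ := (a, 1)) (a₂ := (b, 1)) (congrArg (· * ν (m.j 1)) e))
theorem SN.μz (s : SN m ψ t μ ν T Γ N) : μ (m.j m.z) ≠ 1 := fun e => m.z1 (s.μj (e.trans (map_one _).symm))
/-- Two normal subgroups of `R` separating `z₁` and `z₂`. -/
structure XY (m : SM J U A) (μ ν : J →* G) (R X Y : Subgroup G) : Prop where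
  lX : X ≤ R
  lY : Y ≤ R
  nX : R ≤ 𝐍(X)
  nY : R ≤ 𝐍(Y)
  bot : X ⊓ Y = ⊥
  z1 : μ (m.j m.z) ∈ X
  z2 : ν (m.j m.z) ∈ Y

/-- `V⁰ = {v ∈ V | ν (j v) ∈ X Y}`. -/
abbrev V0 (m : SM J U A) (ν : J →* G) (X Y : Subgroup G) : Subgroup U := m.V m.γ ⊓ (X ⊔ Y).comap (ν.comp m.j)

namespace KS
variable (s : KS m ψ t μ ν T Γ N φ)
include s

section
variable (d : XY m μ ν (CS T N φ) X Y)
include d
theorem x2 {x : G} (h : x ∈ X) : ∃ α, ∃ β ∈ m.D0, Ac μ ν x α β :=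
  let ⟨β, hβ, α, a⟩ := s.symm.ab1 d.lX d.nX (fun c => s.symm.μz (mem_bot.1 (d.bot.le ⟨c, d.z2⟩))) h; ⟨α, β, hβ, And.symm a⟩
theorem cxy {x y : G} (hx : x ∈ X) (hy : y ∈ Y) : x * y = y * x := commutatorElement_eq_one_iff_mul_comm.1 (mem_bot.1 (d.bot.le (mem_inf.2
  ⟨by simpa only [commutatorElement_def, mul_assoc] using mul_mem hx (conj_mem_of_norm (d.nX (d.lY hy)) (inv_mem hx)),
    mul_mem (conj_mem_of_norm (d.nY (d.lX hx)) hy) (inv_mem hy)⟩)))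
theorem dec0 {v : U} (h : v ∈ V0 m ν X Y) : ∃ x ∈ X, ∃ y ∈ Y, x * y = ν (m.j v) ∧ ∃ α ∈ m.D0, ∃ β ∈ m.D0, Ac μ ν x α β := by
  obtain ⟨x, hx, y, hy, e⟩ := (mem_sup_right_norm (d.lX.trans d.nY)).1 h.2
  obtain ⟨α, β, hβ, a⟩ := s.x2 d hx
  obtain ⟨α', hα, β', a'⟩ := s.ab1 d.lY d.nY (fun c => s.μz (mem_bot.1 (d.bot.le ⟨d.z1, c⟩))) hy
  exact ⟨x, hx, y, hy, e, α, eq_inv_of_mul_eq_one_left (s.sq.uniq m.toBM (a.mul a') (e ▸ s.ac_ν _)).1 ▸ inv_mem hα, β, hβ, a⟩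
/-- `z₂ ∉ X`, so `X` acts on the second factor through the abelian group `D0` (`symm.ab1`, `D0_comm`): `⁅X, X⁆ ≤ C(ν J)`.  `⁅X, X⁆ ≤ S'` (`comm_SS`); `ζ = μ (j a) ν (j a')`,
`conj (j a') = 1` (`uniq`, `ac_μν`), `conj_j`; `a ∈ V` as `ζ` commutes with `φ`. -/
theorem xx {ζ : G} (h : ζ ∈ ⁅X, X⁆) : ∃ a ∈ m.V m.γ, ζ = μ (m.j a) := by
  have c : ζ ∈ 𝐂(ν.range) := (commutator_le.2 fun x hx y hy => by
    obtain ⟨α, β, hβ, a⟩ := s.x2 d hx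
    obtain ⟨α', β', hβ', a'⟩ := s.x2 d hy
    have := ((a.mul a').mul a.inv).mul a'.inv
    rw [m.D0_comm hβ hβ', mul_inv_cancel_right, mul_inv_cancel] at this
    exact ac_c2 this : ⁅X, X⁆ ≤ 𝐂(ν.range)) h
  obtain ⟨a, a', rfl⟩ := (s.sq.mem_SS m).1 (s.comm_SS (commutator_mono (d.lX.trans inf_le_left) (d.lX.trans inf_le_left) h))
  rw [s.cc (s.ν_TN a').1 (ac_c1 (s.ac_ν _)) ((mul_mem_cancel_left (ac_c2 (s.ac_μ _))).1 c), mul_one] at h ⊢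
  refine ⟨a, mem_V.2 (s.μj ?_), rfl⟩
  change μ (m.j _) = μ (m.j _)
  rw [← m.fl_j, ← s.p.ac.1, cjf, mc.1 (d.lX (der_le _ h)).2]
/-- `ν (j v) = x y` with `x ∈ X`, `y ∈ Y`; `x` acts on the second factor through `D0` (`symm.ab1`) and on the first as `y⁻¹`, through `D0` (`ab1` for `Y`).  So the `X`-components commute (`T_eq`),
`⁅X, Y⁆ ≤ X ⊓ Y = 1`, and `⁅x y, x' y'⁆ = ⁅y, y'⁆`. -/
theorem vv : ⁅V0 m ν X Y, V0 m ν X Y⁆ ≤ Y.comap (ν.comp m.j) := commutator_le.2 fun v hv v' hv' => by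
  obtain ⟨x, hx, y, hy, e, α, hα, β, hβ, a⟩ := s.dec0 d hv
  obtain ⟨x', hx', y', hy', e', α', hα', β', hβ', a'⟩ := s.dec0 d hv'
  have c := s.T_eq (d.lX (mul_mem hx hx')).1.1 (d.lX (mul_mem hx' hx)).1.1 (a.mul a') (m.D0_comm hα hα' ▸ m.D0_comm hβ hβ' ▸ a'.mul a)
  change ν (m.j _) ∈ Y
  have k1 : Commute x (y * (x' * y') * y⁻¹) :=
    Commute.mul_right (Commute.mul_right (s.cxy d hx hy) (Commute.mul_right c (s.cxy d hx hy'))) (s.cxy d hx (inv_mem hy))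
  have k2 := Au.cm_mem hy hy'
  rw [map_commutatorElement, map_commutatorElement, ← e, ← e']
  convert k2 using 1
  calc _ = x * (y * (x' * y') * y⁻¹) * x⁻¹ * (x' * y')⁻¹ := by rw [commutatorElement_def]; group
    _ = x' * ⁅y, y'⁆ * x'⁻¹ := by rw [cjf.2 k1.eq, ← mul_assoc y, ← s.cxy d hx' hy, commutatorElement_def]; group
    _ = _ := cjf.2 (s.cxy d hx' k2)
/-- `K = V ⊓ X.comap (ν ∘ j)` is normal in the `2`-group `V` and meets `Z(V)` trivially (`vv`, `bot`), so `K = 1` (`nil_meet_center`); `v ↦` the `Y`-component of `ν (j v)` is injective on `V⁰`. -/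
theorem card_V0 (h : m.V m.γ ⊓ 𝐂(m.V m.γ) ≤ ⁅V0 m ν X Y, V0 m ν X Y⁆) : Nat.card (V0 m ν X Y) ≤ Nat.card Y := by
  have K : m.V m.γ ⊓ X.comap (ν.comp m.j) = ⊥ := by_contra fun c => by
    obtain ⟨k, hk, k1⟩ := exists_ne_one (nil_meet_center (pgroup_nil (m.pU.to_subgroup (m.V m.γ))) inf_le_left (le_norm_iff.2 fun v hv k hk =>
      mem_inf.2 ⟨mul_mem (mul_mem hv hk.1) (inv_mem hv), by simpa using conj_mem_of_norm (d.nX (s.symm.V1 hv)) hk.2⟩) c)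
    exact k1 (s.symm.μj ((mem_bot.1 (d.bot.le ⟨hk.1.2, s.vv d (h ⟨hk.1.1, hk.2⟩)⟩)).trans (map_one _).symm))
  choose x hx y hy e _ using fun v : V0 m ν X Y => s.dec0 d v.2
  refine Nat.card_le_card_of_injective (fun v => ⟨y v, hy v⟩) fun v w k => Subtype.ext (mul_inv_eq_one.1 (mem_bot.1 (K.le
    (mem_inf.2 ⟨mul_mem v.2.1 (inv_mem w.2.1), ?_⟩))))
  change ν (m.j _) ∈ X
  rw [map_mul, map_mul, map_inv, map_inv, ← e, ← e, show y v = y w from congrArg Subtype.val k]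
  simpa [mul_assoc] using mul_mem (hx v) (inv_mem (hx w))
end

theorem tφ : t * φ * t⁻¹ = φ := cjf.2 (s.p.cen t s.tΓ).symm
theorem tR {w : G} (h : w ∈ CS T N φ) : t * w * t⁻¹ ∈ CS T N φ :=
  ⟨⟨T.mul_mem (T.mul_mem s.tT h.1.1) (T.inv_mem s.tT), s.cjN h.1.2 t⟩, mc.2 (s.tφ ▸ cjc (mc.1 h.2) t)⟩
/-- `x = φ μ (j a) ν (j a) = φ ψ (j a)` is a `Pt` of type `γ` (`a² = 1`, `fl γ (j a) = j a`) and is central in `R` (`hc`, its conjugate under `t`, which normalizes `R`).  `nb` (with `g = 1`) for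
`P = g⁻¹ ⋆ U₁ ⊔ Y`: `g⁻¹ ⋆ U₁` centralizes `Y ∋ x`, meets it trivially (`conj_j`). -/
theorem last {a : U} (ha : a ∈ m.V m.γ) (a2 : a * a = 1) (hc : ∀ x ∈ CS T N φ, x * μ (m.j a) = μ (m.j a) * x) (hY : Y ≤ CS T N φ) (hY' : g ⋆ Y ≤ 𝐂(μ.range))
    (h : φ * μ (m.j a) * ν (m.j a) ∈ Y) : Nat.card U * Nat.card Y ≤ Nat.card ↥(Γ ⊓ N) * Nat.card (m.V m.γ) ^ 2 := by
  have hc' : ∀ x ∈ CS T N φ, x * ν (m.j a) = ν (m.j a) * x := fun x hx => by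
    simpa only [← s.tμ, s.it, mul_assoc, s.sq.tt, s.t2, mul_one] using cjc (hc _ (s.tR hx)) t
  have cx : ∀ x ∈ CS T N φ, x * (φ * μ (m.j a) * ν (m.j a)) = φ * μ (m.j a) * ν (m.j a) * x := fun x hx =>
    Commute.mul_right (Commute.mul_right (mc.1 hx.2) (hc x hx)) (hc' x hx)
  have c1 := (mc.1 (s.V1 ha).2).symm
  have p : Pt m μ ν t (φ * μ (m.j a) * ν (m.j a)) m.γ := ⟨Inv.mul_self_mul_of_comm (Inv.mul_self_mul_of_comm s.p.sq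
      (by rw [← map_mul, ← map_mul, a2, map_one, map_one]) c1) (by rw [← map_mul, ← map_mul, a2, map_one, map_one])
      (Commute.mul_left (mc.1 (s.symm.V1 ha).2).symm (s.comm _ _)),
    (cjf.1 (by rw [mul_assoc φ, ← conj_mul, s.tφ, s.sq.t_apply])).symm, ⟨_, _, mul_assoc φ _ _ ▸ s.p.ac.mul (s.sq.ac_μν _ _),
      by rw [map_mul, m.Θ_conj, m.Θ_fl, mul_one], by rw [map_mul, m.Θ_conj, m.Θ_fl, mul_one]⟩, s.p.ι2, s.p.ι1⟩
  have c : g⁻¹ ⋆ (μ.comp m.j).range ≤ 𝐂(Y) := Transfer.conj_le_iff.2 (by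
    rintro _ ⟨x, rfl⟩
    exact mem_cent.2 fun w hw => by simpa [mul_assoc] using cjc (mem_cent.1 (Transfer.conj_le_iff.1 hY' w hw) _ ⟨m.j x, rfl⟩).symm g⁻¹)
  have n := s.nb p (g := 1) (P := g⁻¹ ⋆ (μ.comp m.j).range ⊔ Y) (pgroup_sup ((pgroup_conj _).2 (m.pU.of_surjective _ (μ.comp m.j).rangeRestrict_surjective))
    (pgroup_of_le (s.pCS φ) hY) (norm_of_cent (cent_symm c))) (sup_le (Transfer.conj_le_iff.2 (by rintro _ ⟨x, rfl⟩; exact s.cjN (s.μ_TN x).2 _))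
    fun _ hx => (hY hx).1.2) fun x hx => by
      rw [one_mul, inv_one, mul_one]
      exact mc.1 ((sup_le (fun x hx => mc.2 (mem_cent.1 (c hx) _ h).symm) fun x hx => mc.2 (cx x (hY hx)) : _ ⊔ Y ≤ 𝐂[_]) hx)
  rwa [Core.card_sup_of_disjoint (norm_of_cent c) (eq_bot_iff.2 (by
    rintro _ ⟨⟨_, ⟨x, rfl⟩, rfl⟩, hx⟩
    have : μ (m.j x) = 1 := s.cc (s.μ_TN x).1 (by simpa [mul_assoc] using Transfer.conj_le_iff.1 hY' _ hx) (ac_c2 (s.ac_μ _))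
    simp [this])), Transfer.card_conj, ← Nat.card_congr (MonoidHom.ofInjective s.μj).toEquiv] at n

/-- `p₁ = μ (j u) ∈ C_S(y)` is central in `C_S(y)` (`two_eq`: `α (j u) = j u`) and in `μ J ⊓ C(y) ≥ μ C(j u)`; `cen_focal` for `syl_1`: `ζ = g⁻¹ p₁ g ∈ ⁅X, X⁆`, `xx`: `ζ = μ (j a)`, `a ∈ Z(V)` (`V1`).
`φ ζ = g⁻¹ (y p₁) g ∈ Y`.  If `Θ β = γ`: `V⁰ = V` (`VG`, `split_inv` with `r` from `decN` for `y`), `ZV`, `vv`, `card_V0`, `last`, `card_B`, `nU`.  If `Θ β = 1`: `⁅V, V⁆ ≤ V⁰` (`comm_SS`, `split_SS`),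
`Big.ZV`, `v γ ≤ |B| |V⁰|` (`card_TN` for `g ⋆ ν (j V)`, `split_SS`), `Big.nU`. -/
theorem core' (hγ : ∀ φ' ι, Ph m μ ν Γ N φ' ι → ι = m.γ) (hy : g * φ * g⁻¹ ∈ T) (h : g ⋆ CS T N φ ≤ T) {u : U} (a : Ac μ ν (g * φ * g⁻¹) (MulAut.conj (m.j u)) β)
    (hu : m.j u ∈ ⁅𝐂[m.j u], 𝐂[m.j u]⁆) (hβ : m.Θ β = m.γ ∨ m.Θ β = 1 ∧ m.Big)
    (d : XY m μ ν (CS T N φ) (g⁻¹ ⋆ (CS T N (g * φ * g⁻¹) ⊓ 𝐂(ν.range))) (g⁻¹ ⋆ (CS T N (g * φ * g⁻¹) ⊓ 𝐂(μ.range)))) : False := by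
  have := m.fin
  have eR := s.conj_eq hy h
  have yN : g * φ * g⁻¹ ∈ T ⊓ N := ⟨hy, s.cjN s.p.memN g⟩
  have a2 := (s.sq.ac_sq m.toBM a (cj2 s.p.sq g)).1
  have u2 : u * u = 1 := m.conj_j (by rw [map_mul, map_mul, a2, map_one, map_one])
  have cp : ∀ w ∈ N0 μ ν, w ∈ 𝐂[g * φ * g⁻¹] → w * μ (m.j u) = μ (m.j u) * w := fun w ⟨α', β', a'⟩ hw => by
    have e := (s.sq.uniq m.toBM (a'.mul a) (mc.1 hw ▸ a.mul a')).1
    refine cjf.1 ((a'.1 _).trans (congrArg μ (m.two_eq (n := 1) (k := 1) ?_ ?_ (conj_one_iff.1 ?_))))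
    · rw [pow_one, _root_.sq, ← map_mul, ← map_mul, u2, map_one, map_one]
    · rw [pow_one, _root_.sq, ← map_mul, u2, map_one]
    · rw [map_mul, map_inv, inv_mul_eq_one, ← mul_left_inj α', ← e]
      exact MulEquiv.ext fun y => by simp
  have pR : μ (m.j u) ∈ CS T N (g * φ * g⁻¹) := ⟨s.μ_TN u, mc.2 (cp _ ⟨_, _, a⟩ (mc.2 rfl)).symm⟩
  have l1 : CS T N (g * φ * g⁻¹) ⊓ μ.range ≤ CS T N (g * φ * g⁻¹) ⊓ 𝐂(ν.range) :=
    inf_le_inf_left _ (by rintro _ ⟨x, rfl⟩; exact ac_c2 (s.ac_μ x))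
  obtain ⟨c, hc, e⟩ := s.xx d (ζ := g⁻¹ * μ (m.j u) * g⁻¹⁻¹) (by
    rw [← Transfer.conj_commutator, Transfer.conj_mem_conj]
    exact commutator_mono l1 l1 (cen_focal (s.syl_1 hy h) ⟨pR, _, rfl⟩ (fun w hw => cp w (s.sq.M_le (mem_sup_left hw.1)) hw.2) (good a hu)))
  have cR : ∀ x ∈ CS T N φ, x * μ (m.j c) = μ (m.j c) * x := fun x hx => by
    have := eR.le (Transfer.conj_mem_conj.2 hx)
    simpa [← e, mul_assoc] using cjc (cp _ (s.h0 this.1) this.2) g⁻¹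
  have fin (hZ : m.V m.γ ⊓ 𝐂(m.V m.γ) ≤ ⁅V0 m ν _ _, V0 m ν _ _⁆) := (Nat.mul_le_mul_left (Nat.card U) (s.card_V0 d hZ)).trans
    (s.last (g := g) hc (s.μj (by
      change μ (m.j _) = μ (m.j _)
      rw [map_mul, map_mul, ← e, conj_mul, ← map_mul, ← map_mul, u2]; simp)) cR d.lY ((Transfer.conj_inv_conj _ _).le.trans inf_le_right)
      (mul_mem (by
        rw [← e, show φ * (g⁻¹ * μ (m.j u) * g⁻¹⁻¹) = g⁻¹ * (g * φ * g⁻¹ * μ (m.j u)) * g⁻¹⁻¹ by group, Transfer.conj_mem_conj]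
        exact ⟨mul_mem (show _ ∈ CS T N _ from ⟨yN, mc.2 rfl⟩) pR, ac_c1 (a2 ▸ a.mul (s.ac_μ _))⟩)
      (s.vv d (hZ ⟨hc, mem_cent.2 fun v hv => s.μj (by simpa using cR _ (s.V1 hv))⟩))))
  let κ := (MulAut.conj g).toMonoidHom.comp (ν.comp m.j)
  have κR : ∀ x ∈ m.V m.γ, κ x ∈ CS T N (g * φ * g⁻¹) := fun x hx => eR.le (Transfer.conj_mem_conj.2 (s.symm.V1 hx))
  have i0 : ∀ x, κ x ∈ CS T N (g * φ * g⁻¹) ⊓ 𝐂(ν.range) ⊔ CS T N (g * φ * g⁻¹) ⊓ 𝐂(μ.range) → x ∈ (g⁻¹ ⋆ (CS T N (g * φ * g⁻¹) ⊓ 𝐂(ν.range)) ⊔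
      g⁻¹ ⋆ (CS T N (g * φ * g⁻¹) ⊓ 𝐂(μ.range))).comap (ν.comp m.j) := fun x hx => by
    rw [mem_comap, ← Transfer.conj_sup, Transfer.mem_conj, inv_inv]; exact hx
  have v0 : 0 < Nat.card (m.V m.γ) := Nat.card_pos
  have nB := s.card_B
  rcases hβ with hβ | ⟨-, hβ⟩
  · obtain ⟨θ, η, ty⟩ := s.ty hy ⟨_, _, a⟩
    obtain ⟨e1, e2⟩ := s.sq.ty_Θ m ty a
    rw [← e1, ← e2, m.Θ_conj, hβ] at ty
    obtain ⟨-, -, r, hr, -, ar⟩ := s.decN yN ty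
    have e0 := inf_eq_left.2 (m.VG m.γ _ fun x hx x2 => i0 x (s.split_inv hγ hr ar yN (κR x hx) (by rw [← map_mul, x2, map_one])))
    have := fin (by rw [V0, e0]; exact m.ZV s.p.ι1)
    rw [V0, e0, _root_.sq, ← mul_assoc] at this
    exact (m.nU _ s.p.ι2 s.p.ι1).not_ge ((Nat.le_of_mul_le_mul_right this v0).trans (Nat.mul_le_mul_right _ nB))
  have i1 : ∀ x ∈ m.V m.γ, κ x ∈ SS m μ ν → x ∈ V0 m ν _ _ := fun x hx k => ⟨hx, i0 x (s.split_SS yN ⟨κR x hx, k⟩)⟩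
  have l2 : (m.V m.γ).map κ ≤ T ⊓ N := by rintro _ ⟨x, hx, rfl⟩; exact (κR x hx).1
  have l3 : ⁅m.V m.γ, m.V m.γ⁆ ≤ V0 m ν _ _ := fun x hx => i1 x (der_le _ hx)
    (s.comm_SS (commutator_mono l2 l2 (map_commutator _ _ κ ▸ mem_map_of_mem κ hx)))
  have n1 := fin (hβ.ZV.trans (commutator_mono l3 l3))
  have n2 := (s.card_TN l2).trans (Nat.mul_le_mul_left _ ((card_le_of_le (K := (V0 m ν _ _).map κ) (by
    rintro _ ⟨⟨x, hx, rfl⟩, k⟩; exact ⟨x, i1 x hx k, rfl⟩)).trans (Nat.le_of_dvd Nat.card_pos (card_map_dvd _ _))))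
  rw [card_map_of_injective ((MulAut.conj g).injective.comp s.symm.μj)] at n2
  have n3 := hβ.nU
  change _ * Nat.card (m.V m.γ) < _ at n3
  generalize Nat.card (m.V m.γ) = v, Nat.card ↥(Γ ⊓ N) = B, Nat.card (V0 m ν _ _) = w at *
  have n4 : Nat.card U * v ≤ B * B * v * v := (Nat.mul_le_mul_left _ n2).trans ((Nat.mul_left_comm _ _ _).le.trans
    ((Nat.mul_le_mul_left B n1).trans_eq (by ring)))
  exact n3.not_ge ((Nat.le_of_mul_le_mul_right n4 v0).trans (Nat.mul_le_mul_right _ ((Nat.mul_le_mul nB nB).trans_eq (by ring))))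

theorem nml (hy : g * φ * g⁻¹ ∈ T) (h : g ⋆ CS T N φ ≤ T) : g⁻¹ ⋆ (CS T N (g * φ * g⁻¹) ⊓ 𝐂(ν.range)) ≤ CS T N φ ∧
    CS T N φ ≤ 𝐍(g⁻¹ ⋆ (CS T N (g * φ * g⁻¹) ⊓ 𝐂(ν.range))) := by
  rw [← Transfer.conj_normalizer, ← Transfer.conj_le_iff_le_inv_conj, ← Transfer.le_conj_iff_inv_conj_le, s.conj_eq hy h]
  exact ⟨inf_le_left, norm_inf (le_norm _) (norm_cent (inf_le_left.trans (s.h0.trans N0_le')))⟩
theorem xbot (g y : G) : g ⋆ (CS T N y ⊓ 𝐂(ν.range)) ⊓ g ⋆ (CS T N y ⊓ 𝐂(μ.range)) = ⊥ := by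
  rw [← Transfer.conj_inf, Transfer.conj_eq_bot_iff]
  exact eq_bot_iff.2 fun x hx => s.cc hx.1.1.1.1 hx.2.2 hx.1.2
/-- `X`, `Y` are normal in `R` (`conj_eq`, `h0`), `X ⊓ Y = 1` (`cm_odd`), `lo ≤ |X|, |Y|` (`big1`, `symm.big1`), so each contains `z₁` or `z₂` (`ab2`).  `core'` for `g` or for `g t`
(`t φ t = φ`, `t ⋆ R = R`, `t z₁ t = z₂`). -/
theorem core (hγ : ∀ φ' ι, Ph m μ ν Γ N φ' ι → ι = m.γ) (hy : g * φ * g⁻¹ ∈ T) (h : g ⋆ CS T N φ ≤ T) {u : U} (a : Ac μ ν (g * φ * g⁻¹) (MulAut.conj (m.j u)) β)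
    (hu : m.j u ∈ ⁅𝐂[m.j u], 𝐂[m.j u]⁆) (hβ : m.Θ β = m.γ ∨ m.Θ β = 1 ∧ m.Big) : False := by
  have k1 := mt₂ (s.ab2 (s.nml hy h).1 (s.nml hy h).2) (by rw [Transfer.card_conj]; exact (s.big1 hy h a (.inl (m.Θ_conj _))).not_gt)
  have k2 := mt₂ (s.ab2 (s.symm.nml hy h).1 (s.symm.nml hy h).2) (by
    rw [Transfer.card_conj]; exact (s.symm.big1 hy h (And.symm a) (hβ.symm.imp_left And.left)).not_gt)
  have b := (s.xbot g⁻¹ (g * φ * g⁻¹)).le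
  rcases k1 with k1 | k1 <;> rcases k2 with k2 | k2
  · exact s.μz (mem_bot.1 (b ⟨k1, k2⟩))
  · exact s.core' hγ hy h a hu hβ ⟨(s.nml hy h).1, (s.symm.nml hy h).1, (s.nml hy h).2, (s.symm.nml hy h).2, s.xbot _ _, k1, k2⟩
  · have e : g * t * φ * (g * t)⁻¹ = g * φ * g⁻¹ := by conv_rhs => rw [← s.tφ]
                                                       group
    have h' : (g * t) ⋆ CS T N φ ≤ T := Transfer.conj_conj g t _ ▸ (Transfer.conj_mono g (Transfer.conj_le_iff.2 fun _ => s.tR)).trans h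
    have hy' := e ▸ hy
    refine s.core' hγ hy' h' (e ▸ a) hu hβ ⟨(s.nml hy' h').1, (s.symm.nml hy' h').1, (s.nml hy' h').2, (s.symm.nml hy' h').2, s.xbot _ _, ?_, ?_⟩ <;>
      rw [e, Transfer.mem_conj, inv_inv] <;> rw [Transfer.mem_conj, inv_inv] at k1 k2
    · simpa only [← s.tμ, mul_inv_rev, s.it, mul_assoc] using k1
    · simpa only [← s.sq.tν (m.j m.z), mul_inv_rev, s.it, mul_assoc] using k2
  · exact s.symm.μz (mem_bot.1 (b ⟨k1, k2⟩))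

/-- `ext_tr` for `χ ∘` first type (`exists_chi`, `exists_τ`), `D = R`: `y = g φ g⁻¹ ∈ S` of type `(a, b)`, `a ≠ γ`, `g ⋆ R ≤ S`, so `|B| (v γ)² ≤ |C_S(y)|` (`lb`).  `σ ∈ B` of type `(a, b)` (`decN`):
`a b ∈ {1, γ}`, and `a = b` only for `a = 1` (`ph_of`, `hγ`).  `a` of field kind: so is `b = a γ`; `card_C`, `vf_lt`, `lo_le`.  `a = 1`, `y` acts as `(conj (j u), conj (j u') * fl b)`, `u² = 1`; `CC` for `j u`.
If `j u` is bad, `|C_U(u)| < v γ` (`fx u 1`), and `card_TN`, `card_fix`, `UP` finish `b = γ`, and `b = 1` with `j u'` bad; `b = 1`, `j u'` good: `symm.core`.  If `j u` is good: `core` unless `b = 1` and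
`j u'` is good, when `y = μ (j u) ν (j u')` (`eq_of_inner`) contradicts `not_comm`. -/
theorem false (hγ : ∀ φ' ι, Ph m μ ν Γ N φ' ι → ι = m.γ) : False := by
  have := m.fin
  obtain ⟨n, χ, hχ⟩ := exists_chi m.comm s.p.ι1
  obtain ⟨τ, hτ⟩ := s.sq.exists_τ m.toBM
  obtain ⟨g, hy, k, h⟩ := ext_tr s.sylN (χ.comp (((MonoidHom.fst _ _).comp τ).comp (inclusion s.h0))) s.p.sq (s.pN.ge s.p.memN) (s.pCS φ)
    (inf_le_left.trans inf_le_right) inf_le_right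
  replace h := h.trans inf_le_left
  obtain ⟨a, b, ty⟩ := s.ty hy.1 (s.h0 hy)
  obtain ⟨a2, b2⟩ := s.ty_sq ty (cj2 s.p.sq g)
  obtain ⟨-, -, σ, hσ, -, aσ⟩ := s.decN hy ty
  have n0 := s.lb s.p
  rw [← Transfer.card_conj g (CS T N φ), s.conj_eq hy.1 h, _root_.sq] at n0
  have n1 := Nat.le_of_mul_le_mul_left (n0.trans (s.card_C ty le_rfl)) Nat.card_pos
  obtain ⟨u, u', ac⟩ := ty
  have n2 := Nat.le_of_mul_le_mul_left (n0.trans ((s.card_TN inf_le_left).trans (Nat.mul_le_mul_left _ (s.card_fix ac inf_le_right)))) Nat.card_pos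
  have aγ : a ≠ m.γ := fun e => hχ (by rw [← e, ← m.Θ_spec (m.j u) a, ← k]; exact congrArg (χ ·.1) (hτ ac _).symm)
  have ab := (s.dg2 hγ hσ aσ a2 b2).imp_left fun e => And.intro e ((s.dg hγ hσ (by rwa [show b = a from mul_left_cancel (e.trans a2.symm)] at aσ) a2).resolve_right aγ)
  rcases m.cases a2 with (rfl | c) | c
  rotate_left
  · exact aγ c
  · have e := ab.resolve_left fun e => c.ne1 e.2
    have lt {ι} (h : Fd m.γ ι) := (m.vf_lt h).trans_le (m.lo_le s.p.ι1)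
    exact (Nat.mul_lt_mul'' (lt c) (lt ⟨b2, fun k => aγ (by rwa [k, mul_one] at e), fun k => c.ne1 (by rwa [k, mul_eq_right] at e)⟩)).not_ge n1
  have cc {μ ν : J →* G} (s : KS m ψ t μ ν T Γ N φ) {u β} (ac : Ac μ ν (g * φ * g⁻¹) (MulAut.conj (m.j u) * m.fl 1) β) :
      m.j u * m.j u = 1 ∧ (m.j u ∈ ⁅𝐂[m.j u], 𝐂[m.j u]⁆ ∨ m.Big ∧ Nat.card (fx m.fU u 1) < Nat.card (m.V m.γ)) := by
    have u2 : m.j u * m.j u = 1 := by
      rw [← map_mul, show u * u = 1 by simpa using (m.R_sq (s.sq.ac_sq m.toBM ac (cj2 s.p.sq g)).1).1, map_one]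
    refine ⟨u2, (m.CC s.p.ι1 _ u2).imp_right (And.imp_right fun k => ?_)⟩
    rw [← card_map_of_injective m.em.inj]
    refine k _ ?_ ((m.pU.to_subgroup _).map _)
    rintro _ ⟨x, hx, rfl⟩
    rw [mc, ← map_mul, ← map_mul, cjf.1 (show u * x * u⁻¹ = x by simpa using mem_fx.1 hx)]
  obtain ⟨u2, hu⟩ := cc s ac
  obtain rfl | rfl : b = 1 ∨ b = m.γ := ab.imp (fun e => by simpa using e.1) fun e => by simpa using e
  · obtain ⟨u2', hu'⟩ := cc s.symm (And.symm ac)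
    rw [map_one, mul_one, mul_one] at ac
    rcases hu with hu | ⟨B, hu⟩ <;> rcases hu' with hu' | ⟨B', hu'⟩
    · have l := inf_le_inf_right 𝐂[g * φ * g⁻¹] s.μN
      have l' := inf_le_inf_right 𝐂[g * φ * g⁻¹] s.νN
      have := mul_mem (commutator_mono l l (good ac hu)) (commutator_mono l' l' (good (And.symm ac) hu'))
      rw [← s.sq.eq_of_inner m.toBM ac (cj2 s.p.sq g) u2 u2'] at this
      exact s.not_comm hy.1 h this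
    · exact s.core hγ hy.1 h ac hu (.inr ⟨m.Θ_conj _, B'⟩)
    · exact s.symm.core (fun _ _ p => hγ _ _ p.symm) hy.1 h (And.symm ac) hu' (.inr ⟨m.Θ_conj _, B⟩)
    · exact (Nat.mul_lt_mul'' hu hu').not_ge n2
  · rcases hu with hu | ⟨-, hu⟩
    · rw [map_one, mul_one] at ac
      exact s.core hγ hy.1 h ac hu (.inl (m.Θ_spec _ _))
    · exact (Nat.mul_lt_mul_of_lt_of_le hu (m.UP u' _) Nat.card_pos).not_ge n2
end KS

theorem SN.case1 (s : SN m ψ t μ ν T Γ N) (p : Ph m μ ν Γ N φ ι) (h : T ⊓ N ≤ N0 μ ν) : False := by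
  obtain rfl := s.case1a p h
  exact KS.false ⟨s, p, h⟩ fun _ _ p => s.case1a p h

end Cfsg.Lib.OS
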