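import Cfsg.Agent.Lib.OS.Ab
import Cfsg.Agent.Lib.Orth.GammaKer
import Cfsg.Agent.Lib.EqX.Nrm

/-!
# S3130, the orthogonal model 0: central filtrations whose factors are subspaces of `V` with a semilinear action.
-/

set_option autoImplicit false
set_option linter.unusedSectionVars false

namespace Cfsg.Lib.OS

open Subgroup Cfsg.Lib.Orth Finset

variable {F V U A : Type*} [Field F] [AddCommGroup V] [Module F V] {Q : QuadraticForm F V} [Group U] [Group A]

/-- The number of vectors of `M` fixed by `g`. -/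
noncomputable def nfix (g : Gam Q) (M : Submodule F V) : ℕ := Nat.card {w // w ∈ M ∧ g.T w = w}

/-- `S / S' ≅ M` is a central factor of `U`, with an equivariant section `x` into `G`. -/
structure Stp (fU : A →* MulAut U) (s : A →* Gam Q) (G : Set U) (M : Submodule F V) (S S' : Subgroup U) where
  c : U → V
  x : V → U
  le : S' ≤ S
  cM : ∀ g ∈ S, c g ∈ M
  mul : ∀ g ∈ S, ∀ h ∈ S, c (g * h) = c g + c h
  ker : ∀ g ∈ S, c g = 0 ↔ g ∈ S'
  cj : ∀ u, ∀ g ∈ S, u * g * u⁻¹ ∈ S ∧ c (u * g * u⁻¹) = c g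
  fS : ∀ θ, ∀ g ∈ S, fU θ g ∈ S ∧ c (fU θ g) = (s θ).T (c g)
  xS : ∀ w ∈ M, x w ∈ S ∧ x w ∈ G ∧ c (x w) = w ∧ ∀ θ, fU θ (x w) = x ((s θ).T w)

/-- A chain of steps from `S` down to `⊥`; `φ θ` is the product of the numbers of fixed vectors. -/
inductive CF (fU : A →* MulAut U) (s : A →* Gam Q) (G : Set U) : Subgroup U → (A → ℕ) → Prop
  | bot : CF fU s G ⊥ fun _ => 1
  | step {M : Submodule F V} {S S' : Subgroup U} {φ : A → ℕ} :
      Stp fU s G M S S' → CF fU s G S' φ → CF fU s G S fun θ => nfix (s θ) M * φ θ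

theorem gpow_T (g : Gam Q) (k : ℕ) (v : V) : (g ^ (k + 1)).T v = g.T ((g ^ k).T v) := by rw [pow_succ', Gam.mul_T]

theorem gpow_σ (g : Gam Q) (k : ℕ) (a : F) : (g ^ (k + 1)).σ a = g.σ ((g ^ k).σ a) := by rw [pow_succ', Gam.mul_σ]; rfl

theorem gpow_mem (g : Gam Q) {M : Submodule F V} (hM : ∀ w ∈ M, g.T w ∈ M) {w : V} (hw : w ∈ M) (k : ℕ) : (g ^ k).T w ∈ M := by
  induction k with
  | zero => simpa using hw
  | succ k ih => rw [gpow_T]; exact hM _ ih

theorem gpow_comm (g : Gam Q) (k l : ℕ) (v : V) : (g ^ k).T ((g ^ l).T v) = (g ^ l).T ((g ^ k).T v) := by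
  rw [← Gam.mul_T, ← Gam.mul_T, ← pow_add, ← pow_add, add_comm]

theorem gpow_comm_σ (g : Gam Q) (k l : ℕ) (a : F) : (g ^ k).σ ((g ^ l).σ a) = (g ^ l).σ ((g ^ k).σ a) := by
  have e : ∀ k l : ℕ, (g ^ k).σ ((g ^ l).σ a) = (g ^ (k + l)).σ a := fun k l => by rw [pow_add, Gam.mul_σ]; rfl
  rw [e, e, add_comm]

theorem gpow_c (g : Gam Q) (hc : g.c = 1) (k : ℕ) : ((g ^ k).c : F) = 1 := by
  induction k with
  | zero => simp
  | succ k ih => rw [pow_succ, Gam.mul_c, ih, hc]; simp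

theorem gpow_fix (g : Gam Q) {v : V} (hv : g.T v = v) (k : ℕ) : (g ^ k).T v = v := by
  induction k with
  | zero => simp
  | succ k ih => rw [gpow_T, ih, hv]
/-- Additive Hilbert 90.  With `S k = ∑ j < k, g ^ j w` take `w' = ∑ k < N, σ ^ k a • S k`: then `g w' - w' = σ ^ N a • S N - (∑ σ ^ (k + 1) a) • w = - w`;
replace `w'` by `- w'`. -/
theorem h90 (g : Gam Q) (N : ℕ) {a : F} (ha : (g ^ N).σ a = a) (h1 : ∑ k ∈ range N, (g ^ k).σ a = 1) {M : Submodule F V}
    (hM : ∀ w ∈ M, g.T w ∈ M) {w : V} (hw : w ∈ M) (hf : (g ^ N).T w = w) (h0 : ∑ k ∈ range N, (g ^ k).T w = 0) :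
    ∃ w' ∈ M, (g ^ N).T w' = w' ∧ w = g.T w' - w' := by
  set S : ℕ → V := fun k => ∑ j ∈ range k, (g ^ j).T w with hS
  have hs : ∀ k, g.T (S k) = S (k + 1) - w := fun k => by
    simp only [hS, map_sum, sum_range_succ', ← gpow_T]
    simp
  refine ⟨-∑ k ∈ range N, (g ^ k).σ a • S k, neg_mem (sum_mem fun k _ => M.smul_mem _ (sum_mem fun j _ => gpow_mem g hM hw j)), ?_, ?_⟩
  · rw [map_neg, map_sum]
    congr 1
    refine sum_congr rfl fun k _ => ?_
    rw [Gam.map_smul, gpow_comm_σ, ha]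
    congr 1
    simp only [hS, map_sum]
    exact sum_congr rfl fun j _ => by rw [gpow_comm, hf]
  · have e1 : ∑ k ∈ range N, (g ^ (k + 1)).σ a = 1 := by
      simp only [gpow_σ]
      rw [← map_sum, h1, map_one]
    have e2 : ∑ k ∈ range N, (g ^ (k + 1)).σ a • S (k + 1) = ∑ k ∈ range N, (g ^ k).σ a • S k := by
      have e := sum_range_succ' (fun k => (g ^ k).σ a • S k) N
      rw [sum_range_succ] at e
      have z0 : S 0 = 0 := by simp [hS]
      have zN : S N = 0 := h0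
      rw [z0, zN, smul_zero, smul_zero, add_zero, add_zero] at e
      exact e.symm
    have e3 : g.T (∑ k ∈ range N, (g ^ k).σ a • S k) = ∑ k ∈ range N, (g ^ k).σ a • S k - w := by
      rw [map_sum]
      simp only [Gam.map_smul, hs, ← gpow_σ, smul_sub]
      rw [sum_sub_distrib, e2, ← sum_smul, e1, one_smul]
    rw [map_neg, e3]
    abel

/-- A fixed vector with a given value of an equivariant functional: `u' = ∑ k < N, g ^ k (a • u)`. -/
theorem exists_fix (g : Gam Q) (hc : g.c = 1) (N : ℕ) (hN : g ^ N = 1) {a : F} (h1 : ∑ k ∈ range N, (g ^ k).σ a = 1) {M : Submodule F V}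
    (hM : ∀ w ∈ M, g.T w ∈ M) {v u : V} (hv : g.T v = v) (hu : u ∈ M) (h : QuadraticMap.polar Q v u = 1) :
    ∃ u' ∈ M, g.T u' = u' ∧ QuadraticMap.polar Q v u' = 1 := by
  refine ⟨∑ k ∈ range N, (g ^ k).T (a • u), sum_mem fun k _ => gpow_mem g hM (M.smul_mem _ hu) k, ?_, ?_⟩
  · rw [map_sum]
    simp only [← gpow_T]
    have e := sum_range_succ' (fun k => (g ^ k).T (a • u)) N
    rw [sum_range_succ, hN, pow_zero] at e
    exact (add_right_cancel e).symm
  · have e : ∀ k, QuadraticMap.polar Q v ((g ^ k).T (a • u)) = (g ^ k).σ a := fun k => by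
      conv_lhs => rw [← gpow_fix g hv k]
      rw [Gam.map_polar, gpow_c g hc, polar_smul_right', h, one_mul, mul_one]
    rw [← h1, ← QuadraticMap.polarBilin_apply_apply, map_sum]
    exact sum_congr rfl fun k _ => e k

/-- Dedekind: if `σ` has order exactly `N` on the fixed field of `σ ^ N` then the trace `∑ k < N, σ ^ k` is not zero there (`linearIndependent_monoidHom`
for the restrictions of `σ ^ k`, `k < N`, to the subfield fixed by `σ ^ N`); divide by the trace, which is fixed by `σ`. -/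
theorem exists_tr (σ : F ≃+* F) {N : ℕ} (hN : 0 < N) (h : ∀ k, 0 < k → k < N → ∃ a, (σ ^ N) a = a ∧ (σ ^ k) a ≠ a) :
    ∃ a, (σ ^ N) a = a ∧ ∑ k ∈ range N, (σ ^ k) a = 1 := by
  let K : Submonoid F :=
    { carrier := {a | (σ ^ N) a = a}
      mul_mem' := fun {a b} ha hb => by
        rw [Set.mem_setOf_eq] at *
        rw [map_mul, ha, hb]
      one_mem' := map_one _ }
  let φ : Fin N → (K →* F) := fun k => ((σ ^ (k : ℕ) : F ≃+* F) : F →* F).comp K.subtype
  have key : ∀ k l : Fin N, k < l → φ k ≠ φ l := fun k l hkl e => by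
    have hkl' : (k : ℕ) < l := hkl
    obtain ⟨b, hb, hb'⟩ := h (l - k) (by omega) (by omega)
    have e' : (σ ^ (k : ℕ)) b = (σ ^ (l : ℕ)) b := DFunLike.congr_fun e ⟨b, hb⟩
    apply hb'
    apply (σ ^ (k : ℕ)).injective
    rw [e']
    change (σ ^ (k : ℕ) * σ ^ ((l : ℕ) - k)) b = _
    rw [← pow_add, Nat.add_sub_cancel' hkl'.le]
  have inj : Function.Injective φ := fun k l e => by
    rcases lt_trichotomy k l with c | c | c
    · exact absurd e (key k l c)
    · exact c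
    · exact absurd e.symm (key l k c)
  have li := (linearIndependent_monoidHom K F).comp φ inj
  obtain ⟨b, hb, ht⟩ : ∃ b, (σ ^ N) b = b ∧ ∑ k ∈ range N, (σ ^ k) b ≠ 0 := by
    by_contra hc
    push Not at hc
    refine one_ne_zero (Fintype.linearIndependent_iff.1 li (fun _ => 1) ?_ ⟨0, hN⟩)
    funext b
    have := hc b b.2
    rw [← Fin.sum_univ_eq_sum_range (fun k => (σ ^ k) (b : F)) N] at this
    simpa [φ] using this
  set t := ∑ k ∈ range N, (σ ^ k) b with hT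
  have h1 : σ t = t := by
    have e := sum_range_succ' (fun k => (σ ^ k) b) N
    rw [sum_range_succ, hb, pow_zero] at e
    have e' : ∀ k, σ ((σ ^ k) b) = (σ ^ (k + 1)) b := fun k => by rw [pow_succ']; rfl
    rw [hT, map_sum]
    simp only [e']
    exact (add_right_cancel e).symm
  have hk : ∀ k : ℕ, (σ ^ k) t = t := fun k => by
    induction k with
    | zero => rfl
    | succ k ih =>
      rw [pow_succ']
      exact (congrArg σ ih).trans h1
  refine ⟨b / t, by rw [map_div₀, hb, hk], ?_⟩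
  simp only [map_div₀, hk]
  rw [← sum_div, ← hT, div_self ht]

namespace Stp

variable {fU : A →* MulAut U} {s : A →* Gam Q} {G : Set U} {M : Submodule F V} {S S' : Subgroup U} (t : Stp fU s G M S S')

theorem c_one : t.c 1 = 0 := (t.ker 1 S.one_mem).2 S'.one_mem

theorem c_inv {g : U} (hg : g ∈ S) : t.c g⁻¹ = -t.c g := by
  rw [eq_neg_iff_add_eq_zero, ← t.mul _ (S.inv_mem hg) _ hg, inv_mul_cancel, t.c_one]

include t in
theorem T_mem (θ : A) (w : V) (hw : w ∈ M) : (s θ).T w ∈ M := by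
  obtain ⟨h1, -, h2, -⟩ := t.xS w hw
  have := t.cM _ (t.fS θ _ h1).1
  rwa [(t.fS θ _ h1).2, h2] at this

theorem c_fix {u g : U} {θ : A} (h : g ∈ fx fU u θ) (hg : g ∈ S) : (s θ).T (t.c g) = t.c g := by
  have h' : u * fU θ g * u⁻¹ = g := h
  rw [← (t.fS θ g hg).2, ← (t.cj u _ (t.fS θ g hg).1).2, h']

include t in
theorem card (u : U) (θ : A) : ∃ R : Set V, R ⊆ {w | w ∈ M ∧ (s θ).T w = w} ∧ (u = 1 → R = {w | w ∈ M ∧ (s θ).T w = w}) ∧
    Nat.card ↥(fx fU u θ ⊓ S) = Nat.card R * Nat.card ↥(fx fU u θ ⊓ S') := by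
  let ψ : ↥(fx fU u θ ⊓ S) →* Multiplicative V :=
    MonoidHom.mk' (fun g => Multiplicative.ofAdd (t.c g)) fun g h => congrArg Multiplicative.ofAdd (t.mul _ g.2.2 _ h.2.2)
  have hle : fx fU u θ ⊓ S' ≤ fx fU u θ ⊓ S := inf_le_inf_left _ t.le
  have hk : ψ.ker = (fx fU u θ ⊓ S').subgroupOf (fx fU u θ ⊓ S) := by
    ext g
    rw [MonoidHom.mem_ker, mem_subgroupOf, Subgroup.mem_inf]
    exact ⟨fun h => ⟨g.2.1, (t.ker _ g.2.2).1 h⟩, fun h => (t.ker _ g.2.2).2 h.2⟩
  have hR : {w : V | Multiplicative.ofAdd w ∈ ψ.range} ⊆ {w | w ∈ M ∧ (s θ).T w = w} := by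
    rintro w ⟨g, hg⟩
    obtain rfl : t.c g = w := hg
    exact ⟨t.cM _ g.2.2, t.c_fix g.2.1 g.2.2⟩
  refine ⟨{w | Multiplicative.ofAdd w ∈ ψ.range}, hR, ?_, ?_⟩
  · rintro rfl
    refine hR.antisymm fun w hw => ?_
    obtain ⟨h1, -, h2, h3⟩ := t.xS w hw.1
    refine ⟨⟨t.x w, ?_, h1⟩, congrArg Multiplicative.ofAdd h2⟩
    change 1 * fU θ (t.x w) * 1⁻¹ = t.x w
    rw [h3, hw.2]; simp
  · rw [← ψ.ker.card_mul_index, Subgroup.index_ker, hk, Nat.card_congr (subgroupOfEquivOfLe hle).toEquiv, mul_comm]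
    rfl

end Stp
namespace CF

variable [Finite U] [Finite V] {fU : A →* MulAut U} {s : A →* Gam Q} {G : Set U} {S : Subgroup U} {φ : A → ℕ} (h : CF fU s G S φ)
include h

/-- Induction: `c` maps `fx u θ ⊓ S` into the fixed vectors of `M` (`cj`, `fS`), with fibres the cosets of `fx u θ ⊓ S'`. -/
theorem card_le (u : U) (θ : A) : Nat.card ↥(fx fU u θ ⊓ S) ≤ φ θ := by
  induction h with
  | bot => simp
  | step t _ ih =>
    obtain ⟨R, h1, -, h2⟩ := t.card u θ
    rw [h2]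
    exact Nat.mul_le_mul (Nat.card_mono (Set.toFinite _) h1) ih

/-- For `u = 1` the map is onto (`xS`). -/
theorem card_eq (θ : A) : Nat.card ↥(fx fU 1 θ ⊓ S) = φ θ := by
  induction h with
  | bot => simp
  | step t _ ih =>
    obtain ⟨R, -, h1, h2⟩ := t.card 1 θ
    rw [h2, ih, h1 rfl]
    rfl

/-- `g = x (c g) * g'` with `g' ∈ S'` fixed. -/
theorem gen (θ : A) (X : Subgroup U) (hX : ∀ g ∈ G, fU θ g = g → g ∈ X) : fx fU 1 θ ⊓ S ≤ X := by
  induction h with
  | bot => simp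
  | @step M S S' φ t _ ih =>
    intro g hg
    obtain ⟨h1, h2⟩ := Subgroup.mem_inf.1 hg
    obtain ⟨x1, x2, x3, x4⟩ := t.xS _ (t.cM g h2)
    have e : fU θ (t.x (t.c g)) = t.x (t.c g) := by rw [x4, t.c_fix h1 h2]
    have hx : t.x (t.c g) ∈ fx fU 1 θ := by
      change 1 * fU θ _ * 1⁻¹ = _
      rw [e]; simp
    have h3 : (t.x (t.c g))⁻¹ * g ∈ S' := by
      rw [← t.ker _ (S.mul_mem (S.inv_mem x1) h2), t.mul _ (S.inv_mem x1) _ h2, t.c_inv x1, x3, neg_add_cancel]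
    have := X.mul_mem (hX _ x2 e) (ih (Subgroup.mem_inf.2 ⟨mul_mem (inv_mem hx) h1, h3⟩))
    simpa using this

/-- Lang.  Step: `c (nrm u k) = ∑ j < k, σ ^ j (c u)`; `h90` gives `w'`; with `y = x w'` (fixed by `σ ^ N`) the element `u' = y * u * (σ y)⁻¹` lies in `S'`,
is fixed by `σ ^ N`, and `nrm u' k = y * nrm u k * (σ ^ k y)⁻¹`. -/
theorem lang (σ : A) (N : ℕ) {a : F} (ha : (s (σ ^ N)).σ a = a) (h1 : ∑ k ∈ range N, (s (σ ^ k)).σ a = 1) {u : U} (hu : u ∈ S)
    (hf : fU (σ ^ N) u = u) (hn : nrm fU σ u N = 1) : ∃ w, u = w⁻¹ * fU σ w := by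
  induction h generalizing u with
  | bot => exact ⟨1, by simpa using hu⟩
  | @step M S S' φ t _ ih =>
    have hk : ∀ k, nrm fU σ u k ∈ S ∧ t.c (nrm fU σ u k) = ∑ j ∈ range k, (s σ ^ j).T (t.c u) := fun k => by
      induction k with
      | zero => exact ⟨S.one_mem, t.c_one⟩
      | succ k ih =>
        refine ⟨S.mul_mem hu (t.fS σ _ ih.1).1, ?_⟩
        rw [nrm, t.mul _ hu _ (t.fS σ _ ih.1).1, (t.fS σ _ ih.1).2, ih.2, map_sum, sum_range_succ', add_comm]
        simp only [gpow_T, pow_zero, Gam.one_T]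
    simp only [map_pow s] at ha h1
    obtain ⟨w, hw, w1, w2⟩ := h90 (s σ) N ha h1 (t.T_mem σ) (t.cM u hu) (by rw [← map_pow, ← (t.fS _ u hu).2, hf])
      (by rw [← (hk N).2, hn, t.c_one])
    obtain ⟨x1, -, x3, x4⟩ := t.xS w hw
    set y := t.x w with hy
    have y1 : fU (σ ^ N) y = y := by rw [x4, map_pow, w1]
    have y2 := t.fS σ y x1
    have h3 : y * u * (fU σ y)⁻¹ ∈ S' := by
      rw [← t.ker _ (S.mul_mem (S.mul_mem x1 hu) (S.inv_mem y2.1)), t.mul _ (S.mul_mem x1 hu) _ (S.inv_mem y2.1), t.mul _ x1 _ hu,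
        t.c_inv y2.1, y2.2, x3, w2]
      abel
    have h4 : ∀ k, nrm fU σ (y * u * (fU σ y)⁻¹) k = y * nrm fU σ u k * (fU (σ ^ k) y)⁻¹ := fun k => by
      induction k with
      | zero => simp [nrm]
      | succ k ih =>
        rw [nrm, nrm, ih, pow_succ', map_mul fU, MulAut.mul_apply]
        simp only [map_mul, map_inv]
        group
    have h5 : fU (σ ^ N) (fU σ y) = fU σ y := by
      rw [← MulAut.mul_apply, ← map_mul, ← pow_succ, pow_succ', map_mul, MulAut.mul_apply, y1]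
    obtain ⟨z, hz⟩ := ih h3 (by rw [map_mul, map_mul, map_inv, y1, hf, h5]) (by rw [h4, hn, y1]; simp)
    refine ⟨z * y, ?_⟩
    rw [map_mul, mul_inv_rev, mul_assoc, ← mul_assoc z⁻¹, ← hz]
    group

end CF

end Cfsg.Lib.OS
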