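import Cfsg.Agent.Lib.OS.M0
import Cfsg.Agent.Lib.Orth.CharTwo

/-!
# S3130, the orthogonal model 1: the frame, the flag, the filtration `H`.
`V = ⟨e₀, f₀⟩ ⊥ ⋯ ⊥ ⟨e_{m-1}, f_{m-1}⟩ ⊥ V₀`, `dim V₀ = 2` (either type), characteristic two.  Levels: `e i ↦ i`, `V₀ ↦ m`, `f i ↦ 2 m - i`;
`Fl d` is the span of the levels `< d`.  The coefficient of `e i` in `v` is `B (f i) v`, that of `f i` is `B (e i) v`.
-/

set_option autoImplicit false
set_option linter.unusedSectionVars false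

namespace Cfsg.Lib.OS

open Subgroup Cfsg.Lib.Orth Finset Module QuadraticMap
open scoped commutatorElement

variable {F V : Type*} [Field F] [AddCommGroup V] [Module F V]

/-- The frame, with a group `A` of semi-isometries fixing it, Sylow in the group of all such. -/
structure Fr (Q : QuadraticForm F V) (m : ℕ) (A : Type*) [Group A] where
  e : ℕ → V
  f : ℕ → V
  v0 : V
  s : A →* Gam Q
  γ : A
  h2 : (2 : F) = 0
  nd : ND Q
  rk : finrank F V = 2 * m + 2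
  m3 : 3 ≤ m
  Qe : ∀ i, Q (e i) = 0
  Qf : ∀ i, Q (f i) = 0
  ee : ∀ i j, polar Q (e i) (e j) = 0
  ff : ∀ i j, polar Q (f i) (f j) = 0
  ef : ∀ i j, polar Q (e i) (f j) = if i = j ∧ i < m then 1 else 0
  e0 : ∀ i, m ≤ i → e i = 0
  f0 : ∀ i, m ≤ i → f i = 0
  ev : ∀ i, polar Q (e i) v0 = 0
  fv : ∀ i, polar Q (f i) v0 = 0
  Qv : Q v0 = 1
  sc : ∀ θ, (s θ).c = 1
  se : ∀ θ i, (s θ).T (e i) = e i
  sf : ∀ θ i, (s θ).T (f i) = f i
  sv : ∀ θ, (s θ).T v0 = v0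
  inj : Function.Injective s
  sγ : s γ = Gam.ofO Q (refl Q v0)
  p2 : IsPGroup 2 A
  odd : ∃ o, Odd o ∧ Nat.card A * o = 2 * Nat.card (F ≃+* F)

namespace Fr

variable {Q : QuadraticForm F V} {m : ℕ} {A : Type*} [Group A] (r : Fr Q m A)

/-- `⟨e₀, …, e i⟩ ^ ⊥`. -/
def Ep (i : ℕ) : Submodule F V where
  carrier := {w | ∀ j ≤ i, polar Q (r.e j) w = 0}
  add_mem' ha hb j hj := by rw [polar_add_right, ha j hj, hb j hj, add_zero]
  zero_mem' j _ := polar_zero_right Q _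
  smul_mem' c _ h j hj := by rw [polar_smul_right', h j hj, mul_zero]

/-- `⟨e₀, f₀, …, e i, f i⟩ ^ ⊥`. -/
def W (i : ℕ) : Submodule F V where
  carrier := {w | ∀ j ≤ i, polar Q (r.e j) w = 0 ∧ polar Q (r.f j) w = 0}
  add_mem' ha hb j hj := by simp only [polar_add_right, ha j hj, hb j hj, add_zero, and_self]
  zero_mem' j _ := ⟨polar_zero_right Q _, polar_zero_right Q _⟩
  smul_mem' c _ h j hj := by simp only [polar_smul_right', h j hj, mul_zero, and_self]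

/-- The plane `V₀`. -/
abbrev V0 : Submodule F V := r.W m

/-- The span of the levels `< d`. -/
def Fl (d : ℕ) : Submodule F V where
  carrier := {v | (∀ i, d + i ≤ 2 * m → polar Q (r.e i) v = 0) ∧ (d ≤ m → ∀ u ∈ r.V0, polar Q u v = 0) ∧
    ∀ i, d ≤ i → polar Q (r.f i) v = 0}
  add_mem' ha hb := ⟨fun i hi => by rw [polar_add_right, ha.1 i hi, hb.1 i hi, add_zero],
    fun h u hu => by rw [polar_add_right, ha.2.1 h u hu, hb.2.1 h u hu, add_zero],
    fun i hi => by rw [polar_add_right, ha.2.2 i hi, hb.2.2 i hi, add_zero]⟩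
  zero_mem' := ⟨fun _ _ => polar_zero_right Q _, fun _ _ _ => polar_zero_right Q _, fun _ _ => polar_zero_right Q _⟩
  smul_mem' c _ ha := ⟨fun i hi => by rw [polar_smul_right', ha.1 i hi, mul_zero],
    fun h u hu => by rw [polar_smul_right', ha.2.1 h u hu, mul_zero], fun i hi => by rw [polar_smul_right', ha.2.2 i hi, mul_zero]⟩

/-- The projection onto `Ep i` along the `f j`, `j ≤ i`. -/
def pE (i : ℕ) : V →ₗ[F] V := LinearMap.id - ∑ j ∈ range (i + 1), (polarBilin Q (r.e j)).smulRight (r.f j)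

/-- The projection onto `W i`. -/
def pW (i : ℕ) : V →ₗ[F] V := r.pE i - ∑ j ∈ range (i + 1), (polarBilin Q (r.f j)).smulRight (r.e j)

variable {r} {i j d d' h h' : ℕ} {u v w : V} {c : F} {θ : A} {g g' : O Q}

theorem mem_Ep : w ∈ r.Ep i ↔ ∀ j ≤ i, polar Q (r.e j) w = 0 := Iff.rfl
theorem mem_W : w ∈ r.W i ↔ ∀ j ≤ i, polar Q (r.e j) w = 0 ∧ polar Q (r.f j) w = 0 := Iff.rfl
theorem mem_Fl : v ∈ r.Fl d ↔ (∀ i, d + i ≤ 2 * m → polar Q (r.e i) v = 0) ∧ (d ≤ m → ∀ u ∈ r.V0, polar Q u v = 0) ∧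
    ∀ i, d ≤ i → polar Q (r.f i) v = 0 := Iff.rfl
theorem W_le_Ep : r.W i ≤ r.Ep i := fun _ h j hj => (h j hj).1
theorem W_anti (h : i ≤ j) : r.W j ≤ r.W i := fun _ hw k hk => hw k (hk.trans h)
theorem Ep_anti (h : i ≤ j) : r.Ep j ≤ r.Ep i := fun _ hw k hk => hw k (hk.trans h)
theorem mem_V0 : u ∈ r.V0 ↔ ∀ j, polar Q (r.e j) u = 0 ∧ polar Q (r.f j) u = 0 :=
  ⟨fun h j => (le_total j m).elim (h j) fun k => by simp [r.e0 j k, r.f0 j k], fun h j _ => h j⟩
theorem V0_le_W : r.V0 ≤ r.W i := fun _ h j _ => mem_V0.1 h j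

variable (r)

include r in
theorem two (v : V) : v + v = 0 := add_self_of_two r.h2 v
include r in
theorem neg (v : V) : -v = v := neg_eq_of_two r.h2 v
include r in
theorem sub (v w : V) : v - w = v + w := by rw [sub_eq_add_neg, r.neg]
include r in
theorem pself (v : V) : polar Q v v = 0 := polar_self_of_two r.h2 v
theorem fe (i j : ℕ) : polar Q (r.f i) (r.e j) = if j = i ∧ j < m then 1 else 0 := by rw [polar_comm, r.ef]
theorem v0_mem : r.v0 ∈ r.V0 := fun j _ => ⟨r.ev j, r.fv j⟩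
theorem e_mem_Ep (i j : ℕ) : r.e j ∈ r.Ep i := fun k _ => r.ee k j
theorem T_polar (θ : A) (u v : V) : polar Q ((r.s θ).T u) ((r.s θ).T v) = (r.s θ).σ (polar Q u v) := by
  rw [Gam.map_polar, r.sc]; simp
theorem T_Q (θ : A) (v : V) : Q ((r.s θ).T v) = (r.s θ).σ (Q v) := by rw [Gam.map_Q, r.sc]; simp
theorem T_e (θ : A) (i : ℕ) (v : V) : polar Q (r.e i) ((r.s θ).T v) = (r.s θ).σ (polar Q (r.e i) v) := by
  rw [← r.T_polar, r.se]
theorem T_f (θ : A) (i : ℕ) (v : V) : polar Q (r.f i) ((r.s θ).T v) = (r.s θ).σ (polar Q (r.f i) v) := by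
  rw [← r.T_polar, r.sf]
theorem pe_hi {i : ℕ} (h : m ≤ i) (v : V) : polar Q (r.e i) v = 0 := by rw [r.e0 i h, polar_zero_left]
theorem pf_hi {i : ℕ} (h : m ≤ i) (v : V) : polar Q (r.f i) v = 0 := by rw [r.f0 i h, polar_zero_left]
theorem ef_ne {i j : ℕ} (h : i ≠ j) : polar Q (r.e i) (r.f j) = 0 := by rw [r.ef, if_neg fun k => h k.1]
theorem fe_ne {i j : ℕ} (h : i ≠ j) : polar Q (r.f i) (r.e j) = 0 := by rw [polar_comm, r.ef_ne h.symm]
theorem ef_self {i : ℕ} (h : i < m) : polar Q (r.e i) (r.f i) = 1 := by rw [r.ef, if_pos ⟨rfl, h⟩]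
theorem fe_self {i : ℕ} (h : i < m) : polar Q (r.f i) (r.e i) = 1 := by rw [polar_comm, r.ef_self h]
theorem psum (u : V) (s : Finset ℕ) (a : ℕ → F) (x : ℕ → V) : polar Q u (∑ j ∈ s, a j • x j) = ∑ j ∈ s, a j * polar Q u (x j) := by
  simp only [polar_sum_right, polar_smul_right']
theorem e_sum_e (k : ℕ) (s : Finset ℕ) (a : ℕ → F) : polar Q (r.e k) (∑ j ∈ s, a j • r.e j) = 0 := by simp [psum, r.ee]
theorem f_sum_f (k : ℕ) (s : Finset ℕ) (a : ℕ → F) : polar Q (r.f k) (∑ j ∈ s, a j • r.f j) = 0 := by simp [psum, r.ff]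
theorem e_sum_f (k n : ℕ) (v : V) :
    polar Q (r.e k) (∑ j ∈ range n, polar Q (r.e j) v • r.f j) = if k < n then polar Q (r.e k) v else 0 := by
  rw [psum]
  rcases le_or_gt m k with h | h
  · simp [r.pe_hi h]
  · simp [r.ef, h]
theorem f_sum_e (k n : ℕ) (v : V) :
    polar Q (r.f k) (∑ j ∈ range n, polar Q (r.f j) v • r.e j) = if k < n then polar Q (r.f k) v else 0 := by
  rw [psum]
  rcases le_or_gt m k with h | h
  · simp [r.pf_hi h]
  · have e : ∀ j, polar Q (r.f k) (r.e j) = if k = j then 1 else 0 := fun j => by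
      split_ifs with c
      exacts [c ▸ r.fe_self h, r.fe_ne c]
    simp [e]
theorem pE_apply (i : ℕ) (v : V) : r.pE i v = v - ∑ j ∈ range (i + 1), polar Q (r.e j) v • r.f j := by
  simp [pE]
theorem pW_apply (i : ℕ) (v : V) :
    r.pW i v = v - ∑ j ∈ range (i + 1), polar Q (r.e j) v • r.f j - ∑ j ∈ range (i + 1), polar Q (r.f j) v • r.e j := by
  simp [pW, pE]

variable {r}

theorem e_pE (k : ℕ) : polar Q (r.e k) (r.pE i v) = if k ≤ i then 0 else polar Q (r.e k) v := by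
  rw [pE_apply, polar_sub_right, e_sum_f]
  by_cases h : k ≤ i <;> simp [h, Nat.lt_succ_iff]
theorem f_pE (k : ℕ) : polar Q (r.f k) (r.pE i v) = polar Q (r.f k) v := by
  rw [pE_apply, polar_sub_right, f_sum_f, sub_zero]
theorem e_pW (k : ℕ) : polar Q (r.e k) (r.pW i v) = if k ≤ i then 0 else polar Q (r.e k) v := by
  rw [pW_apply, polar_sub_right, e_sum_e, sub_zero, ← pE_apply, e_pE]
theorem f_pW (k : ℕ) : polar Q (r.f k) (r.pW i v) = if k ≤ i then 0 else polar Q (r.f k) v := by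
  rw [pW_apply, polar_sub_right, ← pE_apply, f_pE, f_sum_e]
  by_cases h : k ≤ i <;> simp [h, Nat.lt_succ_iff]
theorem V0_e (hu : u ∈ r.V0) (j : ℕ) : polar Q u (r.e j) = 0 := by rw [polar_comm, (mem_V0.1 hu j).1]
theorem V0_f (hu : u ∈ r.V0) (j : ℕ) : polar Q u (r.f j) = 0 := by rw [polar_comm, (mem_V0.1 hu j).2]
theorem f_mem_Ep (h : i < j) : r.f j ∈ r.Ep i := fun _ hk => r.ef_ne (hk.trans_lt h).ne
theorem e_mem_W (h : i < j) : r.e j ∈ r.W i := fun _ hk => ⟨r.ee _ _, r.fe_ne (hk.trans_lt h).ne⟩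
theorem f_mem_W (h : i < j) : r.f j ∈ r.W i := fun _ hk => ⟨r.ef_ne (hk.trans_lt h).ne, r.ff _ _⟩
theorem pE_mem : r.pE i v ∈ r.Ep i := fun k hk => by rw [e_pE, if_pos hk]
theorem pE_of_mem (h : w ∈ r.Ep i) : r.pE i w = w := by
  rw [pE_apply, sum_eq_zero fun j hj => by rw [h j (Nat.lt_succ_iff.1 (mem_range.1 hj)), zero_smul], sub_zero]
theorem pW_mem : r.pW i v ∈ r.W i := fun k hk => by rw [e_pW, f_pW, if_pos hk, if_pos hk, and_self]
theorem pW_of_mem (h : w ∈ r.W i) : r.pW i w = w := by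
  rw [pW_apply, ← pE_apply, pE_of_mem (W_le_Ep h),
    sum_eq_zero fun j hj => by rw [(h j (Nat.lt_succ_iff.1 (mem_range.1 hj))).2, zero_smul], sub_zero]
theorem polar_pW (hu : u ∈ r.W i) : polar Q u (r.pW i v) = polar Q u v := by
  rw [pW_apply, polar_sub_right, polar_sub_right, psum, psum,
    sum_eq_zero fun j hj => by rw [polar_comm Q u, (hu j (Nat.lt_succ_iff.1 (mem_range.1 hj))).2, mul_zero],
    sum_eq_zero fun j hj => by rw [polar_comm Q u, (hu j (Nat.lt_succ_iff.1 (mem_range.1 hj))).1, mul_zero], sub_zero, sub_zero]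
/-- `v = ∑ (⋯ e j + ⋯ f j) + pW m v` is orthogonal to everything. -/
theorem eq_zero (he : ∀ j, polar Q (r.e j) v = 0) (hf : ∀ j, polar Q (r.f j) v = 0) (h0 : ∀ u ∈ r.V0, polar Q u v = 0) : v = 0 :=
  r.nd.eq_zero fun y => by rw [← polar_pW (r := r) (i := m) fun j _ => ⟨he j, hf j⟩, polar_comm, h0 _ pW_mem]
/-- `w = pW i w + ∑ j ≤ i, B (f j) w • e j`. -/
theorem sub_pW (h : w ∈ r.Ep i) (hi : i < m) : w - r.pW i w ∈ r.Fl (i + 1) := by
  refine ⟨fun k _ => ?_, fun _ u hu => by rw [polar_sub_right, polar_pW (V0_le_W hu), sub_self], fun k hk => ?_⟩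
  · rw [polar_sub_right, e_pW]
    split_ifs with c
    · rw [h k c, sub_zero]
    · rw [sub_self]
  · rw [polar_sub_right, f_pW, if_neg (by omega), sub_self]
theorem pW_Fl (h : v ∈ r.Fl (i + 1)) (hi : i < m) : r.pW i v = 0 := by
  refine eq_zero (r := r) (fun k => ?_) (fun k => ?_) fun u hu => by rw [polar_pW (V0_le_W hu), h.2.1 hi u hu]
  · rw [e_pW]
    split_ifs
    · rfl
    · exact (le_or_gt m k).elim (r.pe_hi · v) fun c => h.1 k (by omega)
  · rw [f_pW]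
    split_ifs
    · rfl
    · exact h.2.2 k (by omega)
theorem pW_f (h : j ≤ i) : r.pW i (r.f j) = 0 := by
  refine eq_zero (r := r) (fun k => ?_) (fun k => by rw [f_pW, r.ff, ite_self]) fun u hu => by rw [polar_pW (V0_le_W hu), V0_f hu]
  rw [e_pW]
  split_ifs
  · rfl
  · exact r.ef_ne (by omega)
/-- `pW i` does not raise levels. -/
theorem pW_mem_Fl (h : v ∈ r.Fl d) : r.pW i v ∈ r.Fl d := ⟨fun k hk => by rw [e_pW, h.1 k hk, ite_self],
  fun c u hu => by rw [polar_pW (V0_le_W hu), h.2.1 c u hu], fun k hk => by rw [f_pW, h.2.2 k hk, ite_self]⟩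
theorem W_nd (hw : w ∈ r.W i) (h : ∀ u ∈ r.W i, polar Q u w = 0) : w = 0 :=   eq_zero (r := r) (fun j => (le_or_gt j i).elim (fun c => (hw j c).1) fun c => h _ (e_mem_W c))
    (fun j => (le_or_gt j i).elim (fun c => (hw j c).2) fun c => h _ (f_mem_W c)) fun u hu => h u (V0_le_W hu)
theorem T_Ep : (r.s θ).T w ∈ r.Ep i ↔ w ∈ r.Ep i := by simp only [mem_Ep, T_e, map_eq_zero_iff _ (RingEquiv.injective _)]
theorem T_W : (r.s θ).T w ∈ r.W i ↔ w ∈ r.W i := by simp only [mem_W, T_e, T_f, map_eq_zero_iff _ (RingEquiv.injective _)]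
theorem T_Fl : (r.s θ).T v ∈ r.Fl d ↔ v ∈ r.Fl d := by
  simp only [mem_Fl, T_e, T_f, map_eq_zero_iff _ (RingEquiv.injective _)]
  refine and_congr_right' (and_congr_left' (imp_congr_right fun _ => ⟨fun k u hu => ?_, fun k u hu => ?_⟩))
  · exact (Gam.polar_T_eq_zero _).1 (k _ (T_W.2 hu))
  · rw [← (r.s θ).T_inv_T u] at hu ⊢
    exact (Gam.polar_T_eq_zero _).2 (k _ (T_W.1 hu))
theorem T_pE : (r.s θ).T (r.pE i v) = r.pE i ((r.s θ).T v) := by simp only [pE_apply, map_sub, map_sum, Gam.map_smul, r.sf, T_e]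
theorem T_pW : (r.s θ).T (r.pW i v) = r.pW i ((r.s θ).T v) := by simp only [pW_apply, map_sub, map_sum, Gam.map_smul, r.sf, r.se, T_e, T_f]
theorem Fl_mono (h : d ≤ d') : r.Fl d ≤ r.Fl d' := fun _ hv =>
  ⟨fun k hk => hv.1 k (by omega), fun c => hv.2.1 (h.trans c), fun k hk => hv.2.2 k (h.trans hk)⟩
theorem Fl_zero : r.Fl 0 = ⊥ := (Submodule.eq_bot_iff _).2 fun v hv =>
  eq_zero (r := r) (fun k => (le_or_gt m k).elim (r.pe_hi · v) fun c => hv.1 k (by omega)) (fun k => hv.2.2 k k.zero_le)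
    (hv.2.1 m.zero_le)
theorem Fl_top (h : 2 * m + 1 ≤ d) : r.Fl d = ⊤ := Submodule.eq_top_iff'.2 fun v =>
  ⟨fun k hk => by omega, fun c => by omega, fun k hk => r.pf_hi (by omega) v⟩
theorem e_mem_Fl (h : i < d) : r.e i ∈ r.Fl d := ⟨fun _ _ => r.ee _ _, fun _ _ hu => V0_e hu i, fun k hk => r.fe_ne (by omega)⟩
theorem f_mem_Fl (h : 2 * m < d + i) : r.f i ∈ r.Fl d := ⟨fun k hk => r.ef_ne (by omega), fun _ _ hu => V0_f hu i, fun _ _ => r.ff _ _⟩
theorem V0_le_Fl (h : m < d) : r.V0 ≤ r.Fl d := fun _ hu => ⟨fun k _ => (mem_V0.1 hu k).1, fun c => by omega, fun k _ => (mem_V0.1 hu k).2⟩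
/-- The totally singular part of the flag. -/
theorem mem_Fl_low (h : d ≤ m) : v ∈ r.Fl d ↔ v = ∑ j ∈ range d, polar Q (r.f j) v • r.e j := by
  refine ⟨fun hv => sub_eq_zero.1 (eq_zero (r := r) (fun k => ?_) (fun k => ?_) fun u hu => ?_), fun hv => ?_⟩
  · rw [polar_sub_right, e_sum_e, sub_zero]
    exact (le_or_gt m k).elim (r.pe_hi · v) fun c => hv.1 k (by omega)
  · rw [polar_sub_right, f_sum_e]
    split_ifs with c
    · rw [sub_self]
    · rw [sub_zero, hv.2.2 k (by omega)]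
  · simp [polar_sub_right, psum, V0_e hu, hv.2.1 h u hu]
  · rw [hv]
    exact sum_mem fun j hj => Submodule.smul_mem _ _ (e_mem_Fl (mem_range.1 hj))
theorem mem_Fl_one : v ∈ r.Fl 1 ↔ ∃ a : F, v = a • r.e 0 := by
  have := r.m3
  refine ⟨fun hv => ⟨_, by simpa using (mem_Fl_low (by omega)).1 hv⟩, ?_⟩
  rintro ⟨a, rfl⟩
  exact Submodule.smul_mem _ _ (e_mem_Fl one_pos)
theorem mem_Fl_two : v ∈ r.Fl 2 ↔ ∃ a b : F, v = a • r.e 0 + b • r.e 1 := by
  have := r.m3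
  refine ⟨fun hv => ⟨_, _, by simpa [sum_range_succ] using (mem_Fl_low (by omega)).1 hv⟩, ?_⟩
  rintro ⟨a, b, rfl⟩
  exact add_mem (Submodule.smul_mem _ _ (e_mem_Fl two_pos)) (Submodule.smul_mem _ _ (e_mem_Fl one_lt_two))
theorem Q_Fl (h : d ≤ m) (hv : v ∈ r.Fl d) : Q v = 0 := by
  rw [(mem_Fl_low h).1 hv]
  exact ts_span_range r.Qe r.ee _ (sum_mem fun j _ => Submodule.smul_mem _ _ (Submodule.subset_span ⟨j, rfl⟩))
theorem Fl_high (h : i < m) : r.Fl (2 * m - i) = r.Ep i := Submodule.ext fun v =>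
  ⟨fun hv k hk => hv.1 k (by omega), fun hv => ⟨fun k hk => hv k (by omega), fun c => by omega, fun k hk => r.pf_hi (by omega) v⟩⟩
theorem polar_Fl (hv : v ∈ r.Fl d) (hw : w ∈ r.Fl d') (h : d + d' ≤ 2 * m + 1) : polar Q v w = 0 := by
  wlog c : d ≤ m generalizing d d' v w
  · rw [polar_comm]
    exact this hw hv (by omega) (by omega)
  rw [(mem_Fl_low c).1 hv, polar_comm, psum]
  exact sum_eq_zero fun j hj => by rw [polar_comm Q w, hw.1 j (by have := mem_range.1 hj; omega), mul_zero]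
theorem W_inf_Fl (hw : w ∈ r.W i) (h : w ∈ r.Fl (i + 1)) (hi : i < m) : w = 0 := by rw [← pW_of_mem hw, pW_Fl h hi]

variable [FiniteDimensional F V]

theorem hypFam (r : Fr Q m A) {n : ℕ} (hn : n ≤ m) : IsHypFam Q (fun j : Fin n => r.e j) fun j : Fin n => r.f j :=
  ⟨fun _ => r.Qe _, fun _ => r.Qf _, fun _ _ => r.ee _ _, fun _ _ => r.ff _ _, fun i j => by
    simp [r.ef, Fin.ext_iff, i.2.trans_le hn]⟩
theorem mem_perp_fam {n : ℕ} : w ∈ perp Q (Submodule.span F (Set.range (Sum.elim (fun j : Fin n => r.e j) fun j : Fin n => r.f j))) ↔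
    ∀ j < n, polar Q (r.e j) w = 0 ∧ polar Q (r.f j) w = 0 := by
  rw [mem_perp_span]
  refine ⟨fun h j hj => ⟨h _ ⟨.inl ⟨j, hj⟩, rfl⟩, h _ ⟨.inr ⟨j, hj⟩, rfl⟩⟩, ?_⟩
  rintro h _ ⟨j | j, rfl⟩
  exacts [(h j j.2).1, (h j j.2).2]
theorem V0_eq : r.V0 = perp Q (Submodule.span F (Set.range (Sum.elim (fun j : Fin m => r.e j) fun j : Fin m => r.f j))) :=
  Submodule.ext fun w => by
    rw [mem_perp_fam, mem_V0]
    exact ⟨fun h j _ => h j, fun h j => (le_or_gt m j).elim (fun c => ⟨r.pe_hi c w, r.pf_hi c w⟩) (h j)⟩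
/-- Compare `IsHypFam.finrank_span`, `finrank_add_finrank_perp`. -/
theorem finrank_W (h : i < m) : finrank F (r.W i) = 2 * (m - i) := by
  have e : r.W i = perp Q (Submodule.span F (Set.range (Sum.elim (fun j : Fin (i + 1) => r.e j) fun j : Fin (i + 1) => r.f j))) :=
    Submodule.ext fun w => by simp only [mem_perp_fam, mem_W, Nat.lt_succ_iff]
  rw [e, finrank_perp r.nd, (r.hypFam h).finrank_span, r.rk]
  omega
theorem finrank_V0 : finrank F r.V0 = 2 := by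
  rw [V0_eq, finrank_perp r.nd, (r.hypFam le_rfl).finrank_span, r.rk]
  omega
theorem finrank_Fl_low (h : d ≤ m) : finrank F (r.Fl d) = d := by
  have e : r.Fl d = Submodule.span F (Set.range fun j : Fin d => r.e j) := by
    refine le_antisymm (fun v hv => ?_) (Submodule.span_le.2 ?_)
    · rw [(mem_Fl_low h).1 hv]
      exact sum_mem fun j hj => Submodule.smul_mem _ _ (Submodule.subset_span ⟨⟨j, mem_range.1 hj⟩, rfl⟩)
    · rintro _ ⟨j, rfl⟩
      exact e_mem_Fl j.2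
  rw [e, finrank_span_eq_card (r.hypFam h).linearIndependent_left, Fintype.card_fin]
theorem exists_dual (hw : w ∈ r.V0) (h : w ≠ 0) : ∃ u ∈ r.V0, polar Q w u = 1 := by
  by_contra hc
  refine h (W_nd hw fun u hu => by_contra fun c => hc ⟨(polar Q u w)⁻¹ • u, Submodule.smul_mem _ _ hu, ?_⟩)
  rw [polar_smul_right', polar_comm Q w, inv_mul_cancel₀ c]
theorem V0_span (hw : w ∈ r.V0) (hu : u ∈ r.V0) (h : polar Q w u = 1) (hv : v ∈ r.V0) : v = polar Q u v • w + polar Q w v • u := by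
  have li : LinearIndependent F ![w, u] := LinearIndependent.pair_iff.2 fun s t e => by
    have e1 := congrArg (polar Q w) e
    have e2 := congrArg (polar Q u) e
    simp only [polar_add_right, polar_smul_right', r.pself, h, polar_comm Q u w, polar_zero_right] at e1 e2
    exact ⟨by simpa using e2, by simpa using e1⟩
  have e : Submodule.span F (Set.range ![w, u]) = r.V0 := by
    refine Submodule.eq_of_le_of_finrank_eq (Submodule.span_le.2 ?_) (by rw [finrank_span_eq_card li, finrank_V0]; simp)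
    rintro _ ⟨j, rfl⟩
    fin_cases j
    exacts [hw, hu]
  rw [← e, Matrix.range_cons_cons_empty, Submodule.mem_span_pair] at hv
  obtain ⟨a, b, rfl⟩ := hv
  simp [polar_add_right, r.pself, h, polar_comm Q u w]
theorem perp_v0 (hv : v ∈ r.V0) (h : polar Q r.v0 v = 0) : ∃ a : F, v = a • r.v0 := by
  obtain ⟨u, hu, h1⟩ := exists_dual r.v0_mem fun e => one_ne_zero (r.Qv.symm.trans (by rw [e, map_zero]))
  exact ⟨_, by simpa [h] using V0_span r.v0_mem hu h1 hv⟩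
/-- If `V₀` is anisotropic the Witt index is `m`: `R ⊓ E ^ ⊥ ≤ E` for `E = Fl m`, and `R / (R ⊓ E)` embeds in the dual of `E / (R ⊓ E)`;
or `IsHypFam.wittIndex_perp`. -/
theorem exists_sing {R : Submodule F V} (hR : TS Q R) (h : m < finrank F R) : ∃ w ∈ r.V0, w ≠ 0 ∧ Q w = 0 := by
  by_contra hc
  have h1 : wittIndex (Q.restrict r.V0) = 0 := wittIndex_eq_zero_iff.2 fun w hw => Subtype.ext (by_contra fun c => hc ⟨w, w.2, c, hw⟩)
  have h2 := (r.hypFam le_rfl).wittIndex_perp r.nd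
  rw [← V0_eq, h1] at h2
  have := hR.finrank_le_wittIndex
  omega

/-- `g` is injective and maps `Fl (d + h)` into itself, hence onto. -/
theorem H_inv (hg : ∀ d v, v ∈ r.Fl (d + h) → g.1 v - v ∈ r.Fl d) (hv : v ∈ r.Fl (d + h)) : (g⁻¹).1 v - v ∈ r.Fl d := by
  have e : (r.Fl (d + h)).map (g.1 : V →ₗ[F] V) = r.Fl (d + h) := by
    refine Submodule.eq_of_le_of_finrank_eq ?_ (LinearEquiv.finrank_map_eq _ _)
    rintro _ ⟨u, hu, rfl⟩
    simpa using add_mem (Fl_mono (Nat.le_add_right d h) (hg d u hu)) hu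
  rw [← e] at hv
  obtain ⟨u, hu, rfl⟩ := hv
  simpa using neg_mem (hg d u hu)

variable (r)

/-- The isometries lowering levels by `h`. -/
def H (h : ℕ) : Subgroup (O Q) where
  carrier := {g | ∀ d v, v ∈ r.Fl (d + h) → g.1 v - v ∈ r.Fl d}
  one_mem' d v _ := by simp [O.one_apply]
  mul_mem' {a b} ha hb d v hv := by
    have := add_mem (ha d _ (add_mem (Fl_mono (Nat.le_add_right d h) (hb d v hv)) hv)) (hb d v hv)
    simpa [O.mul_apply] using this
  inv_mem' ha _ _ hv := H_inv ha hv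

/-- The Sylow subgroup. -/
abbrev U : Type _ := r.H 1

variable {r}

theorem mem_H : g ∈ r.H h ↔ ∀ d v, v ∈ r.Fl (d + h) → g.1 v - v ∈ r.Fl d := Iff.rfl
theorem H_anti (hh : h ≤ h') : r.H h' ≤ r.H h := fun _ hg d v hv => hg d v (Fl_mono (by omega) hv)
theorem H_Fl (hg : g ∈ r.H h) (hv : v ∈ r.Fl d) : g.1 v ∈ r.Fl d := by simpa using add_mem (hg d v (Fl_mono (Nat.le_add_right d h) hv)) hv
/-- `⁅g, g'⁆ - 1 = ((g - 1) (g' - 1) - (g' - 1) (g - 1)) g⁻¹ g'⁻¹`. -/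
theorem H_comm (hg : g ∈ r.H h) (hg' : g' ∈ r.H h') : ⁅g, g'⁆ ∈ r.H (h + h') := fun d v hv => by
  have hu : (g⁻¹).1 ((g'⁻¹).1 v) ∈ r.Fl (d + (h + h')) := H_Fl (inv_mem hg) (H_Fl (inv_mem hg') hv)
  generalize hu' : (g⁻¹).1 ((g'⁻¹).1 v) = u at hu
  have e1 : (⁅g, g'⁆ : O Q).1 v = g.1 (g'.1 u) := by rw [commutatorElement_def, ← hu']; rfl
  have e2 : v = g'.1 (g.1 u) := by rw [← hu', O.apply_inv_apply, O.apply_inv_apply]
  have := sub_mem (hg d _ (hg' (d + h) u (by rwa [add_assoc]))) (hg' d _ (hg (d + h') u (by rwa [add_assoc, add_comm h'])))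
  rw [e1, e2]
  convert this using 1
  simp only [map_sub]
  abel
theorem cj_H (hg : g ∈ r.H h) : Gam.cj Q (r.s θ) g ∈ r.H h := fun d v hv => by
  rw [← (r.s θ).T_inv_T v] at hv ⊢
  rw [Gam.cj_apply_T, ← map_sub, T_Fl]
  exact hg d _ (T_Fl.1 hv)
/-- `ρ(e i, w) v - v = B w v • e i - B (e i) v • w - ⋯ • e i`; `B (e i) v ≠ 0` forces level `≥ 2 m - i`, `B w v ≠ 0` forces level `> 2 m - d` (`polar_Fl`). -/
theorem eich_H (hw : w ∈ r.Fl d) (hd : d + i + h ≤ 2 * m + 1) (hi : i < d) (h1 : 1 ≤ h) : eich Q (r.e i) w ∈ r.H h := fun k v hv => by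
  have e : (eich Q (r.e i) w).1 v - v = polar Q w v • r.e i - polar Q (r.e i) v • w - (Q w * polar Q (r.e i) v) • r.e i := by
    rw [eich_apply (r.Qe i) (hw.1 i (by omega))]
    abel
  rw [e]
  rcases le_or_gt (k + h + i) (2 * m) with c | c
  · rw [hv.1 i c, zero_smul, mul_zero, zero_smul, sub_zero, sub_zero]
    rcases le_or_gt k i with c' | c'
    · rw [polar_Fl hw hv (by omega), zero_smul]
      exact zero_mem _
    · exact Submodule.smul_mem _ _ (e_mem_Fl c')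
  · have he : r.e i ∈ r.Fl k := e_mem_Fl (by omega)
    exact sub_mem (sub_mem (Submodule.smul_mem _ _ he) (Submodule.smul_mem _ _ (Fl_mono (by omega) hw))) (Submodule.smul_mem _ _ he)
theorem eich_U (hw : w ∈ r.Ep i) : eich Q (r.e i) w ∈ r.H 1 := by
  rcases le_or_gt m i with c | c
  · rw [r.e0 i c, eich_zero_left]
    exact one_mem _
  · rw [← Fl_high c] at hw
    exact eich_H hw (by omega) (by omega) le_rfl

end Fr

end Cfsg.Lib.OS
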