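import Cfsg.Agent.Lib.OS.M1
import Cfsg.Agent.Lib.Linear.Descent

/-!
# S3130, the orthogonal model 2: the group `A` and the fixed fields.
`θ ↦ (s θ).σ` has kernel `{1, γ}` and maps into the cyclic group `F ≃+* F`.
-/

set_option autoImplicit false
set_option linter.unusedSectionVars false

namespace Cfsg.Lib.OS

open Subgroup Cfsg.Lib.Orth Finset Module QuadraticMap
open Cfsg.Lib.Linear (fixField)

namespace Fr

variable {F V : Type*} [Field F] [Finite F] [AddCommGroup V] [Module F V] [FiniteDimensional F V] {Q : QuadraticForm F V} {m : ℕ}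
  {A : Type*} [Group A] (r : Fr Q m A)

/-- The order of the fixed field. -/
noncomputable def a (θ : A) : ℕ := Nat.card (fixField (r.s θ).σ)

/-- The number of fixed vectors of `V₀`. -/
noncomputable def b (θ : A) : ℕ := nfix (r.s θ) r.V0

variable {θ ι σ d : A} {i : ℕ} {v w : V}

include r in
theorem finA : Finite A := .of_injective _ r.inj
theorem σγ : (r.s r.γ).σ = 1 := by rw [r.sγ]; rfl
theorem Tγ (v : V) : (r.s r.γ).T v = v + polar Q r.v0 v • r.v0 := by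
  rw [r.sγ, Gam.ofO_T, refl_apply, r.Qv, r.sub]; simp
theorem γ2 : r.γ * r.γ = 1 := r.inj (by rw [map_mul, r.sγ, ← map_mul, refl_mul_self, map_one, map_one])
theorem γ1 : r.γ ≠ 1 := fun h => refl_ne_one r.nd (r.Qv.trans_ne one_ne_zero) (Gam.ofO_injective (by rw [← r.sγ, h, map_one, map_one]))
theorem v0_ne : r.v0 ≠ 0 := fun e => one_ne_zero (r.Qv.symm.trans (by rw [e, map_zero]))
theorem T_v0 (θ : A) (v : V) : polar Q r.v0 ((r.s θ).T v) = (r.s θ).σ (polar Q r.v0 v) := by rw [← r.T_polar, r.sv]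
theorem σ_pow (θ : A) (k : ℕ) : (r.s (θ ^ k)).σ = (r.s θ).σ ^ k := by rw [map_pow, Gam.pow_σ]
theorem ext_u {η : A} {u : V} (hσ : (r.s θ).σ = (r.s η).σ) (hu : u ∈ r.V0) (h1 : polar Q r.v0 u = 1)
    (e : (r.s θ).T u = (r.s η).T u) : θ = η := by
  refine r.inj (Gam.ext' hσ (by rw [r.sc, r.sc]) fun v => sub_eq_zero.1 (eq_zero (r := r) (fun j => ?_) (fun j => ?_) fun y hy => ?_))
  · rw [polar_sub_right, T_e, T_e, hσ, sub_self]
  · rw [polar_sub_right, T_f, T_f, hσ, sub_self]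
  · have h2 : polar Q ((r.s θ).T u) ((r.s θ).T v - (r.s η).T v) = 0 := by
      rw [polar_sub_right, T_polar, e, T_polar, hσ, sub_self]
    have h3 : polar Q r.v0 ((r.s θ).T v - (r.s η).T v) = 0 := by rw [polar_sub_right, T_v0, T_v0, hσ, sub_self]
    rw [V0_span r.v0_mem (T_W (θ := θ).2 hu) (by rw [T_v0, h1, map_one]) hy, polar_add_left, polar_smul_left', polar_smul_left', h2, h3]
    simp
theorem Tγ_iff : (r.s r.γ).T v = v ↔ polar Q r.v0 v = 0 := by simp [Tγ, r.v0_ne]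
/-- With `u ∈ V₀`, `B v₀ u = 1`: `T u = u + β • v₀` (`perp_v0`), `Q (T u) = Q u` gives `β ^ 2 + β = 0`; `V` is spanned by the frame and `u` (`eq_zero`, `V0_span`). -/
theorem ker (h : (r.s θ).σ = 1) : θ = 1 ∨ θ = r.γ := by
  obtain ⟨u, hu, h1⟩ := exists_dual r.v0_mem r.v0_ne
  obtain ⟨β, hβ⟩ := perp_v0 (sub_mem (T_W.2 hu) hu : (r.s θ).T u - u ∈ r.V0) (by rw [polar_sub_right, T_v0, h1, map_one, sub_self])
  rw [sub_eq_iff_eq_add'] at hβ
  have h2 := r.T_Q θ u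
  rw [hβ, h, Q_add, Q_smul, r.Qv, polar_smul_right', polar_comm, h1] at h2
  have h3 : β * (β - 1) = 0 := by
    have : Q u = (1 : F ≃+* F) (Q u) := rfl
    linear_combination h2 - this - β * r.h2
  rcases mul_eq_zero.1 h3 with c | c
  · exact .inl (r.ext_u (by rw [h, map_one]; rfl) hu h1 (by rw [hβ, c, map_one]; simp))
  · exact .inr (r.ext_u (by rw [h, σγ]) hu h1 (by rw [hβ, Tγ, h1, sub_eq_zero.1 c]))
include r in
/-- `γ` is central (`θ γ θ⁻¹` is in the kernel), `A / ⟨γ⟩` is cyclic (`commutative_of_cyclic_center_quotient`). -/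
theorem comm (x y : A) : x * y = y * x := by
  refine commutative_of_cyclic_center_quotient ((Gam.fld Q).comp r.s) (fun θ hθ => ?_) x y
  rcases r.ker hθ with rfl | rfl
  · exact one_mem _
  · refine mem_center_iff.2 fun g => ?_
    rcases r.ker (θ := g * r.γ * g⁻¹) (by simp [σγ]) with c | c
    · exact absurd (by simpa using c) r.γ1
    · exact mul_inv_eq_iff_eq_mul.1 c
theorem fd_σ (h : Fd r.γ ι) : (r.s ι).σ ≠ 1 ∧ (r.s ι).σ ^ 2 = 1 :=
  ⟨fun c => (r.ker c).elim h.ne1 h.neγ, by rw [← σ_pow, pow_two, h.sq, map_one]; rfl⟩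
/-- The cyclic group `F ≃+* F` has at most one involution. -/
theorem I2 {x y : A} (hx : Fd r.γ x) (hy : Fd r.γ y) : y = x ∨ y = x * r.γ := by
  classical
  have := Fintype.ofFinite (F ≃+* F)
  have e : (r.s x).σ = (r.s y).σ := by
    by_contra c
    have h1 := IsCyclic.card_pow_eq_one_le (α := F ≃+* F) two_pos
    have h2 : ({1, (r.s x).σ, (r.s y).σ} : Finset (F ≃+* F)) ⊆ univ.filter fun a => a ^ 2 = 1 := by
      simp [insert_subset_iff, (r.fd_σ hx).2, (r.fd_σ hy).2]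
    have h3 := card_le_card h2
    rw [card_eq_three.2 ⟨_, _, _, (r.fd_σ hx).1.symm, (r.fd_σ hy).1.symm, c, rfl⟩] at h3
    omega
  rcases r.ker (θ := x⁻¹ * y) (by simp [e]) with c | c
  · exact .inl (inv_mul_eq_one.1 c).symm
  · exact .inr (inv_mul_eq_iff_eq_mul.1 c)
include r in
theorem exists_n : ∃ n, 1 ≤ n ∧ Nat.card F = 2 ^ n ∧ Nat.card A ≤ 2 * n := by
  have := Fintype.ofFinite F
  have : CharP F 2 := CharTwo.of_one_ne_zero_of_two_eq_zero one_ne_zero r.h2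
  obtain ⟨n, -, hn⟩ := FiniteField.card F 2
  obtain ⟨o, ho, e⟩ := r.odd
  rw [Linear.card_ringAut hn] at e
  exact ⟨n, n.2, by rw [Nat.card_eq_fintype_card, hn], e ▸ Nat.le_mul_of_pos_right _ ho.pos⟩
theorem two_le_a (θ : A) : 2 ≤ r.a θ := Finite.one_lt_card
theorem a_pow (θ : A) : r.a θ ^ orderOf (r.s θ).σ = Nat.card F := Linear.card_fixField_pow _
theorem a_one : r.a 1 = Nat.card F := by rw [← r.a_pow 1, map_one, Gam.one_σ, orderOf_one, pow_one]
theorem aγ : r.a r.γ = Nat.card F := by rw [← r.a_pow r.γ, σγ, orderOf_one, pow_one]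
/-- A line spanned by a fixed vector. -/
theorem nfix_line (hv : (r.s θ).T v = v) (h0 : v ≠ 0) : nfix (r.s θ) (F ∙ v) = r.a θ := by
  refine (Nat.card_congr (Equiv.ofBijective (fun a : fixField (r.s θ).σ => (⟨a.1 • v, Submodule.smul_mem _ _ (Submodule.mem_span_singleton_self v),
    by rw [Gam.map_smul, hv, Linear.mem_fixField.1 a.2]⟩ : {w // w ∈ F ∙ v ∧ (r.s θ).T w = w})) ⟨fun a b e => ?_, ?_⟩)).symm
  · exact Subtype.ext (smul_left_injective F h0 (congrArg Subtype.val e))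
  · rintro ⟨w, h1, h2⟩
    obtain ⟨a, rfl⟩ := Submodule.mem_span_singleton.1 h1
    rw [Gam.map_smul, hv] at h2
    exact ⟨⟨a, smul_left_injective F h0 h2⟩, rfl⟩
theorem fix_zpowers {η : A} (h : η ∈ zpowers θ) (hv : (r.s θ).T v = v) : (r.s η).T v = v := by
  have := r.finA
  obtain ⟨k, rfl⟩ := mem_powers_iff_mem_zpowers.2 h
  simp only [map_pow]
  exact gpow_fix _ hv k
/-- Fixed vectors of `V₀` are fixed by `γ`, so lie in `F v₀`. -/
theorem b_of_mem (h : r.γ ∈ zpowers θ) : r.b θ = r.a θ := by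
  rw [← r.nfix_line (r.sv θ) r.v0_ne]
  refine Nat.card_congr (Equiv.subtypeEquivRight fun w => and_congr_left fun hw => ⟨fun c => ?_, fun c => ?_⟩)
  · obtain ⟨a, rfl⟩ := perp_v0 c (r.Tγ_iff.1 (r.fix_zpowers h hw))
    exact Submodule.smul_mem _ _ (Submodule.mem_span_singleton_self _)
  · obtain ⟨a, rfl⟩ := Submodule.mem_span_singleton.1 c
    exact Submodule.smul_mem _ _ r.v0_mem
theorem ord_of_not (h : r.γ ∉ zpowers θ) : orderOf (r.s θ).σ = orderOf θ := orderOf_eq_orderOf_iff.2 fun n => by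
  rw [← σ_pow]
  exact ⟨fun c => (r.ker c).resolve_right fun e => h (e ▸ pow_mem (mem_zpowers θ) n), fun c => by rw [c, map_one]; rfl⟩
theorem tr_ord (τ : F ≃+* F) : ∃ a, (τ ^ orderOf τ) a = a ∧ ∑ k ∈ range (orderOf τ), (τ ^ k) a = 1 :=
  exists_tr τ (orderOf_pos τ) fun k h0 hk => by
    by_contra c
    push Not at c
    exact pow_ne_one_of_lt_orderOf h0.ne' hk (RingEquiv.ext fun a => c a (by rw [pow_orderOf_eq_one]; rfl))
/-- `exists_tr`, `exists_fix` with `N = orderOf θ`. -/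
theorem exists_u (h : r.γ ∉ zpowers θ) : ∃ u ∈ r.V0, (r.s θ).T u = u ∧ polar Q r.v0 u = 1 := by
  obtain ⟨u, hu, h1⟩ := exists_dual r.v0_mem r.v0_ne
  obtain ⟨a, -, ha⟩ := tr_ord (r.s θ).σ
  rw [r.ord_of_not h] at ha
  exact exists_fix (r.s θ) (r.sc θ) (orderOf θ) (by rw [← map_pow, pow_orderOf_eq_one, map_one]) (by simpa only [Gam.pow_σ] using ha)
    (fun _ => T_W.2) (r.sv θ) hu h1
/-- The fixed vectors are the `x • v₀ + y • u`, `x, y` fixed (`V0_span`). -/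
theorem b_of_not (h : r.γ ∉ zpowers θ) : r.b θ = r.a θ ^ 2 := by
  obtain ⟨u, hu, h1, h2⟩ := r.exists_u h
  rw [pow_two, a, ← Nat.card_prod]
  refine (Nat.card_congr (Equiv.ofBijective (fun a : fixField (r.s θ).σ × fixField (r.s θ).σ => (⟨a.1.1 • r.v0 + a.2.1 • u,
    add_mem (Submodule.smul_mem _ _ r.v0_mem) (Submodule.smul_mem _ _ hu),
    by rw [map_add, Gam.map_smul, Gam.map_smul, r.sv, h1, Linear.mem_fixField.1 a.1.2, Linear.mem_fixField.1 a.2.2]⟩ :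
      {w // w ∈ r.V0 ∧ (r.s θ).T w = w})) ⟨fun a b e => ?_, ?_⟩)).symm
  · have e0 := congrArg Subtype.val e
    have e1 := congrArg (polar Q u) e0
    have e2 := congrArg (polar Q r.v0) e0
    simp only [polar_add_right, polar_smul_right', r.pself, h2, polar_comm Q u r.v0, mul_zero, mul_one, add_zero, zero_add] at e1 e2
    exact Prod.ext (Subtype.ext e1) (Subtype.ext e2)
  · rintro ⟨w, hw, h3⟩
    exact ⟨(⟨polar Q u w, by rw [Linear.mem_fixField, ← T_polar, h1, h3]⟩, ⟨polar Q r.v0 w, by rw [Linear.mem_fixField, ← T_v0, h3]⟩),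
      Subtype.ext (V0_span r.v0_mem hu h2 hw).symm⟩
theorem a_le_b (θ : A) : r.a θ ≤ r.b θ := by
  by_cases h : r.γ ∈ zpowers θ
  · exact (r.b_of_mem h).ge
  · rw [r.b_of_not h]
    exact Nat.le_self_pow two_ne_zero _
theorem b_one : r.b 1 = Nat.card F ^ 2 := by rw [r.b_of_not (by simpa using r.γ1), a_one]
theorem bγ : r.b r.γ = Nat.card F := by rw [r.b_of_mem (mem_zpowers _), aγ]
theorem pow_inv_cases {x : A} (h : x * x = 1) (k : ℕ) : x ^ k = 1 ∨ x ^ k = x := by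
  induction k with
  | zero => exact .inl (pow_zero x)
  | succ k ih => exact ih.elim (fun c => .inr (by rw [pow_succ, c, one_mul])) fun c => .inl (by rw [pow_succ, c, h])
theorem fd_not (h : Fd r.γ ι) : r.γ ∉ zpowers ι := fun c => by
  have := r.finA
  obtain ⟨k, hk⟩ := mem_powers_iff_mem_zpowers.2 c
  exact (pow_inv_cases h.sq k).elim (fun e => r.γ1 (hk.symm.trans e)) fun e => h.neγ (e.symm.trans hk)
theorem fd_ab (h : Fd r.γ ι) : r.a ι ^ 2 = Nat.card F ∧ r.b ι = Nat.card F := by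
  have e : r.a ι ^ 2 = Nat.card F := by rw [← r.a_pow ι, orderOf_eq_prime (r.fd_σ h).2 (r.fd_σ h).1]
  exact ⟨e, (r.b_of_not (r.fd_not h)).trans e⟩
include r in
/-- `(s θ).σ ≠ 1` has order at least two. -/
theorem four_le (h : θ * θ ≠ 1) : 4 ≤ Nat.card F := by
  have h1 : (r.s θ).σ ≠ 1 := fun c => h ((r.ker c).elim (fun e => by rw [e, mul_one]) fun e => by rw [e, γ2])
  have h2 : 2 ≤ orderOf (r.s θ).σ := by
    have := orderOf_pos (r.s θ).σ
    have := orderOf_eq_one_iff.not.2 h1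
    omega
  rw [← r.a_pow θ]
  exact (Nat.pow_le_pow_left (r.two_le_a θ) 2).trans (Nat.pow_le_pow_right (by have := r.two_le_a θ; omega) h2)
theorem tr0 (h : Fd r.γ ι) : ∃ c, (r.s (ι ^ 2)).σ c = c ∧ ∑ k ∈ range 2, (r.s (ι ^ k)).σ c = 1 := by
  have := tr_ord (r.s ι).σ
  rw [orderOf_eq_prime (r.fd_σ h).2 (r.fd_σ h).1] at this
  simpa only [σ_pow] using this
theorem γ_mem_iff (h : orderOf σ = 2 ^ (i + 1)) : r.γ ∈ zpowers σ ↔ σ ^ 2 ^ i = r.γ := by
  have := r.finA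
  refine ⟨fun c => ?_, fun c => c ▸ pow_mem (mem_zpowers σ) _⟩
  obtain ⟨k, hk⟩ := mem_powers_iff_mem_zpowers.2 c
  replace hk : σ ^ k = r.γ := hk
  have h1 : 2 ^ (i + 1) ∣ k * 2 := by rw [← h, orderOf_dvd_iff_pow_eq_one, pow_mul, hk, pow_two, γ2]
  obtain ⟨j, rfl⟩ := Nat.dvd_of_mul_dvd_mul_right two_pos (pow_succ 2 i ▸ h1)
  rw [pow_mul] at hk
  refine (pow_inv_cases (x := σ ^ 2 ^ i) ?_ j).elim (fun e => absurd (hk.symm.trans e) r.γ1) fun e => e.symm.trans hk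
  rw [← pow_two, ← pow_mul, ← pow_succ, ← h, pow_orderOf_eq_one]
theorem ord_of_mem (h : orderOf σ = 2 ^ (i + 1)) (c : σ ^ 2 ^ i = r.γ) : orderOf (r.s σ).σ = 2 ^ i := by
  refine (orderOf_eq_iff (by positivity)).2 ⟨by rw [← σ_pow, c, σγ], fun k hk h0 e => ?_⟩
  have h1 : 2 ^ i < orderOf σ := by rw [h, pow_succ]; omega
  rw [← σ_pow] at e
  rcases r.ker e with e | e
  · exact pow_ne_one_of_lt_orderOf h0.ne' (hk.trans h1) e
  · exact hk.ne (pow_injOn_Iio_orderOf (hk.trans h1) h1 (e.trans c.symm))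
/-- `exists_tr` for `τ = (s σ).σ`, `N = 2 ^ i`.  If `σ ^ N = γ` then `τ` has order `N` and `τ ^ N = 1`.  Otherwise `τ` has order `2 N`; if `τ ^ k` fixed the
fixed field of `τ ^ N` pointwise then `|Fix (τ ^ N)| ≤ |Fix (τ ^ k)|`, so `orderOf (τ ^ k) ≤ 2` (`card_fixField_pow`), i.e. `2 N ∣ 2 k`. -/
theorem tr1 (h : orderOf σ = 2 ^ (i + 1)) : ∃ c, (r.s (σ ^ 2 ^ i)).σ c = c ∧ ∑ k ∈ range (2 ^ i), (r.s (σ ^ k)).σ c = 1 := by
  simp only [σ_pow]
  by_cases c : r.γ ∈ zpowers σ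
  · simpa only [r.ord_of_mem h ((r.γ_mem_iff h).1 c)] using tr_ord (r.s σ).σ
  have h1 := (r.ord_of_not c).trans h
  generalize (r.s σ).σ = τ at h1
  refine exists_tr τ (by positivity) fun k h0 hk => by_contra fun hc => ?_
  push Not at hc
  have h2 : orderOf (τ ^ 2 ^ i) = 2 := orderOf_eq_prime (by rw [← pow_mul, ← pow_succ, ← h1, pow_orderOf_eq_one])
    (pow_ne_one_of_lt_orderOf (by positivity) (by rw [h1, pow_succ]; omega))
  have h3 : Nat.card (fixField (τ ^ 2 ^ i)) ≤ Nat.card (fixField (τ ^ k)) := Nat.card_mono (Set.toFinite _) fun a ha => hc a ha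
  have h4 := Linear.card_fixField_pow (τ ^ 2 ^ i)
  have h5 := Linear.card_fixField_pow (τ ^ k)
  have h6 : orderOf (τ ^ k) ≤ 2 := by
    rw [← Nat.pow_le_pow_iff_right (Finite.one_lt_card (α := fixField (τ ^ k))), h5, ← h4, h2]
    exact Nat.pow_le_pow_left h3 2
  have h7 : orderOf (τ ^ k) ∣ 2 := by
    have := orderOf_pos (τ ^ k)
    interval_cases orderOf (τ ^ k) <;> simp
  rw [orderOf_dvd_iff_pow_eq_one, ← pow_mul, ← orderOf_dvd_iff_pow_eq_one, h1, pow_succ] at h7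
  exact absurd (Nat.le_of_dvd (by omega) h7) (by omega)
/-- `γ ∈ zpowers σ ↔ γ = σ ^ 2 ^ i ↔ γ ∈ zpowers d`; the field automorphisms have orders `2 ^ i`, `2 ^ (i + 1)` or `2 ^ (i + 1)`, `2 ^ (i + 2)`; `a_pow`. -/
theorem nzs_ab (hσ : orderOf σ = 2 ^ (i + 1)) (hd : orderOf d = 2 ^ (i + 2)) (h : σ ^ 2 ^ i = d ^ 2 ^ (i + 1)) :
    r.a σ = r.a d ^ 2 ∧ r.b σ = r.b d ^ 2 := by
  have e : r.γ ∈ zpowers σ ↔ r.γ ∈ zpowers d := by rw [r.γ_mem_iff hσ, r.γ_mem_iff hd, h]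
  have h1 := r.a_pow σ
  have h2 := r.a_pow d
  by_cases c : r.γ ∈ zpowers σ
  · rw [r.ord_of_mem hσ ((r.γ_mem_iff hσ).1 c)] at h1
    rw [r.ord_of_mem hd ((r.γ_mem_iff hd).1 (e.1 c)), pow_succ', pow_mul, ← h1] at h2
    have h3 := (Nat.pow_left_injective (by positivity) h2).symm
    exact ⟨h3, by rw [r.b_of_mem c, r.b_of_mem (e.1 c), h3]⟩
  · rw [r.ord_of_not c, hσ] at h1
    rw [r.ord_of_not (mt e.2 c), hd, pow_succ', pow_mul, ← h1] at h2
    have h3 := (Nat.pow_left_injective (by positivity) h2).symm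
    exact ⟨h3, by rw [r.b_of_not c, r.b_of_not (mt e.2 c), h3]⟩
/-- The singular vectors of `V₀` are the multiples of `w` and of `w' = γ w` (`B v₀ w ≠ 0`, `V0_span`); `d` permutes the two lines, so `d * d` fixes the line of `w`,
but `γ` does not. -/
theorem not_sq (hw : w ∈ r.V0) (h0 : w ≠ 0) (hQ : Q w = 0) (d : A) : d * d ≠ r.γ := fun hd => by
  have hβ : polar Q r.v0 w ≠ 0 := fun c => by
    obtain ⟨a, rfl⟩ := perp_v0 hw c
    rw [Q_smul, r.Qv, mul_one, sq_eq_zero_iff] at hQ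
    exact h0 (by rw [hQ, zero_smul])
  have e1 : (r.s d).T ((r.s d).T w) = (r.s r.γ).T w := by rw [← Gam.mul_T, ← map_mul, hd]
  have e2 : polar Q w ((r.s r.γ).T w) ≠ 0 := by
    rw [Tγ, polar_add_right, r.pself, zero_add, polar_smul_right', polar_comm Q w]
    exact mul_ne_zero hβ hβ
  have e3 := V0_span hw (Submodule.smul_mem _ (polar Q w ((r.s r.γ).T w))⁻¹ (T_W.2 hw)) (by rw [polar_smul_right', inv_mul_cancel₀ e2])
    (T_W.2 hw : (r.s d).T w ∈ r.V0)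
  have e4 : polar Q w ((r.s d).T w) = 0 := by
    have q := (r.s d).Q_T_eq_zero.2 hQ
    rw [e3, Q_add, Q_smul, Q_smul, Q_smul, hQ, (r.s r.γ).Q_T_eq_zero.2 hQ] at q
    simp only [polar_smul_left', polar_smul_right', mul_zero, zero_add, mul_eq_zero, inv_eq_zero, e2, false_or, or_false] at q
    refine q.elim id fun c => ?_
    rwa [← e1, Gam.polar_T_eq_zero, polar_comm] at c
  rw [e4, zero_smul, add_zero] at e3
  apply e2
  rw [← e1, e3, Gam.map_smul, polar_smul_right', e4, mul_zero]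

/-! ### Numerical inequalities, `q = 2 ^ n`, `|A| ≤ 2 n` -/

include r

theorem A_le : Nat.card A ≤ Nat.card F := by
  obtain ⟨n, h1, h2, h3⟩ := r.exists_n
  obtain ⟨k, rfl⟩ := Nat.exists_eq_add_of_le' h1
  have := k.lt_two_pow_self
  rw [h2, pow_succ]
  omega
theorem num0 : 2 * Nat.card F ^ (m * (m + 1)) * Nat.card A < (Nat.card F ^ (m * (m + 1) / 2 + 3)) ^ 2 := by
  have h1 := r.A_le
  have h2 : 2 ≤ Nat.card F := Finite.one_lt_card
  rw [← pow_mul, add_mul, Nat.div_mul_cancel (Nat.even_mul_succ_self m).two_dvd, pow_add, mul_comm 2, mul_assoc]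
  refine Nat.mul_lt_mul_of_pos_left ?_ (by positivity)
  calc 2 * Nat.card A ≤ Nat.card F ^ 2 := by rw [pow_two]; exact Nat.mul_le_mul h2 h1
    _ < _ := Nat.pow_lt_pow_right h2 (by norm_num)
/-- `|A| ^ 2 ≤ 4 n ^ 2 < 8 ^ n`. -/
theorem num1 : Nat.card A ^ 2 < Nat.card F ^ 3 := (Nat.pow_le_pow_left r.A_le 2).trans_lt (Nat.pow_lt_pow_right Finite.one_lt_card (by norm_num))
/-- `|A| ^ 4 ≤ 16 n ^ 4 < 32 ^ n`. -/
theorem num2 : Nat.card A ^ 4 < Nat.card F ^ 5 := (Nat.pow_le_pow_left r.A_le 4).trans_lt (Nat.pow_lt_pow_right Finite.one_lt_card (by norm_num))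
theorem numβ : 4 * (Nat.card F ^ 3) ^ 2 < Nat.card F ^ (m * (m + 1) / 2 + 3) := by
  have h2 : 2 ≤ Nat.card F := Finite.one_lt_card
  have h3 := r.m3
  have h4 : 12 ≤ m * (m + 1) := by nlinarith
  calc 4 * (Nat.card F ^ 3) ^ 2 ≤ Nat.card F ^ 2 * (Nat.card F ^ 3) ^ 2 := Nat.mul_le_mul_right _ (Nat.pow_le_pow_left h2 2)
    _ = Nat.card F ^ 8 := by ring
    _ < _ := Nat.pow_lt_pow_right h2 (by omega)
theorem num_nf0 : m * (m + 1) / 2 + 3 + m ^ 2 / 4 ≤ m * (m + 1) := by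
  have h3 := r.m3
  have h4 : 3 * m ≤ m * m := Nat.mul_le_mul_right m h3
  rw [mul_add, pow_two]
  omega
theorem num_nfγ {n : ℕ} (h : 2 * n ≤ m) : m * (m + 1) / 2 + 3 + (2 * n - 1) ^ 2 / 4 ≤ m * m := by
  rcases r.m3.eq_or_lt with rfl | h3
  · have : n ≤ 1 := by omega
    interval_cases n <;> norm_num
  · obtain ⟨k, rfl⟩ := Nat.exists_eq_add_of_le' (show 1 ≤ m by omega)
    have h4 : (2 * n - 1) ^ 2 ≤ k ^ 2 := Nat.pow_le_pow_left (by omega) 2
    have h5 : 3 * k ≤ k * k := Nat.mul_le_mul_right k (by omega)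
    have e1 : (k + 1) * (k + 1 + 1) = k * k + 3 * k + 2 := by ring
    have e2 : (k + 1) * (k + 1) = k * k + 2 * k + 1 := by ring
    rw [pow_two k] at h4
    omega

end Fr

end Cfsg.Lib.OS
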