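import Cfsg.Agent.Lib.OS.M3

/-!
# S3130, the orthogonal model 4: the central filtration of `U`; orders of the fixed groups, generation, Lang.
-/

set_option autoImplicit false
set_option linter.unusedSectionVars false

namespace Cfsg.Lib.OS

open Subgroup Cfsg.Lib.Orth Finset Module QuadraticMap
open scoped commutatorElement

namespace Fr

variable {F V : Type*} [Field F] [Finite F] [AddCommGroup V] [Module F V] [FiniteDimensional F V] {Q : QuadraticForm F V} {m : ℕ}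
  {A : Type*} [Group A] (r : Fr Q m A)

/-- The root elements. -/
def Gen : Set r.U := {g | ∃ i < m, ∃ w, (w ∈ r.V0 ∨ ∃ j, i < j ∧ j < m ∧ ∃ a : F, w = a • r.e j ∨ w = a • r.f j) ∧ g = r.x i w}

/-- The subspace of level `d`. -/
def Lv (d : ℕ) : Submodule F V := if d < m then F ∙ r.e d else if d = m then r.V0 else F ∙ r.f (2 * m - d)

/-- The elements of `N (i + 1)` whose coordinate has level `< d`. -/
def S (i d : ℕ) (hi : i < m) : Subgroup r.U where
  carrier := {g | g ∈ r.N (i + 1) ∧ r.c i g ∈ r.Fl d}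
  one_mem' := ⟨one_mem _, by rw [(c_eq_zero hi (one_mem _)).2 (one_mem _)]; exact zero_mem _⟩
  mul_mem' ha hb := ⟨mul_mem ha.1 hb.1, by rw [c_mul hi ha.1]; exact add_mem ha.2 hb.2⟩
  inv_mem' {g} ha := ⟨inv_mem ha.1, by
    have := c_mul hi ha.1 g⁻¹
    rw [mul_inv_cancel, (c_eq_zero hi (one_mem _)).2 (one_mem _), eq_comm, add_eq_zero_iff_neg_eq] at this
    exact this ▸ neg_mem ha.2⟩

/-- The component of level `d`. -/
def lv (d : ℕ) : V →ₗ[F] V :=
  if d < m then (polarBilin Q (r.f d)).smulRight (r.e d) else if d = m then r.pW m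
  else (polarBilin Q (r.e (2 * m - d))).smulRight (r.f (2 * m - d))
variable {i d : ℕ} {θ ι σ : A}

theorem e_ne (hi : i < m) : r.e i ≠ 0 := fun e => by simpa [e] using r.ef_self hi
theorem f_ne (hi : i < m) : r.f i ≠ 0 := fun e => by simpa [e] using r.ef_self hi
theorem lv_mem (d : ℕ) (v : V) : r.lv d v ∈ r.Lv d := by
  unfold lv Lv
  split_ifs
  exacts [Submodule.smul_mem _ _ (Submodule.mem_span_singleton_self _), pW_mem, Submodule.smul_mem _ _ (Submodule.mem_span_singleton_self _)]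
theorem T_lv (θ : A) (d : ℕ) (v : V) : (r.s θ).T (r.lv d v) = r.lv d ((r.s θ).T v) := by
  unfold lv
  split_ifs
  · simp [Gam.map_smul, r.se, T_f]
  · exact T_pW
  · simp [Gam.map_smul, r.sf, T_e]
theorem lv_eq_zero {v : V} (hd : d ≤ 2 * m) (h : v ∈ r.Fl (d + 1)) : r.lv d v = 0 ↔ v ∈ r.Fl d := by
  unfold lv
  split_ifs with c c'
  · simp only [LinearMap.smulRight_apply, polarBilin_apply_apply, smul_eq_zero, r.e_ne c, or_false]
    exact ⟨Fl_of_succ c h, fun k => k.2.2 d le_rfl⟩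
  · subst c'
    refine ⟨fun e => ⟨fun k _ => (le_or_gt d k).elim (r.pe_hi · v) fun c => h.1 k (by omega), fun _ u hu => ?_, fun k hk => r.pf_hi hk v⟩,
      fun k => W_nd pW_mem ((pW_mem_Fl k).2.1 le_rfl)⟩
    rw [← polar_pW hu, e, polar_zero_right]
  · simp only [LinearMap.smulRight_apply, polarBilin_apply_apply, smul_eq_zero, r.f_ne (show 2 * m - d < m by omega), or_false]
    refine ⟨fun e => ⟨fun k hk => ?_, fun c => by omega, fun k hk => r.pf_hi (by omega) v⟩, fun k => k.1 _ (by omega)⟩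
    rcases hk.eq_or_lt with c | c
    · rwa [show k = 2 * m - d by omega]
    · exact h.1 k (by omega)
theorem Lv_spec {w : V} (hi : i < m) (h1 : i < d) (h2 : d + i < 2 * m) (hw : w ∈ r.Lv d) :
    r.lv d w = w ∧ w ∈ r.Fl (d + 1) ∧ w ∈ r.W i ∧ r.x i w ∈ r.Gen := by
  unfold lv
  unfold Lv at hw
  split_ifs at hw ⊢ with c c'
  · obtain ⟨a, rfl⟩ := Submodule.mem_span_singleton.1 hw
    exact ⟨by simp [r.fe_self c], Submodule.smul_mem _ _ (e_mem_Fl d.lt_succ_self), Submodule.smul_mem _ _ (e_mem_W h1),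
      i, hi, _, .inr ⟨d, h1, c, a, .inl rfl⟩, rfl⟩
  · exact ⟨pW_of_mem hw, V0_le_Fl (by omega) hw, V0_le_W hw, i, hi, _, .inl hw, rfl⟩
  · obtain ⟨a, rfl⟩ := Submodule.mem_span_singleton.1 hw
    have c2 : 2 * m - d < m := by omega
    exact ⟨by simp [r.ef_self c2], Submodule.smul_mem _ _ (f_mem_Fl (by omega)), Submodule.smul_mem _ _ (f_mem_W (by omega)),
      i, hi, _, .inr ⟨_, by omega, c2, a, .inr rfl⟩, rfl⟩
theorem nfix_Lv (θ : A) (d : ℕ) : nfix (r.s θ) (r.Lv d) = if d = m then r.b θ else r.a θ := by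
  have := r.m3
  unfold Lv
  split_ifs with c c' c'
  exacts [by omega, r.nfix_line (r.se θ d) (r.e_ne c), rfl, r.nfix_line (r.sf θ _) (r.f_ne (by omega))]
theorem S_low (hi : i < m) : r.S i (i + 1) hi = r.N i := Subgroup.ext fun g =>
  ⟨fun h => (c_eq_zero hi h.1).1 (W_inf_Fl (c_mem i g) h.2 hi), fun h =>
    ⟨N_mono i.le_succ h, by rw [(c_eq_zero hi (N_mono i.le_succ h)).2 h]; exact zero_mem _⟩⟩
theorem S_high (hi : i < m) : r.S i (2 * m - i) hi = r.N (i + 1) := Subgroup.ext fun g =>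
  ⟨fun h => h.1, fun h => ⟨h, Fl_high (r := r) hi ▸ W_le_Ep (c_mem i g)⟩⟩
/-- `c g` is the component of level `d` of `r.c i g`: `B (f d) _ • e d`, `pW m _`, `B (e (2 m - d)) _ • f (2 m - d)`; it is additive, equivariant, and for
`w ∈ Fl (d + 1)` vanishes iff `w ∈ Fl d`.  `x = r.x i`.  Centrality: `c_conj`, `ap_sub`, `pW_mem_Fl`. -/
theorem stp (hi : i < m) (h1 : i < d) (h2 : d + i < 2 * m) :
    Nonempty (Stp r.fU r.s r.Gen (r.Lv d) (r.S i (d + 1) hi) (r.S i d hi)) := by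
  refine ⟨⟨fun g => r.lv d (r.c i g), r.x i, fun g hg => ⟨hg.1, Fl_mono d.le_succ hg.2⟩, fun g _ => r.lv_mem d _,
    fun g hg g' _ => by rw [c_mul hi hg.1, map_add], fun g hg => ?_, fun u g hg => ?_, fun θ g hg => ?_, fun w hw => ?_⟩⟩
  · rw [r.lv_eq_zero (by omega) hg.2]
    exact ⟨fun h => ⟨hg.1, h⟩, fun h => h.2⟩
  · have e := pW_mem_Fl (i := i) (ap_sub u hg.2)
    rw [map_sub, pW_of_mem (c_mem i g), ← c_conj hi hg.1] at e
    refine ⟨⟨N_normal.conj_mem _ hg.1 u, by simpa using add_mem (Fl_mono d.le_succ e) hg.2⟩, ?_⟩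
    rw [← sub_eq_zero, ← map_sub, r.lv_eq_zero (by omega) (Fl_mono d.le_succ e)]
    exact e
  · exact ⟨⟨fU_N hg.1, by rw [c_fU]; exact T_Fl.2 hg.2⟩, by rw [c_fU, T_lv]⟩
  · obtain ⟨e1, e2, e3, e4⟩ := r.Lv_spec hi h1 h2 hw
    have e := (c_x hi (W_le_Ep e3)).trans (pW_of_mem e3)
    exact ⟨⟨x_N i w, e.symm ▸ e2⟩, e4, by rw [e, e1], fun θ => fU_x θ i w⟩
/-- From `N i` to `N (i + 1)`: `m - i - 1` lines, the plane, `m - i - 1` lines (`nfix_line`). -/
theorem cf (hi : i ≤ m) : CF r.fU r.s r.Gen (r.N i) fun θ => r.a θ ^ (i * (2 * m - i - 1)) * r.b θ ^ i := by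
  induction i with
  | zero => simpa [N_zero] using CF.bot
  | succ i ih =>
    have key : ∀ d, i + 1 ≤ d → d + i ≤ 2 * m → CF r.fU r.s r.Gen (r.S i d hi) fun θ =>
        r.a θ ^ (if d ≤ m then d - (i + 1) else d - (i + 2)) * r.b θ ^ (if d ≤ m then 0 else 1) *
          (r.a θ ^ (i * (2 * m - i - 1)) * r.b θ ^ i) := fun d hd => by
      induction d, hd using Nat.le_induction with
      | base =>
        intro _
        rw [S_low]
        simpa [show i + 1 ≤ m from hi] using ih (by omega)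
      | succ d hd ihd =>
        intro h2
        obtain ⟨t⟩ := r.stp hi hd (by omega)
        convert CF.step t (ihd (by omega)) using 2 with θ
        rw [nfix_Lv, ← mul_assoc (ite _ _ _)]
        congr 1
        rcases lt_trichotomy d m with c | rfl | c
        · rw [if_pos (show d + 1 ≤ m from c), if_pos (show d + 1 ≤ m from c), if_pos c.le, if_pos c.le, if_neg c.ne, show d + 1 - (i + 1) = d - (i + 1) + 1 by omega]
          ring
        · simp [mul_comm]
        · rw [if_neg (by omega), if_neg (by omega), if_neg c.ne', if_neg (by omega), if_neg (by omega),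
            show d + 1 - (i + 2) = d - (i + 2) + 1 by omega]
          ring
    have := key (2 * m - i) (by omega) (by omega)
    rw [S_high] at this
    convert this using 2 with θ
    obtain ⟨k, rfl⟩ := Nat.exists_eq_add_of_le hi
    rw [if_neg (by omega), if_neg (by omega), show 2 * (i + 1 + k) - (i + 1) - 1 = i + 2 * k by omega,
      show 2 * (i + 1 + k) - i - 1 = i + 2 * k + 1 by omega, show 2 * (i + 1 + k) - i - (i + 2) = 2 * k by omega]
    ring

include r in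
theorem finV : Finite V := Module.finite_of_finite F
theorem finU : Finite r.U := by
  have := r.finV
  exact .of_injective (fun g : r.U => r.ap g) fun _ _ e => ap_ext (congrFun e)
theorem cf_top : CF r.fU r.s r.Gen ⊤ fun θ => r.a θ ^ (m * (m - 1)) * r.b θ ^ m := by
  have := r.cf le_rfl
  rwa [N_top, show 2 * m - m - 1 = m - 1 by omega] at this
theorem fx_one : fx r.fU 1 1 = ⊤ := (eq_top_iff' _).2 fun g => fx_iff.2 (by simp)
theorem card_V (θ : A) : Nat.card (fx r.fU 1 θ) = r.a θ ^ (m * (m - 1)) * r.b θ ^ m := by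
  have := r.finV
  have := r.finU
  simpa using r.cf_top.card_eq θ
theorem card_N (hi : i ≤ m) : Nat.card (r.N i) = Nat.card F ^ (i * (2 * m + 1 - i)) := by
  have := r.finV
  have := r.finU
  have e := (r.cf hi).card_eq 1
  rw [fx_one, top_inf_eq, a_one, b_one, ← pow_mul, ← pow_add] at e
  rw [e, show 2 * m + 1 - i = 2 * m - i - 1 + 2 by have := r.m3; omega]
  ring
theorem card_U : Nat.card r.U = Nat.card F ^ (m * (m + 1)) := by
  rw [← card_top, ← N_top, r.card_N le_rfl, show 2 * m + 1 - m = m + 1 by omega]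
theorem card_Vγ : Nat.card (fx r.fU 1 r.γ) = Nat.card F ^ (m * m) := by
  obtain ⟨k, rfl⟩ := Nat.exists_eq_add_of_le' (show 1 ≤ m by have := r.m3; omega)
  rw [card_V, aγ, bγ, Nat.add_sub_cancel]
  ring
theorem card_Vι (h : Fd r.γ ι) : Nat.card (fx r.fU 1 ι) = Nat.card F ^ (m * (m + 1) / 2) := by
  obtain ⟨k, rfl⟩ := Nat.exists_eq_add_of_le' (show 1 ≤ m by have := r.m3; omega)
  refine Nat.pow_left_injective two_ne_zero ?_
  simp only
  rw [← pow_mul (Nat.card F), Nat.div_mul_cancel (Nat.even_mul_succ_self _).two_dvd, card_V, Nat.add_sub_cancel, mul_pow, ← pow_mul,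
    mul_comm _ 2, pow_mul, (r.fd_ab h).1, (r.fd_ab h).2]
  ring
theorem pU : IsPGroup 2 r.U := by
  obtain ⟨n, -, h, -⟩ := r.exists_n
  exact .of_card (by rw [card_U, h, ← pow_mul])
theorem up (u : r.U) (θ : A) : Nat.card (fx r.fU u θ) ≤ Nat.card (fx r.fU 1 θ) := by
  have := r.finV
  have := r.finU
  simpa [card_V] using r.cf_top.card_le u θ
theorem vf (h : Fd r.γ ι) : Nat.card (fx r.fU 1 ι) ^ 2 = Nat.card r.U := by
  rw [r.card_Vι h, card_U, ← pow_mul, Nat.div_mul_cancel (Nat.even_mul_succ_self _).two_dvd]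
theorem gen (θ : A) (X : Subgroup r.U) (hX : ∀ g ∈ r.Gen, r.fU θ g = g → g ∈ X) : fx r.fU 1 θ ≤ X := by
  have := r.finV
  have := r.finU
  simpa using r.cf_top.gen θ X hX
theorem vg (θ : A) (X : Subgroup r.U) (h : ∀ x ∈ fx r.fU 1 θ, x * x = 1 → x ∈ X) : fx r.fU 1 θ ≤ X := r.gen θ X fun g ⟨i, _, w, _, e⟩ hg => h g (fx_iff.2 hg) (e ▸ x_sq i w)
/-- `CF.lang` with `N = 2`, `tr0`. -/
theorem lg0 (u : r.U) (h : Fd r.γ ι) (hu : u * r.fU ι u = 1) : ∃ w, u = w⁻¹ * r.fU ι w := by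
  have := r.finV
  have := r.finU
  obtain ⟨c, h1, h2⟩ := r.tr0 h
  exact r.cf_top.lang ι 2 h1 h2 (mem_top u) (by simp [pow_two, h.sq]) (by simpa [nrm] using hu)
theorem lg1 (u : r.U) (σ : A) (i : ℕ) (h : orderOf σ = 2 ^ (i + 1)) (hu : u ∈ fx r.fU 1 (σ ^ 2 ^ i)) (hn : nrm r.fU σ u (2 ^ i) = 1) :
    ∃ w, u = w⁻¹ * r.fU σ w := by
  have := r.finV
  have := r.finU
  obtain ⟨c, h1, h2⟩ := r.tr1 h
  exact r.cf_top.lang σ _ h1 h2 (mem_top u) (fx_iff.1 hu) hn
/-- `gen` with `θ = 1`, `eich_mem_commutator`. -/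
theorem U_le : r.H 1 ≤ commutator (O Q) := fun g hg => by
  refine r.gen 1 ((commutator (O Q)).subgroupOf (r.H 1)) ?_ (r.fx_one ▸ mem_top (⟨g, hg⟩ : r.U))
  rintro _ ⟨i, -, w, -, rfl⟩ -
  exact eich_mem_commutator r.nd (not_exc_of_five_le (by have := r.rk; have := r.m3; omega)) _ _

/-- The lower bound for the centralizers of the normal forms. -/
noncomputable def lo (_r : Fr Q m A) : ℕ := Nat.card F ^ (m * (m + 1) / 2 + 3)

theorem n0 : 2 * Nat.card r.U * Nat.card A < r.lo ^ 2 := by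
  rw [card_U]
  exact r.num0
theorem nf (h : Fd r.γ ι) : Nat.card A ^ 2 * Nat.card (fx r.fU 1 ι) < r.lo := by
  rw [r.card_Vι h, lo, pow_add, mul_comm]
  exact Nat.mul_lt_mul_of_pos_left r.num1 (pow_pos Nat.card_pos _)
theorem lt_U {k n : ℕ} (h2 : ι * ι = 1) (h1 : ι ≠ 1) (hn : n ≤ m) (hk : k < Nat.card F ^ n) :
    k * Nat.card (fx r.fU 1 ι) < Nat.card r.U := by
  have e : Nat.card (fx r.fU 1 ι) ≤ Nat.card F ^ (m * m) := by
    by_cases c : ι = r.γ
    · rw [c, card_Vγ]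
    · rw [r.card_Vι ⟨h2, h1, c⟩]
      refine Nat.pow_le_pow_right Nat.card_pos ?_
      have := Nat.le_mul_self m
      rw [mul_add]
      omega
  rw [card_U, mul_add, mul_one, pow_add, mul_comm (_ ^ _)]
  exact Nat.mul_lt_mul_of_lt_of_le (hk.trans_le (Nat.pow_le_pow_right Nat.card_pos hn)) e (pow_pos Nat.card_pos _)
theorem nU (h2 : ι * ι = 1) (h1 : ι ≠ 1) : Nat.card A ^ 2 * Nat.card (fx r.fU 1 ι) < Nat.card r.U := r.lt_U h2 h1 r.m3 r.num1
/-- `four_le`. -/
theorem n8 (hθ : θ * θ ≠ 1) (h2 : ι * ι = 1) (h1 : ι ≠ 1) : 8 * Nat.card F * Nat.card (fx r.fU 1 ι) < Nat.card r.U := r.lt_U h2 h1 r.m3 (by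
  have := r.four_le hθ
  rw [pow_succ]
  exact Nat.mul_lt_mul_of_pos_right (by nlinarith) Nat.card_pos)
theorem big_nU (h : 5 ≤ m) : Nat.card A ^ 4 * Nat.card (fx r.fU 1 r.γ) < Nat.card r.U := r.lt_U r.γ2 r.γ1 h r.num2
/-- `nzs_ab`: `|V σ| = |V d| ^ 2`, `|V d| ≥ a d ^ (m * m) ≥ a d ^ 9 > 4 * a d ^ 6`. -/
theorem nzs_num {σ d : A} (hσ : orderOf σ = 2 ^ (i + 1)) (hd : orderOf d = 2 ^ (i + 2)) (h : σ ^ 2 ^ i = d ^ 2 ^ (i + 1)) :
    4 * r.a σ ^ 3 * Nat.card (fx r.fU 1 d) < Nat.card (fx r.fU 1 σ) := by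
  obtain ⟨e1, e2⟩ := r.nzs_ab hσ hd h
  have h2 := r.two_le_a d
  have e : Nat.card (fx r.fU 1 σ) = Nat.card (fx r.fU 1 d) * Nat.card (fx r.fU 1 d) := by
    rw [card_V, card_V, e1, e2]
    ring
  have := r.finU
  rw [e, e1]
  refine Nat.mul_lt_mul_of_pos_right ?_ Nat.card_pos
  have h3 := r.m3
  have h4 : 3 * 2 ≤ m * (m - 1) := Nat.mul_le_mul h3 (by omega)
  calc 4 * (r.a d ^ 2) ^ 3 < r.a d ^ 3 * (r.a d ^ 2) ^ 3 :=
        Nat.mul_lt_mul_of_pos_right ((by norm_num : 4 < 2 ^ 3).trans_le (Nat.pow_le_pow_left h2 3)) (by positivity)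
    _ = r.a d ^ (3 * 2) * r.a d ^ 3 := by ring
    _ ≤ _ := by
      rw [card_V]
      exact Nat.mul_le_mul (Nat.pow_le_pow_right (by omega) h4)
        ((Nat.pow_le_pow_right (by omega) h3).trans (Nat.pow_le_pow_left (r.a_le_b d) m))

end Fr

end Cfsg.Lib.OS
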