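import Cfsg.Agent.Lib.OS.M4

/-!
# S3130, the orthogonal model 5: the normal structure of `U` and of the fixed groups.
Throughout `⁅g, x i w⁆ = x i (g w + w)` for `g` fixing `e i` (`x_cm`), and `x_ap` for the action; every `g` fixes `e 0`.
-/

set_option autoImplicit false
set_option linter.unusedSectionVars false

namespace Cfsg.Lib.OS

open Subgroup Cfsg.Lib.BG Cfsg.Lib.Orth Finset Module QuadraticMap
open scoped commutatorElement Cfsg.Lib.Transfer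

namespace Fr

variable {F V : Type*} [Field F] [Finite F] [AddCommGroup V] [Module F V] [FiniteDimensional F V] {Q : QuadraticForm F V} {m : ℕ}
  {A : Type*} [Group A] (r : Fr Q m A)

/-- The elements of `E0`. -/
noncomputable def ε (a b c : F) : r.U := r.x 0 (c • r.e 1 + a • r.v0) * r.x 1 (b • r.v0)

/-- `a • v₀` is fixed by `σ` and orthogonal to the fixed vectors of `V₀`. -/
def Rad (σ : A) (a : F) : Prop := (r.s σ).σ a = a ∧ ∀ u ∈ r.V0, (r.s σ).T u = u → a * polar Q r.v0 u = 0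

variable {r} {σ θ d : A} {K X Y : Subgroup r.U} {g y : r.U} {w : V} {a b c a' b' c' c₀ : F} {i j : ℕ}

omit [Finite F] [FiniteDimensional F V] in
theorem m0 (r : Fr Q m A) : 0 < m := by have := r.m3; omega
omit [Finite F] [FiniteDimensional F V] in
theorem m1 (r : Fr Q m A) : 1 < m := by have := r.m3; omega
theorem ve (r : Fr Q m A) (i : ℕ) : polar Q r.v0 (r.e i) = 0 := V0_e r.v0_mem i
theorem vf' (r : Fr Q m A) (i : ℕ) : polar Q r.v0 (r.f i) = 0 := V0_f r.v0_mem i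
theorem sv_W (a : F) (i : ℕ) : a • r.v0 ∈ r.W i := Submodule.smul_mem _ _ (V0_le_W r.v0_mem)
theorem se_Ep (a : F) (i j : ℕ) : a • r.e j ∈ r.Ep i := Submodule.smul_mem _ _ (r.e_mem_Ep i j)
theorem εw_W (c a : F) : c • r.e 1 + a • r.v0 ∈ r.W 0 := add_mem (Submodule.smul_mem _ _ (e_mem_W one_pos)) (sv_W a 0)
theorem x_fx (h : (r.s σ).T w = w) (i : ℕ) : r.x i w ∈ fx r.fU 1 σ := fx_iff.2 (by rw [fU_x, h])
theorem T_smul {v : V} (ha : (r.s σ).σ a = a) (hv : (r.s σ).T v = v) : (r.s σ).T (a • v) = a • v := by rw [Gam.map_smul, ha, hv]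
theorem x_ap_e {u : V} (hij : i ≤ j) (hu : u ∈ r.Ep j) : r.ap (r.x j u) (r.e i) = r.e i :=
  x_ap_fix hu (r.ee j i) (by rw [polar_comm, hu i hij])
theorem ap_add_self {u : V} (hu : u ∈ r.Ep j) (w : V) :
    r.ap (r.x j u) w + w = polar Q u w • r.e j + polar Q (r.e j) w • u + (Q u * polar Q (r.e j) w) • r.e j := by
  rw [x_ap hu, ← r.sub]
  abel
theorem cm_x {u : V} (hij : i ≤ j) (hu : u ∈ r.Ep j) (hw : w ∈ r.Ep i) : ⁅r.x j u, r.x i w⁆ =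
    r.x i (polar Q u w • r.e j + polar Q (r.e j) w • u + (Q u * polar Q (r.e j) w) • r.e j) := by
  rw [x_cm (x_ap_e hij hu) hw, ap_add_self hu]
theorem cm_e {k : ℕ} (hij : i ≤ j) (hjk : j < k) (hk : k < m) (c : F) : ⁅r.x j (c • r.f k), r.x i (r.e k)⁆ = r.x i (c • r.e j) := by
  rw [cm_x hij (Submodule.smul_mem _ _ (f_mem_Ep hjk)) (r.e_mem_Ep i k)]
  simp [r.fe_self hk, r.ee]
/-- `⁅x j u, x i (f j)⁆ = x i (u + Q u • e j)` for `i < j`, `u ∈ W j`. -/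
theorem cm_f (hij : i < j) (hj : j < m) (hw : w ∈ r.W j) : ⁅r.x j w, r.x i (r.f j)⁆ = r.x i (w + Q w • r.e j) := by
  rw [cm_x hij.le (W_le_Ep hw) (f_mem_Ep hij), polar_comm, (hw j le_rfl).2]
  simp [r.ef_self hj]
theorem cmK {S : Subgroup r.U} (hN : S ≤ 𝐍(K)) (hy : y ∈ S) (hg : g ∈ K) : ⁅y, g⁆ ∈ K :=
  mul_mem ((mem_normalizer_iff.1 (hN hy) g).1 hg) (inv_mem hg)
theorem cmK' {S : Subgroup r.U} (hN : S ≤ 𝐍(K)) (hg : g ∈ K) (y : r.U) (hy : y ∈ S) : ⁅g, y⁆ ∈ K :=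
  commutatorElement_inv y g ▸ inv_mem (cmK hN hy hg)
theorem x01_ne (hc : c ≠ 0) : r.x 0 (c • r.e 1) ≠ 1 := fun e => by
  obtain ⟨a, ha⟩ := (x_eq_one r.m0 (se_Ep c 0 1)).1 e
  simpa [r.fe_self r.m1, r.fe_ne one_ne_zero, hc] using congrArg (polar Q (r.f 1)) ha
theorem N1_of' (he : ∀ k, r.ap g (r.e k) - r.e k ∈ r.Fl 1) (hf : ∀ k, 1 ≤ k → r.ap g (r.f k) - r.f k ∈ r.Fl 1) : g ∈ r.N 1 := by
  have aux : ∀ v w, r.ap g v - v ∈ r.Fl 1 → polar Q (r.e 0) w = 0 → polar Q v (r.ap g w - w) = 0 := fun v w hv hw => by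
    rw [polar_sub_right, ← ap_polar g v w, ← polar_sub_left, ← neg_sub, polar_neg_left, neg_eq_zero]
    refine polar_Fl (d' := 2 * m - 0) hv ?_ (by omega)
    rw [Fl_high r.m0]
    exact ap_Ep g fun j hj => by rwa [Nat.le_zero.1 hj]
  refine fun w hw => ⟨fun k _ => aux _ _ (he k) (hw 0 one_pos), fun _ u hu => aux _ _ ?_ (hw 0 one_pos),
    fun k hk => aux _ _ (hf k hk) (hw 0 one_pos)⟩
  exact ⟨fun k _ => aux _ _ (he k) (mem_V0.1 hu 0).1, fun _ => (ap_sub g (V0_le_Fl m.lt_succ_self hu)).2.1 le_rfl,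
    fun k hk => aux _ _ (hf k hk) (mem_V0.1 hu 0).1⟩
/-- `x 1 (b • v₀)` fixes `e₀, e₁, v₀`. -/
theorem ε_mul : r.ε a b c * r.ε a' b' c' = r.ε (a + a') (b + b') (c + c') := by
  have e := x_fix (ap_e0 (r.x 1 (b • r.v0))) (W_le_Ep (εw_W c' a'))
    (x_ap_fix (W_le_Ep (sv_W b 1)) (by simp [r.ee, r.ev]) (by simp [r.ve, r.pself]))
  rw [ε, ε, ε, mul_assoc, ← mul_assoc (r.x 1 _), e, mul_assoc, ← x_add, ← mul_assoc, ← x_add, add_smul, add_smul, add_smul,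
    add_add_add_comm]
theorem ε_zero : r.ε 0 0 0 = 1 := by simp [ε]
theorem rad_one (h : r.Rad 1 a) : a = 0 := by
  obtain ⟨u, hu, h1⟩ := exists_dual r.v0_mem r.v0_ne
  simpa [h1] using h.2 u hu (by simp)

variable (r) in
/-- `ρ(e₀, F e₁ + F v₀) ρ(e₁, F v₀)`. -/
def E0 : Subgroup r.U where
  carrier := {g | ∃ a b c, g = r.ε a b c}
  one_mem' := ⟨0, 0, 0, ε_zero.symm⟩
  mul_mem' := by rintro _ _ ⟨a, b, c, rfl⟩ ⟨a', b', c', rfl⟩; exact ⟨_, _, _, ε_mul⟩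
  inv_mem' := by
    rintro _ ⟨a, b, c, rfl⟩
    exact ⟨-a, -b, -c, inv_eq_of_mul_eq_one_right (by rw [ε_mul]; simpa using ε_zero)⟩

theorem E0V : r.E0 ≤ fx r.fU 1 r.γ := by
  rintro _ ⟨a, b, c, rfl⟩
  exact mul_mem (x_fx (r.Tγ_iff.2 (by simp [r.ve, r.pself])) 0) (x_fx (r.Tγ_iff.2 (by simp [r.pself])) 1)
theorem E0c : ∀ x ∈ r.E0, ∀ y ∈ r.E0, x * y = y * x := by
  rintro _ ⟨a, b, c, rfl⟩ _ ⟨a', b', c', rfl⟩
  rw [ε_mul, ε_mul, add_comm a, add_comm b, add_comm c]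
theorem card_E0 : Nat.card r.E0 ≤ Nat.card F ^ 3 := by
  have := Nat.card_le_card_of_surjective (fun p : F × F × F => (⟨r.ε p.1 p.2.1 p.2.2, _, _, _, rfl⟩ : r.E0))
    fun ⟨_, a, b, c, e⟩ => ⟨(a, b, c), Subtype.ext e.symm⟩
  rwa [Nat.card_prod, Nat.card_prod, ← pow_three] at this
theorem nβ : 4 * Nat.card r.E0 ^ 2 < r.lo := (Nat.mul_le_mul_left 4 (Nat.pow_le_pow_left card_E0 2)).trans_lt r.numβ

/-- Write `δ u = (x 1 u) w + w`; `x 0 (δ u) ∈ K` for all fixed `u ∈ W 1`.  If `k = B e₁ w ≠ 0` (it is fixed) take `u = (c₀ / k) • e₂`, `w' = δ u = * e₁ + c₀ e₂`, then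
`⁅x 1 f₂, x 0 w'⁆ = x 0 (c₀ e₁) ∈ K`.  So `k = 0`, `δ u = B u w • e₁`, and `B u w = 0` for fixed `u ∈ W 1` (else scale `u` by `c₀ / B u w`).  Take
`u = e j, f j` (`j ≥ 2`) and the fixed vectors of `V₀`, among them `v₀`: `pW m w = a • v₀` (`perp_v0`). -/
theorem claimA (hN : fx r.fU 1 σ ≤ 𝐍(K)) (h0 : (r.s σ).σ c₀ = c₀) (hz : r.x 0 (c₀ • r.e 1) ∉ K) (hw : w ∈ r.W 0)
    (hT : (r.s σ).T w = w) (h : ∀ u ∈ r.W 1, (r.s σ).T u = u → ⁅r.x 1 u, r.x 0 w⁆ ∈ K) :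
    ∃ a c, r.Rad σ a ∧ (r.s σ).σ c = c ∧ w = c • r.e 1 + a • r.v0 := by
  have h1 : polar Q (r.e 1) w = 0 := by_contra fun k => hz (by
    have hk : (r.s σ).σ (polar Q (r.e 1) w) = polar Q (r.e 1) w := by rw [← T_e, hT]
    have e := h _ (Submodule.smul_mem _ (c₀ / polar Q (r.e 1) w) (e_mem_W one_lt_two)) (T_smul (by rw [map_div₀, h0, hk]) (r.se σ 2))
    rw [cm_x zero_le_one (se_Ep _ 1 2) (W_le_Ep hw), Q_smul, r.Qe, mul_zero, zero_mul, zero_smul, add_zero, smul_smul,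
      mul_div_cancel₀ _ k] at e
    have e' := cmK hN (x_fx (r.sf σ 2) 1) e
    rw [cm_x zero_le_one (f_mem_Ep one_lt_two) (add_mem (se_Ep _ 0 1) (se_Ep _ 0 2))] at e'
    simpa [r.ee, r.fe_self r.m3, r.fe_ne (show 2 ≠ 1 by decide)] using e')
  have h2 : ∀ u ∈ r.W 1, (r.s σ).T u = u → polar Q u w = 0 := fun u hu hT' => by_contra fun k => hz (by
    have hk : (r.s σ).σ (polar Q u w) = polar Q u w := by rw [← T_polar, hT, hT']
    have e := h _ (Submodule.smul_mem _ (c₀ / polar Q u w) hu) (T_smul (by rw [map_div₀, h0, hk]) hT')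
    rw [cm_x zero_le_one (W_le_Ep (Submodule.smul_mem _ _ hu)) (W_le_Ep hw), h1, polar_smul_left', div_mul_cancel₀ _ k] at e
    simpa using e)
  obtain ⟨a, ha⟩ := perp_v0 (pW_mem : r.pW m w ∈ r.V0) (by rw [polar_pW r.v0_mem, h2 _ (V0_le_W r.v0_mem) (r.sv σ)])
  have h3 : ∀ u ∈ r.V0, polar Q u w = a * polar Q r.v0 u := fun u hu => by rw [← polar_pW hu, ha, polar_smul_right', polar_comm]
  refine ⟨a, polar Q (r.f 1) w, ⟨smul_left_injective F r.v0_ne ?_, fun u hu hT' => by rw [← h3 u hu, h2 u (V0_le_W hu) hT']⟩,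
    by rw [← T_f, hT], sub_eq_zero.1 (eq_zero (r := r) (fun j => ?_) (fun j => ?_) fun u hu => ?_)⟩
  · have := T_pW (r := r) (θ := σ) (i := m) (v := w)
    rwa [hT, ha, Gam.map_smul, r.sv] at this
  · have : polar Q (r.e j) w = 0 := match j with
      | 0 => (hw 0 le_rfl).1
      | 1 => h1
      | j + 2 => h2 _ (e_mem_W (by omega)) (r.se σ _)
    simp [this, r.ee, r.ev]
  · match j with
    | 0 => simp [(hw 0 le_rfl).2, r.fe_ne zero_ne_one, r.fv]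
    | 1 => simp [r.fe_self r.m1, r.fv]
    | j + 2 => simp [h2 _ (f_mem_W (show 1 < j + 2 by omega)) (r.sf σ _), r.fe_ne (show j + 2 ≠ 1 by omega), r.fv]
  · simp [h3 u hu, V0_e hu, polar_comm Q u r.v0]
/-- For fixed `w ∈ W 0`: `⁅g, x 0 w⁆ = x 0 (pW 0 (g w + w)) ∈ K`, so by `claimA` `g w + w = * e₀ + * e₁ + a v₀` with `Rad σ a`.  For `w = f₁` call the coefficient
`b`, and put `g' = x 1 (b • v₀) * g` (conjugate to `g * x 1 (b • v₀)`, `N 1` is normal): `g' f₁ = f₁ + * e₀` (`Q (g' f₁) = 0`).  For `w = e j, f j`, `j ≥ 2`: `B (g w) (g f₁) = 0` kills the `e₁`-coefficient,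
`Q (g w) = 0` gives `a = 0`.  For `u ∈ V₀`: `g' u - u ∈ Fl m` is orthogonal to `g' (f j) = f j + * e₀`, `j ≥ 1`.  So `g' ∈ N 1` (`N1_of`). -/
theorem claimB (hN : fx r.fU 1 σ ≤ 𝐍(K)) (h0 : (r.s σ).σ c₀ = c₀) (hz : r.x 0 (c₀ • r.e 1) ∉ K) (hg : r.fU σ g = g)
    (h : ∀ y ∈ fx r.fU 1 σ, ⁅g, y⁆ ∈ K) : ∃ b, r.Rad σ b ∧ g * r.x 1 (b • r.v0) ∈ r.N 1 := by
  have key : ∀ w ∈ r.Ep 0, (r.s σ).T w = w → ∃ t c a : F, r.Rad σ a ∧ r.ap g w = w + t • r.e 0 + c • r.e 1 + a • r.v0 := fun w hw hT => by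
    have h1 := add_mem (ap_Ep g hw) hw
    have e := h _ (x_fx hT 0)
    rw [x_cm (ap_e0 g) hw, ← x0_pW h1] at e
    obtain ⟨a, c, ha, -, e'⟩ := claimA hN h0 hz pW_mem (by rw [T_pW, map_add, T_ap hg, hT]) fun u _ hu => cmK hN (x_fx hu 1) e
    obtain ⟨t, ht⟩ := mem_Fl_one.1 (sub_pW h1 r.m0)
    refine ⟨t, c, a, ha, ?_⟩
    rw [e', ← r.sub, sub_sub, sub_eq_iff_eq_add] at ht
    rw [ht]
    abel
  obtain ⟨t, c, b, hb, e⟩ := key _ (f_mem_Ep one_pos) (r.sf σ 1)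
  have hc : c = Q (b • r.v0) := by
    have q := ap_Q g (r.f 1)
    rw [e] at q
    simp only [Q_add, Q_smul, r.Qe, r.Qf, polar_add_left, polar_smul_left', polar_smul_right', r.ee, r.ev, r.fv, r.fe_self r.m1,
      r.fe_ne one_ne_zero] at q ⊢
    linear_combination q - b ^ 2 * Q r.v0 * r.h2
  have hbv := W_le_Ep (sv_W (r := r) b 1)
  have k2 : ∀ w ∈ r.W 1, polar Q r.v0 w = 0 → Q w = 0 → (r.s σ).T w = w → r.ap (r.x 1 (b • r.v0) * g) w - w ∈ r.Fl 1 := fun w hw h1 h2 hT => by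
    obtain ⟨t', c', a', -, e'⟩ := key w (Ep_anti zero_le_one (W_le_Ep hw)) hT
    have w0 := hw 0 zero_le_one
    have w1 := hw 1 le_rfl
    have q := ap_Q g w
    have p := ap_polar g (r.f 1) w
    rw [e'] at q p
    rw [e] at p
    simp only [Q_add, Q_smul, r.Qe, r.Qv, h2, polar_add_left, polar_smul_left', polar_smul_right', r.ee, r.ev, polar_comm Q w, w0.1, w1.1, h1,
      mul_zero, add_zero, zero_add, mul_one, sq_eq_zero_iff] at q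
    simp only [q, polar_add_left, polar_add_right, polar_smul_left', polar_smul_right', r.ee, r.ve, w0.1, w1.1, w1.2, h1, r.fe_self r.m1,
      r.fe_ne one_ne_zero, mul_zero, add_zero, zero_add, mul_one, zero_mul] at p
    rw [ap_mul, e', q, p, zero_smul, zero_smul, add_zero, add_zero, ap_add, ap_smul, ap_e0, x_ap_fix hbv w1.1 (by simp [h1]),
      add_sub_cancel_left]
    exact mem_Fl_one.2 ⟨_, rfl⟩
  refine ⟨b, hb, N_normal.mem_comm (N1_of' (fun k => ?_) fun k hk => ?_)⟩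
  · rcases le_or_gt k 1 with c | c
    · exact ap_sub _ (e_mem_Fl (by omega))
    · exact k2 _ (e_mem_W c) (r.ve k) (r.Qe k) (r.se σ k)
  · rcases hk.eq_or_lt with rfl | c
    · rw [ap_mul, e, ap_add, ap_add, ap_add, x_ap_f (sv_W b 1) r.m1, ap_smul, ap_e0, ap_smul, x_ap_e le_rfl hbv,
        x_ap_fix hbv (hbv 1 le_rfl) (r.pself _), hc]
      refine mem_Fl_one.2 ⟨t, ?_⟩
      linear_combination (norm := module) r.two (b • r.v0) + r.two (Q (b • r.v0) • r.e 1)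
    · exact k2 _ (f_mem_W c) (r.vf' k) (r.Qf k) (r.sf σ k)
/-- `g = x 0 w * x 1 (b • v₀)` with `w ∈ W 0` fixed; `x 1 u` commutes with `x 1 (b • v₀)`, so `⁅x 1 u, x 0 w⁆ = ⁅x 1 u, g⁆ ∈ K`; `claimA`. -/
theorem abσ (hN : fx r.fU 1 σ ≤ 𝐍(K)) (h0 : (r.s σ).σ c₀ = c₀) (hz : r.x 0 (c₀ • r.e 1) ∉ K) (hg : r.fU σ g = g)
    (h : ∀ y ∈ fx r.fU 1 σ, ⁅g, y⁆ ∈ K) : ∃ a b c, r.Rad σ a ∧ r.Rad σ b ∧ (r.s σ).σ c = c ∧ g = r.ε a b c := by
  obtain ⟨b, hb, h1⟩ := claimB hN h0 hz hg h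
  have e := eq_x0 h1
  have hT : (r.s σ).T (r.c 0 (g * r.x 1 (b • r.v0))) = r.c 0 (g * r.x 1 (b • r.v0)) := by
    rw [← c_fU, map_mul, hg, fU_x, T_smul hb.1 (r.sv σ)]
  have hw := c_mem 0 (g * r.x 1 (b • r.v0))
  generalize r.c 0 (g * r.x 1 (b • r.v0)) = w at e hT hw
  obtain ⟨a, c, ha, hc, rfl⟩ := claimA hN h0 hz hw hT fun u _ hu => by
    have e1 : ⁅r.x 1 u, r.x 0 w⁆ = ⁅g, r.x 1 u⁆⁻¹ := by
      rw [← e, commutatorElement_inv, commutatorElement_def, commutatorElement_def, mul_inv_rev, x_inv 1 u, mul_assoc (r.x 1 u * _),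
        ← mul_assoc (r.x 1 u) _⁻¹, x_inv, x_comm 1 u]
      simp only [mul_assoc, ← mul_assoc (r.x 1 (b • r.v0)) (r.x 1 (b • r.v0)), x_sq, one_mul]
    exact e1 ▸ inv_mem (h _ (x_fx hu 1))
  exact ⟨a, b, c, ha, hb, hc, by rw [ε, ← e, mul_assoc, x_sq, mul_one]⟩
theorem ab1 (hK : K.Normal) (hz : r.x 0 (c₀ • r.e 1) ∉ K) (h : ∀ y, ⁅g, y⁆ ∈ K) : ∃ c : F, g = r.x 0 (c • r.e 1) := by
  obtain ⟨a, b, c, ha, hb, -, e⟩ := abσ (σ := 1) (g := g) (le_top.trans (normalizer_eq_top K).ge) (by simp) hz (by simp) fun y _ => h y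
  exact ⟨c, by simp [e, ε, rad_one ha, rad_one hb]⟩
/-- `→`: `abσ` with `σ = 1`, `K = ⊥`, `c₀ = 1`.  `←`: `comm_x0`. -/
theorem mem_center : g ∈ center r.U ↔ ∃ c : F, g = r.x 0 (c • r.e 1) := by
  refine ⟨fun h => ab1 (K := ⊥) inferInstance (x01_ne one_ne_zero) fun y => ?_, ?_⟩
  · exact commutatorElement_eq_one_iff_mul_comm.2 (mem_center_iff.1 h y).symm
  · rintro ⟨c, rfl⟩
    exact mem_center_iff.2 fun y => (comm_x0 (se_Ep c 0 1)).2 (ap_sub y (Submodule.smul_mem _ _ (e_mem_Fl one_lt_two)))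
theorem card_center : Nat.card (center r.U) ≤ Nat.card F := Nat.card_le_card_of_surjective
  (fun c : F => (⟨r.x 0 (c • r.e 1), mem_center.2 ⟨c, rfl⟩⟩ : center r.U)) fun g => (mem_center.1 g.2).imp fun _ e => Subtype.ext e.symm

variable (r) in
/-- The long root element `ρ(e₀, e₁)`. -/
noncomputable def z : r.U := r.x 0 (r.e 1)

theorem fz (θ : A) : r.fU θ r.z = r.z := by rw [z, fU_x, r.se]
theorem z1 : r.z ≠ 1 := by simpa [z] using x01_ne (r := r) one_ne_zero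
theorem zZ : r.z ∈ center r.U := mem_center.2 ⟨1, by rw [one_smul, z]⟩
/-- If `Z ≤ X` then `Y ⊓ Z = ⊥`, so `Y ≤ Z` by `abσ` (`σ = 1`, `K = Y`, `c₀ = 1`).  Otherwise `X ≤ Z` by `abσ` (`K = X`). -/
theorem nz (X Y : Subgroup r.U) (hX : X.Normal) (hY : Y.Normal) (h : X ⊓ Y = ⊥) : Nat.card X ≤ Nat.card F ∨ Nat.card Y ≤ Nat.card F := by
  have := r.finU
  have key : ∀ (K : Subgroup r.U) (c : F), K.Normal → r.x 0 (c • r.e 1) ∉ K → Nat.card K ≤ Nat.card F := fun K c hK hz =>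
    (card_le_of_le fun g hg => mem_center.2 (ab1 hK hz fun y => cmK' (normalizer_eq_top K).ge hg y (mem_top y))).trans card_center
  by_cases c : r.x 0 ((1 : F) • r.e 1) ∈ X
  · exact .inr (key Y 1 hY fun k => x01_ne one_ne_zero (mem_bot.1 (h ▸ Subgroup.mem_inf.2 ⟨c, k⟩)))
  · exact .inl (key X 1 hX c)
theorem index_ge (i : ℕ) (u : V) (h : ∀ a : F, a ≠ 0 → r.x i (a • u) * g ≠ g * r.x i (a • u)) : Nat.card F ≤ (𝐂[g]).index := by
  have := r.finU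
  refine Nat.card_le_card_of_injective (fun a : F => (r.x i (a • u) : r.U ⧸ 𝐂[g])) fun a b e => by_contra fun k => ?_
  rw [QuotientGroup.eq, x_inv, ← x_add, ← r.sub, ← sub_smul, mem_centralizer_singleton_iff] at e
  exact h _ (sub_ne_zero.2 k) e
/-- A family `h : F → U` with `h (a + b) = h a * h b` and `⁅g, h a⁆ ≠ 1` for `a ≠ 0` gives `q` cosets.  If `g ∉ N 1` take `h a = x 0 (a • w)` with
`g w - w ∉ Fl 1` (`N1_of`).  If `g = x 0 w`, `w ∈ W 0`: `h a = x 1 (a • e₂)` if `B e₁ w ≠ 0`; else `h a = x 1 (a • u)`, `u ∈ W 1` with `B u w ≠ 0`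
(`W_nd` for `pW 1 w`). -/
theorem le_index (h : g ∉ center r.U) : Nat.card F ≤ (𝐂[g]).index := by
  by_cases c : g ∈ r.N 1
  · obtain ⟨w, hw, rfl⟩ := mem_N1.1 c
    by_cases k : polar Q (r.e 1) w = 0
    · have h1 : w ∈ r.Ep 1 := fun j hj => by
        interval_cases j
        exacts [(hw 0 le_rfl).1, k]
      obtain ⟨u, hu, h2⟩ : ∃ u ∈ r.W 1, polar Q u w ≠ 0 := by
        by_contra hc
        push Not at hc
        have h3 := sub_pW h1 r.m1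
        rw [W_nd pW_mem fun u hu => (polar_pW hu).trans (hc u hu), sub_zero] at h3
        obtain ⟨a, b, rfl⟩ := mem_Fl_two.1 h3
        exact h (mem_center.2 ⟨b, by rw [x_add, x_self, one_mul]⟩)
      refine index_ge 1 u fun a ha e => ?_
      have := ((comm_x0 (W_le_Ep hw)).1 e).2.2 1 le_rfl
      rw [r.sub, ap_add_self (W_le_Ep (Submodule.smul_mem _ a hu))] at this
      simp [k, r.fe_self r.m1, ha, h2] at this
    · refine index_ge 1 (r.e 2) fun a ha e => ?_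
      have := ((comm_x0 (W_le_Ep hw)).1 e).2.2 2 one_le_two
      rw [r.sub, ap_add_self (se_Ep a 1 2)] at this
      simp [k, r.fe_self r.m3, r.fe_ne (show 2 ≠ 1 by decide), ha] at this
  · obtain ⟨w, hw, h1⟩ : ∃ w ∈ r.Ep 1, r.ap g w - w ∉ r.Fl 1 := by
      by_contra hc
      push Not at hc
      exact c (N1_of hc)
    refine index_ge 0 w fun a ha e => h1 ?_
    have := (comm_x0 (Submodule.smul_mem _ a (Ep_anti zero_le_one hw))).1 e.symm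
    rwa [ap_smul, ← smul_sub, Submodule.smul_mem_iff _ ha] at this
theorem cls (θ : A) (hθ : θ * θ ≠ 1) (x : r.U) (h : x ∉ center r.U) : 2 < (𝐂[x]).index := lt_of_lt_of_le (by norm_num) ((r.four_le hθ).trans (le_index h))
/-- `⁅x 1 (c • f₂), x 0 e₂⁆ = x 0 (c • e₁)`. -/
theorem x01_mem (hX : r.x 1 (c • r.f 2) ∈ X) (hY : r.x 0 (r.e 2) ∈ Y) : r.x 0 (c • r.e 1) ∈ ⁅X, Y⁆ := by
  rw [← cm_e zero_le_one one_lt_two r.m3 c]
  exact commutator_mem_commutator hX hY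
theorem zU : center r.U ≤ commutator r.U := fun g hg => by
  obtain ⟨c, rfl⟩ := mem_center.1 hg
  exact x01_mem (mem_top _) (mem_top _)
/-- `⁅x 1 u, x 0 f₁⁆ = x 0 (u + Q u • e₁)` for `u ∈ W 1`; `w = pW 1 w + * e₀ + * e₁`. -/
theorem x0_mem_commutator (h : w ∈ r.Ep 1) : r.x 0 w ∈ commutator r.U := by
  obtain ⟨a, b, e⟩ := mem_Fl_two.1 (sub_pW h r.m1)
  have e' : w = r.pW 1 w + Q (r.pW 1 w) • r.e 1 + a • r.e 0 + (b - Q (r.pW 1 w)) • r.e 1 := by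
    linear_combination (norm := module) e
  rw [e', x_add, x_add, x_self, mul_one, ← cm_f one_pos r.m1 pW_mem]
  exact mul_mem (commutator_mem_commutator (mem_top _) (mem_top _)) (zU (mem_center.2 ⟨_, rfl⟩))
/-- `comm_x0`, `N1_of`, `N1_comm`. -/
theorem cab : ∀ x ∈ 𝐂(commutator r.U), ∀ y ∈ 𝐂(commutator r.U), x * y = y * x := by
  have key : ∀ x ∈ 𝐂(commutator r.U), x ∈ r.N 1 := fun x hx => N1_of fun w hw =>
    (comm_x0 (Ep_anti zero_le_one hw)).1 (mem_centralizer_iff.1 hx _ (x0_mem_commutator hw)).symm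
  exact fun x hx y hy => N1_comm (key x hx) (key y hy)
/-- `X₀ = {w ∈ Ep 0 | x 0 w ∈ X}` is an additive group containing `g w + w` (`w ∈ Ep 0`) and closed under `w ↦ y w + w`.  `k = B e₂ (g f₁) ≠ 0`
(`B (g e₂) (g f₁) = 0`, `g e₂ - e₂ ∈ Fl 2 \ Fl 1`), so `X₀` contains `w₁ = a • (g f₁ + f₁) ∈ Ep 1` with arbitrary `f₂`-coefficient.  `y = x 2 u`, `u ∈ W 2`,
gives `u + * e₂` for every `u`; `y = x 2 u'` applied to these gives `F e₂` (`exists_dual`, `v0_mem`); `y = x 1 (a • f₂)` gives `F e₁`. -/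
theorem x0_mem_normal (hX : X.Normal) (hg : g ∈ X) (h : r.ap g (r.e 2) - r.e 2 ∉ r.Fl 1) (hw : w ∈ r.Ep 1) : r.x 0 w ∈ X := by
  have hN := (normalizer_eq_top X).ge
  have p1 : ∀ {w}, w ∈ r.Ep 0 → r.x 0 (r.ap g w + w) ∈ X := fun hw => x_cm (ap_e0 g) hw ▸ cmK' hN hg _ (mem_top _)
  have p2 : ∀ (y : r.U) {w}, w ∈ r.Ep 0 → r.x 0 w ∈ X → r.x 0 (r.ap y w + w) ∈ X := fun y _ hw h =>
    x_cm (ap_e0 y) hw ▸ cmK hN (mem_top y) h
  obtain ⟨α, β, e⟩ := mem_Fl_two.1 (ap_sub g (e_mem_Fl (r := r) (show 2 < 3 by decide)))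
  have hβ : β ≠ 0 := fun k => h (mem_Fl_one.2 ⟨α, by rw [e, k, zero_smul, add_zero]⟩)
  have h1 := ap_f_Ep r.m1 g
  have hk : polar Q (r.e 2) (r.ap g (r.f 1) - r.f 1) ≠ 0 := fun k => hβ (by
    have q := ap_polar g (r.e 2) (r.f 1)
    rw [sub_eq_iff_eq_add'.1 e, ← sub_add_cancel (r.ap g (r.f 1)) (r.f 1)] at q
    generalize r.ap g (r.f 1) - r.f 1 = v at q k h1
    simpa [k, h1 0 zero_le_one, h1 1 le_rfl, r.ef_ne zero_ne_one, r.ef_self r.m1] using q)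
  have p3 : ∀ a : F, ∃ v ∈ r.Ep 1, polar Q (r.e 2) v = a ∧ r.x 0 v ∈ X := fun a =>
    ⟨(a / polar Q (r.e 2) (r.ap g (r.f 1) - r.f 1)) • (r.ap g (r.f 1) - r.f 1), Submodule.smul_mem _ _ h1,
      by rw [polar_smul_right', div_mul_cancel₀ _ hk], by
      rw [r.sub (r.ap g _), smul_add, ← ap_smul]
      exact p1 (Submodule.smul_mem _ _ (f_mem_Ep one_pos))⟩
  have p4 : ∀ u ∈ r.Ep 2, ∃ t : F, r.x 0 (u + t • r.e 2) ∈ X := fun u hu => by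
    obtain ⟨v, hv, h2, h3⟩ := p3 1
    have := p2 (r.x 2 u) (Ep_anti zero_le_one hv) h3
    rw [ap_add_self hu, h2, one_smul, add_comm _ u, add_assoc, ← add_smul] at this
    exact ⟨_, this⟩
  have p5 : ∀ c : F, r.x 0 (c • r.e 2) ∈ X := fun c => by
    obtain ⟨u, hu, h2⟩ := exists_dual r.v0_mem r.v0_ne
    obtain ⟨t, ht⟩ := p4 _ (W_le_Ep (V0_le_W r.v0_mem))
    have := p2 (r.x 2 (c • u)) (add_mem (W_le_Ep (V0_le_W r.v0_mem)) (se_Ep t 0 2)) ht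
    rw [ap_add_self (W_le_Ep (V0_le_W (Submodule.smul_mem _ c hu)))] at this
    simpa [r.ee, r.ev, V0_e hu, polar_comm Q u r.v0, h2] using this
  obtain ⟨v, hv, h2, h3⟩ := p3 (polar Q (r.e 2) w)
  obtain ⟨t, ht⟩ := p4 (w - v) fun j hj => by
    rw [polar_sub_right]
    rcases hj.eq_or_lt with rfl | c
    · rw [h2, sub_self]
    · rw [hw j (by omega), hv j (by omega), sub_self]
  have := mul_mem (mul_mem ht (p5 (-t))) h3
  rwa [← x_add, ← x_add, neg_smul, add_neg_cancel_right, sub_add_cancel] at this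
theorem cp_aux (h : ∀ x ∈ X, ∀ y ∈ Y, x * y = y * x) (ht : X ⊔ Y = ⊤) (hX : ¬ X ≤ 𝐂[r.x 0 (r.e 2)]) : X = ⊤ := by
  obtain ⟨g, hg, h1⟩ := SetLike.not_le_iff_exists.1 hX
  rw [mem_centralizer_singleton_iff, comm_x0 (r.e_mem_Ep 0 2)] at h1
  have hN : X.Normal := normalizer_eq_top_iff.1 (top_le_iff.1 (ht.ge.trans (sup_le le_normalizer fun y hy =>
    centralizer_le_normalizer _ (mem_centralizer_iff.2 fun x hx => h x hx y hy))))
  have h2 : Y ≤ r.N 1 := fun y hy => N1_of fun w hw =>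
    (comm_x0 (Ep_anti zero_le_one hw)).1 (h _ (x0_mem_normal hN hg h1 hw) y hy).symm
  refine top_le_iff.1 (ht.ge.trans (sup_le le_rfl fun y hy => ?_))
  have h3 : X ⊔ Y ≤ 𝐂[y] := sup_le (fun x hx => mem_centralizer_singleton_iff.2 (h x hx y hy))
    fun x hx => mem_centralizer_singleton_iff.2 (N1_comm (h2 hx) (h2 hy))
  obtain ⟨c, rfl⟩ := mem_center.1 (mem_center_iff.2 fun x => mem_centralizer_singleton_iff.1 (h3 (ht.ge (mem_top x))))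
  exact x0_mem_normal hN hg h1 (se_Ep c 1 1)
/-- `X`, `Y` are normal.  `C (x 0 e₂) ≠ ⊤`, so one of them, say `X`, does not centralize `x 0 e₂` (`comm_x0`); then `Y ≤ N 1` (`x0_mem_normal`, `N1_of`), so `Y` is
abelian and central, `U' = X' ≤ X`, `Y ≤ Z ≤ U' ≤ X`. -/
theorem cp (X Y : Subgroup r.U) (h : ∀ x ∈ X, ∀ y ∈ Y, x * y = y * x) (ht : X ⊔ Y = ⊤) : X = ⊤ ∨ Y = ⊤ := by
  by_cases hX : X ≤ 𝐂[r.x 0 (r.e 2)]
  · refine .inr (cp_aux (fun y hy x hx => (h x hx y hy).symm) (sup_comm X Y ▸ ht) fun hY => ?_)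
    obtain ⟨c, e⟩ := mem_center.1 (mem_center_iff.2 fun x => mem_centralizer_singleton_iff.1 (sup_le hX hY (ht.ge (mem_top x))))
    have := x_inj r.m0 (e_mem_W two_pos) (Submodule.smul_mem _ _ (e_mem_W one_pos)) e
    simpa [r.fe_self r.m3, r.fe_ne (show 2 ≠ 1 by decide)] using congrArg (polar Q (r.f 2)) this
  · exact .inl (cp_aux h ht hX)
theorem x_memγ (hw : w ∈ r.Ep i) (h : polar Q r.v0 w = 0) : r.x i w ∈ fx r.fU 1 r.γ := x_fx (r.Tγ_iff.2 h) i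
/-- `abσ` with `K = ⊥`; commuting with `x 0 f₁` forces `b = 0`. -/
theorem zγ (hg : g ∈ fx r.fU 1 r.γ ⊓ 𝐂(fx r.fU 1 r.γ)) : ∃ a c : F, g = r.x 0 (c • r.e 1 + a • r.v0) := by
  obtain ⟨a, b, c, -, -, -, rfl⟩ := abσ (σ := r.γ) (K := ⊥) (c₀ := 1) (le_top.trans (normalizer_eq_top ⊥).ge) (map_one _)
    (x01_ne one_ne_zero) (fx_iff.1 hg.1) fun y hy => commutatorElement_eq_one_iff_mul_comm.2 (mem_centralizer_iff.1 hg.2 y hy).symm
  have e := mem_centralizer_iff.1 hg.2 _ (x_fx (r.sf r.γ 1) 0)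
  rw [ε, ← mul_assoc, x_comm, mul_assoc, mul_assoc, mul_right_inj, eq_comm, comm_x0 (f_mem_Ep one_pos), x_ap_f (sv_W b 1) r.m1] at e
  obtain ⟨u, hu, h1⟩ := exists_dual r.v0_mem r.v0_ne
  have hb : b = 0 := by simpa [V0_e hu, polar_comm Q u r.v0, h1] using e.2.1 r.m0 u hu
  exact ⟨a, c, by simp [ε, hb]⟩
/-- `⁅x 1 (a • v₀), x 0 f₁⁆ = x 0 (a • v₀ + a ^ 2 • e₁)`, `x01_mem`. -/
theorem zV : fx r.fU 1 r.γ ⊓ 𝐂(fx r.fU 1 r.γ) ≤ ⁅fx r.fU 1 r.γ, fx r.fU 1 r.γ⁆ := fun g hg => by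
  obtain ⟨a, c, rfl⟩ := zγ hg
  have e : c • r.e 1 + a • r.v0 = a • r.v0 + Q (a • r.v0) • r.e 1 + (c - Q (a • r.v0)) • r.e 1 := by
    rw [sub_smul]
    abel
  rw [e, x_add, ← cm_f one_pos r.m1 (sv_W a 1)]
  exact mul_mem (commutator_mem_commutator (x_fx (r.Tγ_iff.2 (by simp [r.pself])) 1) (x_fx (r.sf _ 1) 0))
    (x01_mem (x_fx (r.Tγ_iff.2 (by simp [r.vf'])) 1) (x_fx (r.se _ 2) 0))
/-- `V' = ⁅V γ, V γ⁆` contains (`cm_f`) `x 0 (c e j)`, `x 0 (c f j)` (`j ≥ 2`), `x 1 f₃`, `x 2 f₄`, `x 2 (c e₄)`, `y = x 2 (a v₀ + a² e₃)`, and `x 2 (c e₃) = ⁅x 3 (c f₄), x 2 e₄⁆`.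
`V''` contains `x 0 (c e₁) = ⁅x 1 f₃, x 0 (c e₃)⁆`, `x 0 (c e₂) = ⁅x 2 f₄, x 0 (c e₄)⁆`, `x 0 (c e₃) = ⁅x 2 (c e₃), x 0 f₂⁆`,
`x 0 (a v₀ + a² e₃ + a² e₂) = ⁅y, x 0 f₂⁆`. -/
theorem big_zV (h : 5 ≤ m) : fx r.fU 1 r.γ ⊓ 𝐂(fx r.fU 1 r.γ) ≤
    ⁅⁅fx r.fU 1 r.γ, fx r.fU 1 r.γ⁆, ⁅fx r.fU 1 r.γ, fx r.fU 1 r.γ⁆⁆ := fun g hg => by
  obtain ⟨a, c, rfl⟩ := zγ hg
  have p0 : ∀ i w, polar Q r.v0 w = 0 → r.x i w ∈ fx r.fU 1 r.γ := fun i w h => x_fx (r.Tγ_iff.2 h) i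
  have p1 : ∀ {i j w}, i < j → j < m → w ∈ r.W j → polar Q r.v0 w = 0 → r.x i (w + Q w • r.e j) ∈ ⁅fx r.fU 1 r.γ, fx r.fU 1 r.γ⁆ :=
    fun hij hj hw h0 => cm_f hij hj hw ▸ commutator_mem_commutator (p0 _ _ h0) (p0 _ _ (r.vf' _))
  have pe : ∀ {i k}, i + 1 < k → k < m → r.x i (r.e k) ∈ ⁅fx r.fU 1 r.γ, fx r.fU 1 r.γ⁆ := fun {i k} h1 h2 => by
    simpa [r.Qe] using p1 i.lt_succ_self (h1.trans h2) (e_mem_W h1) (r.ve k)
  have pf : ∀ {i k} (c : F), i + 1 < k → k < m → r.x i (c • r.f k) ∈ ⁅fx r.fU 1 r.γ, fx r.fU 1 r.γ⁆ := fun {i k} c h1 h2 => by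
    simpa [Q_smul, r.Qf] using p1 i.lt_succ_self (h1.trans h2) (Submodule.smul_mem _ c (f_mem_W h1)) (by simp [r.vf'])
  have f2 := pf (i := 0) (k := 2) 1 (by decide) r.m3
  rw [one_smul] at f2
  have hw : a • r.v0 + Q (a • r.v0) • r.e 3 ∈ r.W 2 := add_mem (sv_W a 2) (Submodule.smul_mem _ _ (e_mem_W (by decide)))
  have q1 := commutator_mem_commutator (pf (i := 1) (k := 3) c (by decide) (by omega)) (pe (i := 0) (k := 3) (by decide) (by omega))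
  have q2 := fun c => commutator_mem_commutator (pf (i := 2) (k := 4) c (by decide) h) (pe (i := 0) (k := 4) (by decide) h)
  have q3 := commutator_mem_commutator (commutator_mem_commutator (p0 3 ((-Q (a • r.v0)) • r.f 4) (by simp [r.vf'])) (p0 2 _ (r.ve 4))) f2
  have q4 := commutator_mem_commutator (p1 (i := 2) (j := 3) (by decide) (by omega) (sv_W a 3) (by simp [r.pself])) f2
  rw [cm_e zero_le_one (by decide) (by omega)] at q1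
  simp only [cm_e (Nat.zero_le 2) (show 2 < 4 by decide) h] at q2
  rw [cm_e (by decide) (by decide) h, cm_f two_pos r.m3 (Submodule.smul_mem _ _ (e_mem_W (by decide))), Q_smul _ _ (r.e 3), r.Qe, mul_zero,
    zero_smul, add_zero] at q3
  rw [cm_f two_pos r.m3 hw] at q4
  have := mul_mem (mul_mem (mul_mem q1 q4) (q2 (-Q (a • r.v0 + Q (a • r.v0) • r.e 3)))) q3
  rw [← x_add, ← x_add, ← x_add] at this
  convert this using 2
  rw [neg_smul, neg_smul]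
  abel
/-- `K ≤ E0` by `abσ`.  For `x = x 0 (c • e₂)`: `g θ(x) g⁻¹ x⁻¹ = x 0 (g (σ c • e₂) + c • e₂) ∈ E0` forces `σ c = c` (apply to `f₀`, or `c_mul`, `c_x`; compare
`e₂`-coefficients), so `θ ∈ {1, γ}` (`ker`) fixes `V γ`; `abσ` again. -/
theorem ab (g : r.U) (θ : A) (K : Subgroup r.U) (hg : g ∈ fx r.fU 1 r.γ) (hK : K ≤ fx r.fU 1 r.γ) (hN : fx r.fU 1 r.γ ≤ 𝐍(K)) (hz : r.z ∉ K)
    (h : ∀ x ∈ fx r.fU 1 r.γ, g * r.fU θ x * g⁻¹ * x⁻¹ ∈ K) : g ∈ r.E0 ∧ (θ = 1 ∨ θ = r.γ) := by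
  have hz' : r.x 0 ((1 : F) • r.e 1) ∉ K := by rwa [one_smul]
  have key : ∀ {k}, k ∈ fx r.fU 1 r.γ → (∀ y ∈ fx r.fU 1 r.γ, ⁅k, y⁆ ∈ K) → k ∈ r.E0 := fun hk h => by
    obtain ⟨a, b, c, -, -, -, e⟩ := abσ hN (map_one _) hz' (fx_iff.1 hk) h
    exact ⟨a, b, c, e⟩
  have hθ : θ = 1 ∨ θ = r.γ := r.ker (RingEquiv.ext fun c => by
    have h1 := h _ (x_fx (w := c • r.e 2) (r.Tγ_iff.2 (by simp [r.ve])) 0)
    obtain ⟨a, b, c', e⟩ := key (hK h1) (cmK' hN h1)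
    rw [fU_x, Gam.map_smul, r.se, x_conj (ap_e0 g) (se_Ep _ 0 2), x_inv, ← x_add, ε] at e
    have e' := congrArg (fun y => polar Q (r.f 2) (r.ap y (r.f 0))) e
    simp only [ap_mul] at e'
    rw [x_ap (add_mem (ap_Ep g (se_Ep _ 0 2)) (se_Ep _ 0 2)), x_ap_fix (W_le_Ep (sv_W b 1)) (r.ef_ne one_ne_zero) (by simp [r.vf']),
      x_ap_f (εw_W c' a) r.m0, ap_smul, ← sub_add_cancel (r.ap g (r.e 2)) (r.e 2)] at e'
    have h2 := (ap_sub g (e_mem_Fl (r := r) (show 2 < 3 by decide))).2.2 2 le_rfl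
    simp only [polar_add_right, polar_smul_right', h2, r.ff, r.fe_ne two_ne_zero, r.fe_ne (show 2 ≠ 1 by decide), r.fe_self r.m3, r.fv,
      r.ef_self r.m0] at e'
    change (r.s θ).σ c = c
    linear_combination e' - c * r.h2)
  refine ⟨key hg fun y hy => ?_, hθ⟩
  have := h y hy
  rwa [show r.fU θ y = y by rcases hθ with rfl | rfl; exacts [by simp, fx_iff.1 hy]] at this
/-- `K` lies in the image of `(fixField σ) ^ 3` under `ε` (`abσ`). -/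
theorem card_K (hK : K ≤ fx r.fU 1 σ) (hN : fx r.fU 1 σ ≤ 𝐍(K)) (hz : r.z ∉ K) : Nat.card K ≤ r.a σ ^ 3 := by
  have := r.finU
  have h1 : (K : Set r.U) ⊆ Set.range fun p : Linear.fixField (r.s σ).σ × Linear.fixField (r.s σ).σ × Linear.fixField (r.s σ).σ =>
      r.ε p.1 p.2.1 p.2.2 := fun k hk => by
    obtain ⟨a, b, c, ha, hb, hc, e⟩ := abσ (c₀ := 1) hN (map_one _) (by rwa [one_smul]) (fx_iff.1 (hK hk)) (cmK' hN hk)
    exact ⟨(⟨a, ha.1⟩, ⟨b, hb.1⟩, ⟨c, hc⟩), e.symm⟩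
  have := (Nat.card_mono (Set.toFinite _) h1).trans (Finite.card_range_le _)
  rwa [Nat.card_prod, Nat.card_prod, ← pow_three] at this
theorem nzs (σ d : A) (i : ℕ) (K : Subgroup r.U) (hσ : orderOf σ = 2 ^ (i + 1)) (hd : orderOf d = 2 ^ (i + 2))
    (h : σ ^ 2 ^ i = d ^ 2 ^ (i + 1)) (hK : K ≤ fx r.fU 1 σ) (hN : fx r.fU 1 σ ≤ 𝐍(K)) (hz : r.z ∉ K) :
    4 * Nat.card K * Nat.card (fx r.fU 1 d) < Nat.card (fx r.fU 1 σ) :=
  (Nat.mul_le_mul_right _ (Nat.mul_le_mul_left _ (card_K hK hN hz))).trans_lt (r.nzs_num hσ hd h)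

variable (r) in
/-- The data on `U`. -/
noncomputable def um : UM r.U A where
  fU := r.fU
  z := r.z
  γ := r.γ
  lo := r.lo
  zc := Nat.card F
  E0 := r.E0
  p2 := r.p2
  γ2 := r.γ2
  I2 _ _ := r.I2
  fz := fz
  z1 := z1
  zZ := zZ
  NZ := nz
  CLS := cls
  ZU := zU
  cab := cab
  CP := cp
  UP := r.up
  vf _ := r.vf
  VG := r.vg
  ZV _ := zV
  LG0 u _ := r.lg0 u
  LG1 := r.lg1
  E0V := E0V
  E0c := E0c
  AB _ := ab
  NZS := nzs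
  n0 := r.n0
  nf _ := r.nf
  nU _ := r.nU
  n8 _ _ := r.n8
  nβ := nβ

theorem big (h : 5 ≤ m) : r.um.Big := ⟨big_zV h, r.big_nU h⟩

end Fr

end Cfsg.Lib.OS
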