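import Cfsg.Agent.Lib.OS.M5
import Cfsg.Agent.Lib.Orth.Wall3

/-!
# S3130, the orthogonal model 6: normal forms of the involutions of `O(V, Q)` and lower bounds for their centralizers in `U`.
-/

set_option autoImplicit false
set_option linter.unusedSectionVars false

namespace Cfsg.Lib.OS

open Subgroup Cfsg.Lib.BG Cfsg.Lib.Orth Finset Module QuadraticMap
open scoped commutatorElement Cfsg.Lib.Transfer

/-- `x = w y w⁻¹`; if `w ∉ H` replace it by `w c`. -/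
theorem conj_index_two {X : Type*} [Group X] {H : Subgroup X} (hH : H.index = 2) {x y y' c : X} (h : IsConj y x) (hc : c ∉ H)
    (e : c * y' * c⁻¹ = y) : ∃ w ∈ H, x = w * y * w⁻¹ ∨ x = w * y' * w⁻¹ := by
  obtain ⟨w, rfl⟩ := _root_.isConj_iff.1 h
  by_cases c' : w ∈ H
  · exact ⟨w, c', .inl rfl⟩
  · exact ⟨w * c, (mul_mem_iff_of_index_two hH).2 (iff_of_false c' hc), .inr (by rw [← e]; group)⟩

/-- `y ↦ ⁅y, g⁆` is constant exactly on the cosets of `C(g)`. -/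
theorem card_le_cent {X : Type*} [Group X] [Finite X] (Y : Subgroup X) (g : X) (T : Set X) (h : ∀ y ∈ Y, ⁅y, g⁆ ∈ T) :
    Nat.card Y ≤ Nat.card ↥(Y ⊓ 𝐂[g]) * Nat.card T := by
  rw [card_eq_card_quotient_mul_card_subgroup ((Y ⊓ 𝐂[g]).subgroupOf Y), Nat.card_congr (subgroupOfEquivOfLe inf_le_left).toEquiv, mul_comm]
  refine Nat.mul_le_mul_left _ (Nat.card_le_card_of_injective (fun q => (⟨⁅(q.out : X), g⁆, h _ q.out.2⟩ : T)) fun q q' e => ?_)
  rw [← q.out_eq, ← q'.out_eq]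
  refine QuotientGroup.eq.2 (mem_subgroupOf.2 ⟨(q.out⁻¹ * q'.out).2, mem_centralizer_singleton_iff.2 ?_⟩)
  have e' : (q.out : X) * g * (q.out : X)⁻¹ = q'.out * g * (q'.out : X)⁻¹ := mul_right_cancel (congrArg Subtype.val e)
  rw [Subgroup.coe_mul, Subgroup.coe_inv, mul_assoc, mul_inv_eq_iff_eq_mul.1 e'.symm]
  group

namespace Fr

variable {F V : Type*} [Field F] [Finite F] [AddCommGroup V] [Module F V] [FiniteDimensional F V] {Q : QuadraticForm F V} {m : ℕ}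
  {A : Type*} [Group A] (r : Fr Q m A)

/-- `P n a = ∏ i < n, ρ(e (a + i), e (a + 2 n - 1 - i))`. -/
noncomputable def P : ℕ → ℕ → r.U
  | 0, _ => 1
  | n + 1, a => r.x a (r.e (a + 2 * n + 1)) * P n (a + 1)

/-- The second family of normal forms. -/
noncomputable def R (u : V) (n : ℕ) : r.U := r.x 0 u * r.P n 1

variable {r} {n a h : ℕ} {u v : V} {θ : A} {g : r.U} {x : O Q}

theorem e_sum_e' (k : ℕ) (s : Finset ℕ) (c : ℕ → F) (φ : ℕ → ℕ) : polar Q (r.e k) (∑ j ∈ s, c j • r.e (φ j)) = 0 := by simp [psum, r.ee]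
theorem P_mem (X : Subgroup r.U) (hX : ∀ i j, a ≤ i → i < j → j < a + 2 * n → r.x i (r.e j) ∈ X) : r.P n a ∈ X := by
  induction n generalizing a with
  | zero => exact one_mem _
  | succ n ih => exact mul_mem (hX _ _ le_rfl (by omega) (by omega)) (ih fun i j h1 h2 h3 => hX i j (by omega) h2 (by omega))
theorem P_ap (n a : ℕ) (v : V) : r.ap (r.P n a) v = v + ∑ i ∈ range (2 * n), polar Q (r.e (a + 2 * n - 1 - i)) v • r.e (a + i) := by
  induction n generalizing a with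
  | zero => simp [P, ap_one]
  | succ n ih =>
    rw [P, ap_mul, ih, x_ap (r.e_mem_Ep _ _), r.Qe, zero_mul, zero_smul, add_zero, polar_add_right, polar_add_right, e_sum_e', e_sum_e',
      add_zero, add_zero, show 2 * (n + 1) = 2 * n + 1 + 1 by ring, sum_range_succ, sum_range_succ',
      show a + (2 * n + 1 + 1) - 1 - (2 * n + 1) = a by omega, show a + (2 * n + 1 + 1) - 1 - 0 = a + 2 * n + 1 by omega]
    rw [sum_congr rfl fun i _ => show polar Q (r.e (a + (2 * n + 1 + 1) - 1 - (i + 1))) v • r.e (a + (i + 1)) =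
      polar Q (r.e (a + 1 + 2 * n - 1 - i)) v • r.e (a + 1 + i) by
        rw [show a + (2 * n + 1 + 1) - 1 - (i + 1) = a + 1 + 2 * n - 1 - i by omega, show a + (i + 1) = a + 1 + i by omega],
      add_zero, ← add_assoc a (2 * n)]
    abel
theorem P_fix (hv : ∀ i, a ≤ i → i < a + 2 * n → polar Q (r.e i) v = 0) : r.ap (r.P n a) v = v := by
  rw [P_ap, sum_eq_zero fun i hi => by have := mem_range.1 hi; rw [hv _ (by omega) (by omega), zero_smul], add_zero]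
theorem P_sq (n a : ℕ) : r.P n a * r.P n a = 1 := ap_ext fun v => by
  rw [ap_mul, P_ap n a v, ap_add, P_ap n a v, P_fix fun i _ _ => e_sum_e' i _ _ _, add_assoc, r.two, add_zero, ap_one]
theorem fU_P (θ : A) (n a : ℕ) : r.fU θ (r.P n a) = r.P n a := by
  induction n generalizing a with
  | zero => exact map_one _
  | succ n ih => rw [P, map_mul, fU_x, r.se, ih]
theorem P_H (h1 : 1 ≤ h) (hh : 2 * a + 2 * n + h ≤ 2 * m + 1) : (r.P n a).1 ∈ r.H h := by
  induction n generalizing a with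
  | zero => exact one_mem _
  | succ n ih =>
    refine mul_mem ?_ (ih (by omega))
    rw [x_val (r.e_mem_Ep _ _)]
    exact eich_H (e_mem_Fl (Nat.lt_succ_self _)) (by omega) (by omega) h1
theorem P_V0 (hu : u ∈ r.V0) : r.ap (r.P n a) u = u := P_fix fun i _ _ => (mem_V0.1 hu i).1
theorem V0_Ep (hu : u ∈ r.V0) (i : ℕ) : u ∈ r.Ep i := W_le_Ep (V0_le_W hu)
theorem P_x0 (hu : u ∈ r.V0) : r.P n a * r.x 0 u = r.x 0 u * r.P n a := x_fix (ap_e0 _) (V0_Ep hu 0) (P_V0 hu)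
theorem P_sub (n a : ℕ) (v : V) : r.ap (r.P n a) v - v ∈ r.Fl (a + 2 * n) := by
  rw [P_ap, add_sub_cancel_left]
  exact sum_mem fun i hi => Submodule.smul_mem _ _ (e_mem_Fl (by have := mem_range.1 hi; omega))
theorem P_f {j : ℕ} (hn : a + 2 * n ≤ m) (hj : j < 2 * n) :
    r.ap (r.P n a) (r.f (a + 2 * n - 1 - j)) = r.f (a + 2 * n - 1 - j) + r.e (a + j) := by
  rw [P_ap, sum_eq_single j (fun i hi k => by have := mem_range.1 hi; rw [r.ef_ne (by omega), zero_smul])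
    (fun k => absurd (mem_range.2 hj) k), r.ef_self (by omega), one_smul]
theorem Fl_le {d : ℕ} {M : Submodule F V} (hd : d ≤ m) (h : ∀ j < d, r.e j ∈ M) : r.Fl d ≤ M := fun v hv => by
  rw [(mem_Fl_low hd).1 hv]
  exact sum_mem fun j hj => M.smul_mem _ (h j (mem_range.1 hj))
theorem R_sq (hu : u ∈ r.V0) (n : ℕ) : r.R u n * r.R u n = 1 := by
  rw [R, mul_assoc, ← mul_assoc (r.P n 1), P_x0 hu, mul_assoc, P_sq, mul_one, x_sq]
theorem fU_R (θ : A) (u : V) (n : ℕ) : r.fU θ (r.R u n) = r.R ((r.s θ).T u) n := by rw [R, map_mul, fU_x, fU_P, R]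
theorem R_H (hu : u ∈ r.V0) (hn : 2 * n + 1 ≤ m) : (r.R u n).1 ∈ r.H m := by
  refine mul_mem ?_ (P_H r.m0 (by omega))
  rw [x_val (V0_Ep hu 0)]
  exact eich_H (V0_le_Fl m.lt_succ_self hu) (by omega) (by omega) r.m0
/-- `⊇`: apply to the `f j`. -/
theorem comm_P (hn : 2 * n ≤ m) : O.comm (r.P n 0).1 = r.Fl (2 * n) := by
  refine le_antisymm (fun v hv => ?_) (Fl_le hn fun j hj => O.mem_comm.2 ⟨r.f (0 + 2 * n - 1 - j), ?_⟩)
  · obtain ⟨y, rfl⟩ := O.mem_comm.1 hv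
    simpa using P_sub n 0 y
  · exact sub_eq_iff_eq_add'.2 (by simpa using P_f (r := r) (a := 0) (by omega) hj)
/-- `⊇`: apply to `u'` with `B u u' = 1`, to `f 0`, and to the `f j`. -/
theorem comm_R (hu : u ∈ r.V0) (h0 : u ≠ 0) (hn : 2 * n + 1 ≤ m) : O.comm (r.R u n).1 = r.Fl (2 * n + 1) ⊔ F ∙ u := by
  have hE := V0_Ep hu 0
  have e0 : r.e 0 ∈ O.comm (r.R u n).1 := by
    obtain ⟨u', hu', h1⟩ := exists_dual hu h0
    refine O.mem_comm.2 ⟨u', sub_eq_iff_eq_add'.2 ?_⟩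
    rw [← ap, R, ap_mul, P_V0 hu', x_ap_perp hE (mem_V0.1 hu' 0).1, h1, one_smul]
  refine le_antisymm (fun v hv => ?_) (sup_le (Fl_le hn fun j hj => ?_) ((Submodule.span_singleton_le_iff_mem _ _).2 ?_))
  · obtain ⟨y, rfl⟩ := O.mem_comm.1 hv
    have h1 : r.e 0 ∈ r.Fl (2 * n + 1) ⊔ F ∙ u := Submodule.mem_sup_left (e_mem_Fl (by omega))
    have h2 : r.ap (r.x 0 u) y + y ∈ r.Fl (2 * n + 1) ⊔ F ∙ u := by
      rw [ap_add_self hE]
      exact add_mem (add_mem (Submodule.smul_mem _ _ h1)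
        (Submodule.smul_mem _ _ (Submodule.mem_sup_right (Submodule.mem_span_singleton_self u)))) (Submodule.smul_mem _ _ h1)
    have := add_mem (Submodule.mem_sup_left (add_comm 1 (2 * n) ▸ ap_Fl (r.x 0 u) (P_sub n 1 y))) h2
    rwa [ap_sub', ← r.sub _ y, sub_add_sub_cancel] at this
  · rcases j with _ | j
    · exact e0
    · refine O.mem_comm.2 ⟨r.f (1 + 2 * n - 1 - j), sub_eq_iff_eq_add'.2 ?_⟩
      rw [← ap, R, ap_mul, P_f (by omega) (by omega), x_ap_fix hE (by simp [r.ee, r.ef_ne (show 0 ≠ 2 * n - j by omega)])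
        (by simp [V0_e hu, V0_f hu]), add_comm 1 j]
  · have h1 := O.sub_mem_comm (r.R u n).1 (r.f 0)
    rw [← ap, R, ap_mul, P_fix fun i hi _ => r.ef_ne (by omega), x_ap_f (V0_le_W hu) r.m0, add_assoc, add_sub_cancel_left] at h1
    exact (Submodule.add_mem_iff_left _ (Submodule.smul_mem _ _ e0)).1 h1
theorem Pγ_ap (v : V) : ((r.P n 0).1 * refl Q r.v0).1 v = r.ap (r.P n 0) v + polar Q r.v0 v • r.v0 := by
  have := r.Tγ v
  rw [r.sγ, Gam.ofO_T] at this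
  rw [O.mul_apply, this, ← ap, ap_add, ap_smul, P_V0 r.v0_mem]
theorem comm_Pγ (hn : 2 * n ≤ m) : O.comm ((r.P n 0).1 * refl Q r.v0) = r.Fl (2 * n) ⊔ F ∙ r.v0 := by
  refine le_antisymm (fun v hv => ?_) (sup_le (Fl_le hn fun j hj => O.mem_comm.2 ⟨r.f (0 + 2 * n - 1 - j), ?_⟩)
    ((Submodule.span_singleton_le_iff_mem _ _).2 ?_))
  · obtain ⟨y, rfl⟩ := O.mem_comm.1 hv
    rw [Pγ_ap, add_sub_right_comm]
    exact Submodule.add_mem_sup (by simpa using P_sub n 0 y) (Submodule.smul_mem _ _ (Submodule.mem_span_singleton_self _))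
  · rw [Pγ_ap, P_f (by omega) hj, r.vf', zero_smul, add_zero, add_sub_cancel_left, zero_add]
  · obtain ⟨u, hu, h1⟩ := exists_dual r.v0_mem r.v0_ne
    exact O.mem_comm.2 ⟨u, by rw [Pγ_ap, P_V0 hu, h1, one_smul, add_sub_cancel_left]⟩
theorem finrank_sup {d : ℕ} (hd : d ≤ m) (hu : u ∈ r.V0) (h0 : u ≠ 0) : finrank F ↥(r.Fl d ⊔ F ∙ u) = d + 1 := by
  rw [Submodule.finrank_sup_span_singleton fun k : u ∈ r.Fl d => h0 (W_nd hu (k.2.1 hd)), finrank_Fl_low hd]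
theorem ts_sup {d : ℕ} (hd : d ≤ m) (hu : u ∈ r.V0) : TS Q (r.Fl d ⊔ F ∙ u) ↔ Q u = 0 := ⟨fun h => h u (Submodule.mem_sup_right (Submodule.mem_span_singleton_self u)),
  TS.sup_span (fun _ => Q_Fl hd) (mem_perp'.2 fun _ hw => hw.2.1 hd u hu)⟩
theorem rank_R (hu : u ∈ r.V0) (h0 : u ≠ 0) (hn : 2 * n + 1 ≤ m) : finrank F (O.comm (r.R u n).1) = 2 * n + 2 := by
  rw [comm_R hu h0 hn, finrank_sup hn hu h0]
theorem inv_ap (hx : x * x = 1) (v : V) : (x.1 : V →ₗ[F] V) ((x.1 : V →ₗ[F] V) v) = v := congrArg (fun g : O Q => g.1 v) hx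
theorem nE (r : Fr Q m A) : ¬ Exc Q := not_exc_of_five_le (by have := r.rk; have := r.m3; omega)
theorem mem_Ω_iff (r : Fr Q m A) : x ∈ commutator (O Q) ↔ Even (finrank F (O.comm x)) := by
  rw [commutator_eq_ker_dickson r.nd r.nE r.h2, MonoidHom.mem_ker, dickson_eq_one_iff]
theorem rank_le (r : Fr Q m A) (hx : x * x = 1) : finrank F (O.comm x) ≤ m + 1 := by
  have : 2 * finrank F (O.comm x) ≤ _ := (O.oE r.nd x).two_mul_le r.h2 (inv_ap hx)
  rw [r.rk] at this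
  omega
theorem idx2 (r : Fr Q m A) : (commutator (O Q)).index = 2 := index_commutator_of_even r.nd r.nE r.h2 (by have := r.rk; omega)
theorem refl_cj (g : r.U) : refl Q r.v0 * g * (refl Q r.v0)⁻¹ = (r.fU r.γ g).1 := by rw [fUγ_val, refl_inv]
include r in
/-- `OE.qsim_of_inv2`, `O.isConj_iff`. -/
theorem isConj_of {y : O Q} (hx : x * x = 1) (hy : y * y = 1) (hr : finrank F (O.comm x) = finrank F (O.comm y))
    (ht : TS Q (O.comm x) ↔ TS Q (O.comm y)) : IsConj x y :=   O.isConj_iff.2 ((O.oE r.nd x).qsim_of_inv2 (O.oE r.nd y) r.h2 (.refl _) (inv_ap hx) (inv_ap hy) hr ht)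
theorem refl_not : refl Q r.v0 ∉ commutator (O Q) := by
  rw [r.mem_Ω_iff, finrank_comm_refl r.nd (r.Qv.trans_ne one_ne_zero)]
  exact Nat.not_even_one
/-- The rank `ρ` of `x` is even (`commutator_eq_ker_dickson`, `dickson_eq_one_iff`) and `≤ m + 1` (`OE.two_mul_le`).  Totally singular `comm x`, `ρ ≤ m`: `P`.
Totally singular, `ρ = m + 1`: `exists_sing` gives `u`; `x` is conjugate in `O` to `R u n`, and `γ` conjugates `R (γ u) n` to it.
Not totally singular: `ρ ≥ 2`, `R v₀ n`.  `conj_index_two` with `c = refl v₀` (`fUγ_val`, `index_commutator_of_even`). -/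
theorem nf_even (hx : x ∈ commutator (O Q)) (h2 : x * x = 1) : ∃ w ∈ commutator (O Q), ∃ n,
    (2 * n ≤ m ∧ x = w * (r.P n 0).1 * w⁻¹) ∨
    (2 * n + 1 ≤ m ∧ ∃ u ∈ r.V0, u ≠ 0 ∧ (u = r.v0 ∨ Q u = 0 ∧ 2 * n + 1 = m) ∧ x = w * (r.R u n).1 * w⁻¹) := by
  obtain ⟨k, hk⟩ := r.mem_Ω_iff.1 hx
  have h1 := r.rank_le h2
  by_cases t : TS Q (O.comm x)
  · rcases le_or_gt (2 * k) m with c | c
    · obtain ⟨w, hw, e⟩ := conj_index_two r.idx2 (r.isConj_of (congrArg Subtype.val (P_sq k 0)) h2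
        (by rw [comm_P c, finrank_Fl_low c, hk, two_mul]) (iff_of_true (comm_P (r := r) c ▸ fun _ => Q_Fl c) t)) refl_not
        ((refl_cj _).trans (congrArg _ (fU_P r.γ k 0)))
      exact ⟨w, hw, k, .inl ⟨c, e.elim id id⟩⟩
    · obtain ⟨u, hu, h0, hQ⟩ := exists_sing (r := r) t (by omega)
      obtain ⟨n, rfl⟩ := Nat.exists_eq_add_of_le' (show 1 ≤ k by omega)
      have c' : 2 * n + 1 = m := by omega
      obtain ⟨w, hw, e⟩ := conj_index_two r.idx2 (r.isConj_of (congrArg Subtype.val (R_sq hu n)) h2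
        (by rw [rank_R hu h0 c'.le, hk]; ring) (iff_of_true (comm_R hu h0 c'.le ▸ (ts_sup c'.le hu).2 hQ) t)) refl_not
        (y' := (r.R ((r.s r.γ).T u) n).1) (by rw [refl_cj, fU_R, ← Gam.mul_T, ← map_mul, γ2, map_one, Gam.one_T])
      refine ⟨w, hw, n, .inr ⟨c'.le, e.elim (fun e => ⟨u, hu, h0, .inr ⟨hQ, c'⟩, e⟩) fun e =>
        ⟨_, T_W.2 hu, (Gam.T_eq_zero _).not.2 h0, .inr ⟨(Gam.Q_T_eq_zero _).2 hQ, c'⟩, e⟩⟩⟩
  · obtain ⟨n, rfl⟩ := Nat.exists_eq_add_of_le' (show 1 ≤ k from Nat.pos_of_ne_zero fun e => t (by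
      rw [Submodule.finrank_eq_zero.1 (hk.trans (by rw [e]))]
      rintro _ rfl
      exact map_zero Q))
    have c' : 2 * n + 1 ≤ m := by omega
    obtain ⟨w, hw, e⟩ := conj_index_two r.idx2 (r.isConj_of (congrArg Subtype.val (R_sq r.v0_mem n)) h2
      (by rw [rank_R r.v0_mem r.v0_ne c', hk]; ring) (iff_of_false (by
        rw [comm_R r.v0_mem r.v0_ne c', ts_sup c' r.v0_mem, r.Qv]; exact one_ne_zero) t)) refl_not
      (y' := (r.R r.v0 n).1) (by rw [refl_cj, fU_R, r.sv])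
    exact ⟨w, hw, n, .inr ⟨c', _, r.v0_mem, r.v0_ne, .inl rfl, e.elim id id⟩⟩
/-- The rank is odd, so `comm x` is not totally singular (`OE.even_of_ts`). -/
theorem nf_odd (hx : x ∉ commutator (O Q)) (h2 : x * x = 1) : ∃ w ∈ commutator (O Q), ∃ n, 2 * n ≤ m ∧
    x = w * ((r.P n 0).1 * refl Q r.v0) * w⁻¹ := by
  have h0 := r.mem_Ω_iff.not.1 hx
  obtain ⟨n, hn⟩ := Nat.not_even_iff_odd.1 h0
  have h1 := r.rank_le h2
  have c : 2 * n ≤ m := by omega
  have e1 := (refl_cj _).trans (congrArg _ (fU_P r.γ n 0))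
  have e2 : (r.P n 0).1 * refl Q r.v0 * ((r.P n 0).1 * refl Q r.v0) = 1 := by
    rw [refl_inv] at e1
    rw [mul_assoc, ← mul_assoc (refl Q r.v0), e1]
    exact congrArg Subtype.val (P_sq n 0)
  obtain ⟨w, hw, e⟩ := conj_index_two r.idx2 (r.isConj_of e2 h2 (by rw [comm_Pγ c, finrank_sup c r.v0_mem r.v0_ne, hn])
    (iff_of_false (by rw [comm_Pγ c, ts_sup c r.v0_mem, r.Qv]; exact one_ne_zero)
      fun t => h0 ((O.oE r.nd x).even_of_ts r.h2 (inv_ap h2) t))) refl_not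
    (y' := (r.P n 0).1 * refl Q r.v0) (by rw [← mul_assoc, mul_inv_cancel_right, ← mul_inv_eq_iff_eq_mul, e1])
  exact ⟨w, hw, n, c, e.elim id id⟩

/-- The number of pairs `a < b` with `a + b < n`. -/
theorem card_pairs (n : ℕ) : ((range n ×ˢ range n).filter fun p => p.1 < p.2 ∧ p.1 + p.2 < n).card = n ^ 2 / 4 := by
  have e : ∀ a, ∑ b ∈ range n, (if a < b ∧ a + b < n then 1 else 0) = n - a - a - 1 := fun a => by
    rw [← card_filter, ← Nat.card_Ioo]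
    congr 1
    ext b
    simp only [mem_filter, mem_range, Finset.mem_Ioo]
    omega
  simp only [card_filter, sum_product, e]
  clear e
  induction n using Nat.twoStepInduction with
  | zero => rfl
  | one => rfl
  | more n ih _ =>
    rw [sum_range_succ', sum_range_succ, sum_congr rfl fun a _ => show n + 2 - (a + 1) - (a + 1) - 1 = n - a - a - 1 by omega, ih,
      show (n + 2) ^ 2 = n ^ 2 + 4 * (n + 1) by ring]
    omega
/-- `g ∈ H (2 m + 1 - n)` fixes `Fl (m + 1)` pointwise and `g (f a) - f a ∈ Fl (n - a)`.  The matrix `M a b = B (f b) (g (f a))` is symmetric with zero diagonal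
(`B (g (f a)) (g (f b)) = 0`, `Q (g (f a)) = 0`), vanishes for `a + b ≥ n`, and determines `g` (`mem_Fl_low`). -/
theorem card_H (hn : n ≤ m) : Nat.card (r.H (2 * m + 1 - n)) ≤ Nat.card F ^ (n ^ 2 / 4) := by
  have fx : ∀ g : r.H (2 * m + 1 - n), ∀ v ∈ r.Fl (m + 1), g.1.1 v = v := fun g v hv => by
    have := g.2 0 v (Fl_mono (by omega) hv)
    rwa [Fl_zero, Submodule.mem_bot, sub_eq_zero] at this
  have hδ : ∀ (g : r.H (2 * m + 1 - n)) a, g.1.1 (r.f a) - r.f a ∈ r.Fl (n - a) := fun g a => g.2 _ _ (f_mem_Fl (by omega))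
  have e1 : ∀ (g : r.H (2 * m + 1 - n)) a b, polar Q (r.f b) (g.1.1 (r.f a)) = polar Q (r.f b) (g.1.1 (r.f a) - r.f a) := fun g a b => by
    rw [polar_sub_right, r.ff, sub_zero]
  have sy : ∀ (g : r.H (2 * m + 1 - n)) a b, polar Q (r.f b) (g.1.1 (r.f a)) = -polar Q (r.f a) (g.1.1 (r.f b)) := fun g a b => by
    have := polar_Fl (hδ g a) (hδ g b) (by omega)
    rw [polar_sub_left, polar_sub_right, polar_sub_right, O.map_polar, r.ff, polar_comm] at this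
    linear_combination -this
  have dg : ∀ (g : r.H (2 * m + 1 - n)) a, polar Q (r.f a) (g.1.1 (r.f a)) = 0 := fun g a => by
    have := Q_add Q (r.f a) (g.1.1 (r.f a) - r.f a)
    rwa [add_sub_cancel, O.map_Q, Q_Fl (by omega) (hδ g a), add_zero, left_eq_add, ← e1] at this
  rw [← card_pairs, ← Fintype.card_coe, ← Nat.card_eq_fintype_card, ← Nat.card_fun]
  refine Nat.card_le_card_of_injective (fun g p => polar Q (r.f p.1.2) (g.1.1 (r.f p.1.1))) fun g g' e => ?_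
  have lt : ∀ a b, a < b → polar Q (r.f b) (g.1.1 (r.f a)) = polar Q (r.f b) (g'.1.1 (r.f a)) := fun a b hab => by
    rcases lt_or_ge (a + b) n with c | c
    · exact congrFun e ⟨(a, b), by simp only [mem_filter, mem_product, mem_range]; omega⟩
    · rw [e1, e1, (hδ g a).2.2 b (by omega), (hδ g' a).2.2 b (by omega)]
  have ef : ∀ a, g.1.1 (r.f a) = g'.1.1 (r.f a) := fun a => by
    have k : ∀ v ∈ r.Fl (m + 1), polar Q v (g.1.1 (r.f a) - g'.1.1 (r.f a)) = 0 := fun v hv => by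
      have k1 := O.map_polar g.1 v (r.f a)
      have k2 := O.map_polar g'.1 v (r.f a)
      rw [fx _ v hv] at k1 k2
      rw [polar_sub_right, k1, k2, sub_self]
    refine sub_eq_zero.1 (eq_zero (r := r) (fun j => (le_or_gt m j).elim (r.pe_hi · _) fun c => k _ (e_mem_Fl (by omega))) (fun b => ?_)
      fun u hu => k u (V0_le_Fl m.lt_succ_self hu))
    rw [polar_sub_right, sub_eq_zero]
    rcases lt_trichotomy a b with c | rfl | c
    · exact lt a b c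
    · rw [dg, dg]
    · rw [sy, sy g', lt b a c]
  refine Subtype.ext (inv_injective (O.ext fun v => ?_))
  have k : ∀ y, g.1.1 y = g'.1.1 y → polar Q y ((g.1⁻¹).1 v - (g'.1⁻¹).1 v) = 0 := fun y hy => by
    rw [polar_sub_right, ← O.polar_left, ← O.polar_left, hy, sub_self]
  have k' : ∀ y ∈ r.Fl (m + 1), g.1.1 y = g'.1.1 y := fun y hy => (fx g y hy).trans (fx g' y hy).symm
  exact sub_eq_zero.1 (eq_zero (r := r) (fun j => (le_or_gt m j).elim (r.pe_hi · _) fun c => k _ (k' _ (e_mem_Fl (by omega))))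
    (fun b => k _ (ef b)) fun u hu => k u (k' u (V0_le_Fl m.lt_succ_self hu)))
/-- `card_le_cent`, `H_comm`. -/
theorem cent_ge (Y : Subgroup r.U) (hg : g.1 ∈ r.H h) : Nat.card Y ≤ Nat.card ↥(Y ⊓ 𝐂[g]) * Nat.card (r.H (h + 1)) := by
  refine (card_le_cent Y g {y | y.1 ∈ r.H (h + 1)} fun y _ => add_comm 1 h ▸ H_comm y.2 hg).trans (Nat.mul_le_mul_left _ ?_)
  exact Nat.card_le_card_of_injective (fun y => ⟨y.1.1, y.2⟩) fun _ _ e => Subtype.ext (Subtype.ext (Subtype.mk.inj e))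
/-- `card_H` for `n = m`, `num_nf0`. -/
theorem lo_le (hg : g.1 ∈ r.H m) : r.lo ≤ Nat.card 𝐂[g] := by
  have h1 := cent_ge ⊤ hg
  have h2 := card_H (r := r) le_rfl
  rw [show 2 * m + 1 - m = m + 1 by omega] at h2
  rw [card_top, top_inf_eq, card_U] at h1
  refine Nat.le_of_mul_le_mul_right (le_trans ?_ (h1.trans (Nat.mul_le_mul_left _ h2))) (pow_pos Nat.card_pos _)
  rw [lo, ← pow_add]
  exact Nat.pow_le_pow_right Nat.card_pos r.num_nf0
/-- `P n 0 ∈ H (2 m + 1 - 2 n)`, `card_H` for `2 n - 1`, `num_nfγ`. -/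
theorem lo_leγ (hn : 2 * n ≤ m) : r.lo ≤ Nat.card ↥(fx r.fU 1 r.γ ⊓ 𝐂[r.P n 0]) := by
  have h1 := cent_ge (fx r.fU 1 r.γ) (P_H (n := n) (a := 0) (h := 2 * m + 1 - 2 * n) (by omega) (by omega))
  have h2 := (card_le_of_le (H_anti (show _ ≤ 2 * m + 1 - 2 * n + 1 by omega))).trans (card_H (r := r) (n := 2 * n - 1) (by omega))
  rw [card_Vγ] at h1
  refine Nat.le_of_mul_le_mul_right (le_trans ?_ (h1.trans (Nat.mul_le_mul_left _ h2))) (pow_pos Nat.card_pos _)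
  rw [lo, ← pow_add]
  exact Nat.pow_le_pow_right Nat.card_pos (r.num_nfγ hn)

variable (r)

/-- The inclusion `U → Ω`. -/
noncomputable def j : r.U →* commutator (O Q) := inclusion r.U_le

/-- The action of `A` on `Ω`. -/
def fl : A →* MulAut (commutator (O Q)) := (Gam.comAut (O Q)).comp ((Gam.cj Q).comp r.s)

theorem j_val (g : r.U) : (r.j g).1 = g.1 := rfl
theorem fl_val (θ : A) (x : commutator (O Q)) : (r.fl θ x).1 = Gam.cj Q (r.s θ) x := rfl
theorem fl_j (θ : A) (u : r.U) : r.fl θ (r.j u) = r.j (r.fU θ u) := rfl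
/-- `nf_odd` for `u * refl v₀`; `fl γ` is conjugation by `refl v₀`. -/
theorem nfγ (u : r.U) (hu : u * r.fU r.γ u = 1) : ∃ (w : commutator (O Q)) (e : r.U),
    MulAut.conj (r.j u) * r.fl r.γ = MulAut.conj w * (MulAut.conj (r.j e) * r.fl r.γ) * (MulAut.conj w)⁻¹ ∧
    (∀ θ, r.fU θ e = e) ∧ r.lo ≤ Nat.card ↥(fx r.fU 1 r.γ ⊓ 𝐂[e]) := by
  obtain ⟨w, hw, n, hn, e⟩ := nf_odd (r := r) (x := u.1 * refl Q r.v0) (fun k => refl_not ((mul_mem_cancel_left (r.U_le u.2)).1 k)) (by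
    rw [mul_assoc, ← mul_assoc (refl Q r.v0), ← fUγ_val]
    exact congrArg Subtype.val hu)
  refine ⟨⟨w, hw⟩, r.P n 0, MulEquiv.ext fun y => Subtype.ext ?_, fun θ => fU_P θ n 0, lo_leγ hn⟩
  simp only [← map_inv, MulAut.mul_apply, MulAut.conj_apply, Subgroup.coe_mul, Subgroup.coe_inv, j_val, fl_val, r.sγ, Gam.cj_ofO]
  rw [eq_mul_inv_of_mul_eq e]
  group
theorem isConj_j {x : commutator (O Q)} {w : O Q} (hw : w ∈ commutator (O Q)) {e : r.U} (h : x.1 = w * e.1 * w⁻¹) : IsConj x (r.j e) :=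
  (_root_.isConj_iff.2 ⟨⟨w, hw⟩, Subtype.ext h.symm⟩).symm
theorem nf0 (x : commutator (O Q)) (hx : x * x = 1) : ∃ e, IsConj x (r.j e) ∧ r.lo ≤ Nat.card 𝐂[e] := by
  obtain ⟨w, hw, n, ⟨hn, e⟩ | ⟨hn, u, hu, -, -, e⟩⟩ := nf_even (r := r) x.2 (congrArg Subtype.val hx)
  exacts [⟨_, r.isConj_j hw e, lo_le (P_H r.m0 (by omega))⟩, ⟨_, r.isConj_j hw e, lo_le (R_H hu hn)⟩]
/-- `not_sq`. -/
theorem nf1 : (∀ x : commutator (O Q), x * x = 1 → ∃ e, IsConj x (r.j e) ∧ ∀ θ, r.fU θ e = e) ∨ ∀ d, d * d = r.γ → r.γ = 1 := by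
  by_cases c : ∃ u ∈ r.V0, u ≠ 0 ∧ Q u = 0
  · obtain ⟨u, hu, h0, hQ⟩ := c
    exact .inr fun d hd => absurd hd (r.not_sq hu h0 hQ d)
  refine .inl fun x hx => ?_
  obtain ⟨w, hw, n, ⟨-, e⟩ | ⟨-, u, hu, h0, rfl | ⟨hQ, -⟩, e⟩⟩ := nf_even (r := r) x.2 (congrArg Subtype.val hx)
  exacts [⟨_, r.isConj_j hw e, fun θ => fU_P θ n 0⟩, ⟨_, r.isConj_j hw e, fun θ => by rw [fU_R, r.sv]⟩, absurd ⟨u, hu, h0, hQ⟩ c]

end Fr

end Cfsg.Lib.OS
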