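import Cfsg.Agent.Lib.OS.M8

/-!
# S3130, the orthogonal model 7: `tri`, `FT`, `CC`.
-/

set_option autoImplicit false
set_option linter.unusedSectionVars false

namespace Cfsg.Lib.OS

open Subgroup G2S Cfsg.Lib.BG Cfsg.Lib.Orth Finset Module QuadraticMap
open scoped commutatorElement Cfsg.Lib.Transfer

variable {F V : Type*} [Field F] [Finite F] [AddCommGroup V] [Module F V] [FiniteDimensional F V] {Q : QuadraticForm F V} {m : ℕ}

/-- `h = ρ(s, p')` and `g = ρ(p, s') h` fix `e`; `h p = p + s`, `g p = s`; `conj_eich`, `eich_add`. -/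
theorem tri3 (h2 : (2 : F) = 0) {e p p' s s' : V} (c : F) (he : Q e = 0) (hp : Q p = 0) (hs : Q s = 0) (ep : polar Q e p = 0) (ep' : polar Q e p' = 0)
    (es : polar Q e s = 0) (es' : polar Q e s' = 0) (pp : polar Q p p' = 1) (ss : polar Q s s' = 1) (ps : polar Q p s = 0) (ps' : polar Q p s' = 0)
    (sp' : polar Q s p' = 0) : eich Q s p' * eich Q e (c • p) * (eich Q s p')⁻¹ =
      eich Q e (c • p) * (eich Q p s' * eich Q s p' * eich Q e (c • p) * (eich Q p s' * eich Q s p')⁻¹) := by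
  have h1 : (eich Q s p').1 e = e := by simp [eich_apply hs sp', polar_comm Q p' e, polar_comm Q s e, ep', es]
  have h3 : (eich Q s p').1 p = p + s := by simp [eich_apply hs sp', polar_comm Q p' p, polar_comm Q s p, pp, ps]
  have h4 : (eich Q p s').1 e = e := by simp [eich_apply hp ps', polar_comm Q s' e, polar_comm Q p e, ep, es']
  have h5 : (eich Q p s').1 s = s + p := by simp [eich_apply hp ps', polar_comm Q s' s, ss, ps]
  rw [conj_eich, conj_eich, O.mul_apply, O.mul_apply, h1, h4, map_smul, map_smul, h3, map_add, eich_apply_self hp ps', h5,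
    add_left_comm, add_self_of_two h2, add_zero, smul_add, eich_add he (by simp [ep]) (by simp [es])]

namespace Fr

variable {A : Type*} [Group A] (r : Fr Q m A)

/-- Eichler transformations in `Ω`. -/
noncomputable def ρ (u w : V) : commutator (O Q) :=
  ⟨eich Q u w, eich_mem_commutator r.nd (not_exc_of_five_le (by have := r.rk; have := r.m3; omega)) u w⟩

variable {r} {n : ℕ} {u w : V} {θ ι : A} {g y : r.U} {i : ℕ}

theorem fl_ρ (θ : A) (u w : V) : r.fl θ (r.ρ u w) = r.ρ ((r.s θ).T u) ((r.s θ).T w) := Subtype.ext (by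
  change Gam.cj Q _ (eich Q _ _) = eich Q _ _
  rw [Gam.cj_eich, r.sc]
  simp)
theorem j_x (h : w ∈ r.Ep i) : r.j (r.x i w) = r.ρ (r.e i) w := Subtype.ext (x_val h)
theorem ρ_add {e w w' : V} (he : Q e = 0) (h : polar Q e w = 0) (h' : polar Q e w' = 0) : r.ρ e (w + w') = r.ρ e w * r.ρ e w' :=
  Subtype.ext (eich_add he h h')
theorem ρ_sq {e w : V} (he : Q e = 0) (h : polar Q e w = 0) : r.ρ e w * r.ρ e w = 1 := by
  rw [← ρ_add he h h, r.two]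
  exact Subtype.ext (eich_zero e)
theorem ρ_conj (g : r.U) (e w : V) : r.j g * r.ρ e w * (r.j g)⁻¹ = r.ρ (r.ap g e) (r.ap g w) := Subtype.ext (conj_eich _ _ _)
theorem exists_third (r : Fr Q m A) (i j : ℕ) : ∃ l < m, l ≠ i ∧ l ≠ j := by
  have := r.m3
  by_contra h
  push Not at h
  have h0 := h 0 (by omega)
  have h1 := h 1 (by omega)
  have h2 := h 2 (by omega)
  omega
include r in
/-- `tri3` with `e = e₀`, `p = e₁`, `s = e₂`. -/
theorem tri : ∃ u a b : commutator (O Q), u * u = 1 ∧ u ≠ 1 ∧ b * u * b⁻¹ = u * (a * u * a⁻¹) :=   ⟨r.ρ (r.e 0) ((1 : F) • r.e 1), r.ρ (r.e 1) (r.f 2) * r.ρ (r.e 2) (r.f 1), r.ρ (r.e 2) (r.f 1), ρ_sq (r.Qe 0) (by simp [r.ee]),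
    fun e => x01_ne one_ne_zero (r.em.inj ((j_x (se_Ep 1 0 1)).trans (e.trans (map_one _).symm))),
    Subtype.ext (tri3 r.h2 1 (r.Qe 0) (r.Qe 1) (r.Qe 2) (r.ee _ _) (r.ef_ne zero_ne_one) (r.ee _ _) (r.ef_ne two_ne_zero.symm) (r.ef_self r.m1)
      (r.ef_self r.m3) (r.ee _ _) (r.ef_ne (by decide)) (r.ef_ne (by decide)))⟩
/-- `gen` with `X = N.comap j`.  For all `i ≠ j` below `m` and fixed `c`: `ρ(e i, c e j), ρ(e i, c f j) ∈ N` by `tri3` with `p = e j` or `f j`, `s = e l`, `s' = f l`,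
`l ∉ {i, j}`.  For fixed `u ∈ V₀`, `l ≠ i`: `⁅ρ(e l, u), ρ(e i, f l)⁆ = ρ(e i, u + Q u • e l) ∈ N`. -/
theorem ft (ι : A) (N : Subgroup (commutator (O Q))) (h1 : ∀ c, r.fl ι c = c → ∀ n ∈ N, c * n * c⁻¹ ∈ N)
    (h2 : ∀ a g h, r.fl ι a = a → r.fl ι g = g → r.fl ι h = h → a * a = 1 → h * a * h⁻¹ = a * (g * a * g⁻¹) → a ∈ N) :
    ∀ x ∈ fx r.fU 1 ι, r.j x ∈ N := by
  have fe : ∀ {i j} (c : F), i ≠ j → j < m → (r.s ι).σ c = c → r.ρ (r.e i) (c • r.e j) ∈ N ∧ r.ρ (r.e i) (c • r.f j) ∈ N := fun {i j} c ij hj hc => by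
    obtain ⟨l, hl, li, lj⟩ := r.exists_third i j
    exact ⟨h2 _ (r.ρ (r.e j) (r.f l) * r.ρ (r.e l) (r.f j)) (r.ρ (r.e l) (r.f j)) (by rw [fl_ρ, r.se, T_smul hc (r.se ι j)])
        (by simp only [map_mul, fl_ρ, r.se, r.sf]) (by rw [fl_ρ, r.se, r.sf]) (ρ_sq (r.Qe i) (by simp [r.ee]))
        (Subtype.ext (tri3 r.h2 c (r.Qe i) (r.Qe j) (r.Qe l) (r.ee _ _) (r.ef_ne ij) (r.ee _ _) (r.ef_ne li.symm) (r.ef_self hj) (r.ef_self hl)
          (r.ee _ _) (r.ef_ne lj.symm) (r.ef_ne lj))),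
      h2 _ (r.ρ (r.f j) (r.f l) * r.ρ (r.e l) (r.e j)) (r.ρ (r.e l) (r.e j)) (by rw [fl_ρ, r.se, T_smul hc (r.sf ι j)])
        (by simp only [map_mul, fl_ρ, r.se, r.sf]) (by rw [fl_ρ, r.se, r.se]) (ρ_sq (r.Qe i) (by simp [r.ef_ne ij]))
        (Subtype.ext (tri3 r.h2 c (r.Qe i) (r.Qf j) (r.Qe l) (r.ef_ne ij) (r.ee _ _) (r.ee _ _) (r.ef_ne li.symm) (r.fe_self hj) (r.ef_self hl)
          (r.fe_ne lj.symm) (r.ff _ _) (r.ee _ _)))⟩
  refine r.gen ι (N.comap r.j) ?_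
  rintro _ ⟨i, hi, w, hw | ⟨j, ij, hj, a, rfl | rfl⟩, rfl⟩ hf
  · have hT := (fU_x_iff hi (V0_le_W hw)).1 hf
    obtain ⟨l, hl, li, -⟩ := r.exists_third i i
    have k1 := (fe 1 li.symm hl (map_one _)).2
    rw [one_smul] at k1
    have k2 := h1 (r.j (r.x l w)) (by rw [fl_j, fU_x, hT]) _ k1
    rw [ρ_conj, x_ap_fix (V0_Ep hw l) (r.ee _ _) (V0_e hw i), x_ap_f (V0_le_W hw) hl, ρ_add (r.Qe i) (by simp [r.ef_ne li.symm, V0_Ep hw i i le_rfl])
      (by simp [r.ee]), ρ_add (r.Qe i) (r.ef_ne li.symm) (V0_Ep hw i i le_rfl), mul_mem_cancel_right (fe _ li.symm hl (by rw [← T_Q, hT])).1,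
      mul_mem_cancel_left k1] at k2
    rwa [mem_comap, j_x (V0_Ep hw i)]
  · have hT := (fU_x_iff hi (Submodule.smul_mem _ _ (e_mem_W ij))).1 hf
    rw [Gam.map_smul, r.se] at hT
    rw [mem_comap, j_x (se_Ep a i j)]
    exact (fe a ij.ne hj (smul_left_injective F (r.e_ne hj) hT)).1
  · have hT := (fU_x_iff hi (Submodule.smul_mem _ _ (f_mem_W ij))).1 hf
    rw [Gam.map_smul, r.sf] at hT
    rw [mem_comap, j_x (Submodule.smul_mem _ _ (f_mem_Ep ij))]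
    exact (fe a ij.ne hj (smul_left_injective F (r.f_ne hj) hT)).2

theorem x_cent (hg : r.ap g (r.e i) = r.e i) (h : w ∈ r.Ep i) (hw : r.ap g w = w) : r.x i w ∈ 𝐂[g] :=
  mem_centralizer_singleton_iff.2 (x_fix hg h hw).symm
theorem P_e (n a i : ℕ) : r.ap (r.P n a) (r.e i) = r.e i := P_fix fun _ _ _ => r.ee _ _
theorem cm_V0 {j : ℕ} (hij : i ≤ j) (hu : u ∈ r.V0) (hw : w ∈ r.V0) : ⁅r.x j u, r.x i w⁆ = r.x i (polar Q u w • r.e j) := by
  simp [cm_x hij (V0_Ep hu j) (V0_Ep hw i), (mem_V0.1 hw j).1]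
theorem mul_x0 (g : r.U) (hw : w ∈ r.Ep 0) : g * r.x 0 w = r.x 0 (r.ap g w) * g := by rw [← x_conj (ap_e0 g) hw, inv_mul_cancel_right]
theorem x0_cent {t : r.U} (h1 : y * t = t * y) (hu : u ∈ r.Ep 0) (hw : w ∈ r.Ep 0) (h : u + r.ap y w = w + r.ap t u) :
    r.x 0 u * y ∈ 𝐂[r.x 0 w * t] := mem_centralizer_singleton_iff.2 (by
  rw [mul_assoc, mul_assoc, ← mul_assoc y, ← mul_assoc t, mul_x0 y hw, mul_x0 t hu, mul_assoc, mul_assoc, h1, ← mul_assoc, ← mul_assoc (r.x 0 w),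
    ← x_add, ← x_add, h])
/-- `x i (e j) = ⁅x j u', x i u⁆` for `u, u' ∈ V₀`, `B u' u = 1`; these commute with `P n 0` (`x_fix`, `P_fix`); `P_mem`. -/
theorem cc_P (n : ℕ) : r.P n 0 ∈ ⁅𝐂[r.P n 0], 𝐂[r.P n 0]⁆ := P_mem _ fun i j _ hij _ => by
  obtain ⟨u, hu, h1⟩ := exists_dual r.v0_mem r.v0_ne
  have := commutator_mem_commutator (x_cent (P_e n 0 j) (V0_Ep r.v0_mem j) (P_V0 r.v0_mem)) (x_cent (P_e n 0 i) (V0_Ep hu i) (P_V0 hu))
  rwa [cm_V0 hij.le r.v0_mem hu, h1, one_smul] at this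
/-- `k = m - 1 > 2 n` is a free index: `R v₀ n` fixes `e k`, `f k`, `v₀` and all `e i`.  `x i (e j) = ⁅x j (e k), x i (f k)⁆` for `1 ≤ i < j ≤ 2 n`;
`x 0 (v₀ + e k) = ⁅x k v₀, x 0 (f k)⁆` (`cm_f`), `x 0 (e k) = ⁅x k v₀, x 0 u⁆` with `B v₀ u = 1` (`x 0 u` commutes with `x 0 v₀` and with `P n 1`). -/
theorem cc_R (hn : 2 * n + 2 ≤ m) : r.R r.v0 n ∈ ⁅𝐂[r.R r.v0 n], 𝐂[r.R r.v0 n]⁆ := by
  obtain ⟨k, rfl⟩ := Nat.exists_eq_add_of_le' r.m0
  have hE := V0_Ep r.v0_mem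
  have he : ∀ i, r.ap (r.R r.v0 n) (r.e i) = r.e i := fun i => by rw [R, ap_mul, P_e, x_ap_fix (hE 0) (r.ee _ _) (r.ve i)]
  have hf : r.ap (r.R r.v0 n) (r.f k) = r.f k := by
    rw [R, ap_mul, P_fix fun i _ _ => r.ef_ne (by omega), x_ap_fix (hE 0) (r.ef_ne (by omega)) (r.vf' k)]
  have hv : r.ap (r.R r.v0 n) r.v0 = r.v0 := by rw [R, ap_mul, P_V0 r.v0_mem, x_ap_fix (hE 0) (r.ev 0) (r.pself _)]
  obtain ⟨u, hu, h1⟩ := exists_dual r.v0_mem r.v0_ne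
  have k1 := commutator_mem_commutator (x_cent (he k) (hE k) hv) (x_cent (he 0) (f_mem_Ep (by omega)) hf)
  have k2 := commutator_mem_commutator (x_cent (he k) (hE k) hv) (show r.x 0 u ∈ 𝐂[r.R r.v0 n] from mem_centralizer_singleton_iff.2 (by
    rw [R, mul_assoc, P_x0 hu, ← mul_assoc, ← mul_assoc, x_comm]))
  rw [cm_f (by omega) k.lt_succ_self (V0_le_W r.v0_mem), r.Qv, x_add] at k1
  rw [cm_V0 k.zero_le r.v0_mem hu, h1] at k2
  refine mul_mem ((mul_mem_cancel_right k2).1 k1) (P_mem _ fun i j _ hij hj => ?_)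
  have := commutator_mem_commutator (x_cent (he j) (r.e_mem_Ep j k) (he k)) (x_cent (he i) (f_mem_Ep (by omega)) hf)
  rw [cm_x hij.le (r.e_mem_Ep j k) (f_mem_Ep (by omega))] at this
  simpa [r.ef_self k.lt_succ_self, r.ef_ne (show j ≠ k by omega)] using this
/-- `g = x 0 w * x 1 e₂`.  With `u ∈ V₀`, `B w u = 1`, `u' = u + w`: `c = x 0 f₁ * x 2 u` and `d = x 0 f₂ * x 1 u'` commute with `g` (`conj_eich`, `x_swap`), and
`⁅c, d⁆ = g * x 0 (α e₁ + β e₂)`.  `x 0 v` (`v ∈ V₀`) commutes with `g`, `⁅d, x 0 v⁆ = x 0 (B u' v • e₁)`, `⁅c, x 0 v⁆ = x 0 (B u v • e₂)`. -/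
theorem cc_three (hw : w ∈ r.V0) (h0 : w ≠ 0) : r.R w 1 ∈ ⁅𝐂[r.R w 1], 𝐂[r.R w 1]⁆ := by
  obtain ⟨u, hu, h1⟩ := exists_dual hw h0
  have hu' := add_mem hu hw
  have h2 : polar Q u w = 1 := by rw [polar_comm, h1]
  have h3 : polar Q (u + w) w = 1 := by rw [polar_add_left, h2, r.pself, add_zero]
  have e12 : r.x 1 (r.e 2) = r.x 2 (r.e 1) := by simpa using x_swap (r := r) 1 2 1
  have f1 : r.f 1 ∈ r.Ep 0 := f_mem_Ep one_pos
  have f2 : r.f 2 ∈ r.Ep 0 := f_mem_Ep two_pos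
  have ht : ∀ v, r.ap (r.x 1 (r.e 2)) v = v + polar Q (r.e 2) v • r.e 1 + polar Q (r.e 1) v • r.e 2 := fun v => by
    simp [x_ap (r.e_mem_Ep 1 2), r.Qe]
  rw [show r.R w 1 = r.x 0 w * r.x 1 (r.e 2) by simp [R, P]]
  have hc : r.x 0 (r.f 1) * r.x 2 u ∈ 𝐂[r.x 0 w * r.x 1 (r.e 2)] := x0_cent (by rw [e12, x_comm]) f1 (V0_Ep hw 0) (by
    rw [x_ap_perp (V0_Ep hu 2) (mem_V0.1 hw 2).1, ht, h2, r.ef_ne (by decide), r.ef_self r.m1, zero_smul, add_zero, add_left_comm])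
  have hd : r.x 0 (r.f 2) * r.x 1 (u + w) ∈ 𝐂[r.x 0 w * r.x 1 (r.e 2)] := x0_cent (x_comm _ _ _) f2 (V0_Ep hw 0) (by
    rw [x_ap_perp (V0_Ep hu' 1) (mem_V0.1 hw 1).1, ht, h3, r.ef_ne (show 1 ≠ 2 by decide), r.ef_self r.m3, zero_smul, add_zero, add_left_comm])
  have hv : ∀ a : F, r.x 0 (a • w) ∈ 𝐂[r.x 0 w * r.x 1 (r.e 2)] := fun a => by
    simpa using x0_cent (r := r) (y := 1) (t := r.x 1 (r.e 2)) (by simp) (V0_Ep (Submodule.smul_mem _ a hw) 0) (V0_Ep hw 0) (by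
      simp [ht, ap_one, (mem_V0.1 hw _).1, add_comm])
  have k1 : ∀ a : F, ⁅r.x 0 (r.f 2) * r.x 1 (u + w), r.x 0 (a • w)⁆ = r.x 0 (a • r.e 1) := fun a => by
    have hw' := Submodule.smul_mem _ a hw
    rw [x_cm (ap_e0 _) (V0_Ep hw' 0), ap_mul, x_ap_perp (V0_Ep hu' 1) (mem_V0.1 hw' 1).1, polar_smul_right', h3, mul_one,
      x_ap_fix f2 (by simp [r.ee, (mem_V0.1 hw _).1]) (by simp [r.fe_ne (show 2 ≠ 1 by decide), (mem_V0.1 hw _).2]), add_right_comm, r.two, zero_add]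
  have k2 : ∀ a : F, ⁅r.x 0 (r.f 1) * r.x 2 u, r.x 0 (a • w)⁆ = r.x 0 (a • r.e 2) := fun a => by
    have hw' := Submodule.smul_mem _ a hw
    rw [x_cm (ap_e0 _) (V0_Ep hw' 0), ap_mul, x_ap_perp (V0_Ep hu 2) (mem_V0.1 hw' 2).1, polar_smul_right', h2, mul_one,
      x_ap_fix f1 (by simp [r.ee, (mem_V0.1 hw _).1]) (by simp [r.fe_ne (show 1 ≠ 2 by decide), (mem_V0.1 hw _).2]), add_right_comm, r.two, zero_add]
  have k3 : ⁅r.x 2 u, r.x 1 (u + w)⁆ = r.x 1 (r.e 2) := by rw [cm_V0 one_le_two hu hu', polar_add_right, r.pself, zero_add, h2, one_smul]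
  have k4 : ⁅r.x 0 (r.f 1) * r.x 2 u, r.x 0 (r.f 2) * r.x 1 (u + w)⁆ =
      r.x 0 ((Q (u + w) + 1) • r.e 1) * (r.x 0 ((Q u + 1) • r.e 2) * (r.x 0 w * r.x 1 (r.e 2))) := by
    have e : ∀ a b y y' : r.U, ⁅a * y, b * y'⁆ = a * (y * b * y⁻¹) * (⁅y, y'⁆ * (b * (y' * a * y'⁻¹))⁻¹) := fun a b y y' => by
      simp only [commutatorElement_def]
      group
    rw [e, x_conj (ap_e0 _) f1, x_conj (ap_e0 _) f2, ← x_add, ← x_add, x_inv, k3, mul_x0 _ (add_mem f2 (ap_Ep _ f1)), ← mul_assoc, ← mul_assoc,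
      ← mul_assoc, ← x_add, ← x_add, ← x_add, x_ap_f (V0_le_W hu) r.m3, x_ap_f (V0_le_W hu') r.m1, ht]
    congr 2
    simp only [polar_add_right, polar_smul_right', r.ee, (mem_V0.1 hu _).1, (mem_V0.1 hw _).1, r.ef_self r.m1, r.ef_self r.m3,
      r.ef_ne (show 1 ≠ 2 by decide), r.ef_ne (show 2 ≠ 1 by decide)]
    linear_combination (norm := module) r.two (r.f 1) + r.two (r.f 2) + r.two u
  have k5 := commutator_mem_commutator hc hd
  rwa [k4, mul_mem_cancel_left (k1 _ ▸ commutator_mem_commutator hd (hv _)),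
    mul_mem_cancel_left (k2 _ ▸ commutator_mem_commutator hc (hv _))] at k5
/-- `c i` maps `C(y) ⊓ N (i + 1)` with kernel `C(y) ⊓ N i` into `D = {w ∈ W i | y w - w ∈ Fl (i + 1)}` (`c_conj`, `sub_pW`).  `D ⊕ Fl (i + 1)` lies in the preimage of
`Fl (i + 1)` under `y - 1`, whose dimension is at most `dim (fix y) + (i + 1)`. -/
theorem card_step (hi : i < m) (y : r.U) :
    Nat.card ↥(𝐂[y] ⊓ r.N (i + 1)) ≤ Nat.card F ^ finrank F (O.fix y.1) * Nat.card ↥(𝐂[y] ⊓ r.N i) := by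
  have := r.finV
  let φ : V →ₗ[F] V := (y.1.1 : V →ₗ[F] V) - LinearMap.id
  let E := (r.Fl (i + 1)).comap φ
  have h1 : finrank F ↥(r.W i ⊓ E) ≤ finrank F (O.fix y.1) := by
    have a1 := Submodule.finrank_sup_add_finrank_inf_eq (r.W i ⊓ E) (r.Fl (i + 1))
    have a2 : (r.W i ⊓ E) ⊓ r.Fl (i + 1) = ⊥ := (Submodule.eq_bot_iff _).2 fun w hw => W_inf_Fl hw.1.1 hw.2 hi
    have a3 : finrank F ↥(r.W i ⊓ E ⊔ r.Fl (i + 1)) ≤ finrank F E :=
      Submodule.finrank_mono (sup_le inf_le_right fun v hv => Fl_mono i.le_succ (ap_sub y hv))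
    have a4 := (φ.domRestrict E).finrank_range_add_finrank_ker
    have a5 : finrank F (LinearMap.range (φ.domRestrict E)) ≤ finrank F (r.Fl (i + 1)) :=
      Submodule.finrank_mono (by rintro _ ⟨v, rfl⟩; exact v.2)
    have a6 : finrank F (LinearMap.ker (φ.domRestrict E)) ≤ finrank F (O.fix y.1) := by
      rw [← Submodule.finrank_map_subtype_eq]
      exact Submodule.finrank_mono (by rintro _ ⟨v, hv, rfl⟩; exact hv)
    rw [a2, finrank_bot] at a1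
    omega
  let ψ : ↥(𝐂[y] ⊓ r.N (i + 1)) →* Multiplicative V :=
    MonoidHom.mk' (fun g => Multiplicative.ofAdd (r.c i g)) fun g h => congrArg Multiplicative.ofAdd (c_mul hi g.2.2 _)
  have hle : 𝐂[y] ⊓ r.N i ≤ 𝐂[y] ⊓ r.N (i + 1) := inf_le_inf_left _ (N_mono i.le_succ)
  have hk : ψ.ker = (𝐂[y] ⊓ r.N i).subgroupOf (𝐂[y] ⊓ r.N (i + 1)) := by
    ext g
    rw [MonoidHom.mem_ker, mem_subgroupOf, Subgroup.mem_inf]
    exact ⟨fun h => ⟨g.2.1, (c_eq_zero hi g.2.2).1 h⟩, fun h => (c_eq_zero hi g.2.2).2 h.2⟩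
  have hR : {w : V | Multiplicative.ofAdd w ∈ ψ.range} ⊆ ↑(r.W i ⊓ E) := by
    rintro w ⟨g, hg⟩
    obtain rfl : r.c i g.1 = w := hg
    have e := c_conj hi g.2.2 y
    rw [← mem_centralizer_singleton_iff.1 g.2.1, mul_inv_cancel_right] at e
    have := sub_pW (ap_Ep y (W_le_Ep (c_mem i g.1))) hi
    rw [← e] at this
    exact Submodule.mem_inf.2 ⟨c_mem i g.1, this⟩
  rw [← ψ.ker.card_mul_index, Subgroup.index_ker, hk, Nat.card_congr (subgroupOfEquivOfLe hle).toEquiv, mul_comm]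
  have h2 : Nat.card ↥(r.W i ⊓ E) ≤ Nat.card F ^ finrank F (O.fix y.1) :=
    (Module.natCard_eq_pow_finrank (K := F)).trans_le (Nat.pow_le_pow_right Nat.card_pos h1)
  have h3 : Nat.card ψ.range ≤ Nat.card ↥(r.W i ⊓ E) := Nat.card_le_card_of_injective (fun w => ⟨w.1.toAdd, hR w.2⟩)
    fun _ _ e => Subtype.ext (Subtype.mk.inj e)
  exact Nat.mul_le_mul_right _ (h3.trans h2)
/-- `|C(y)| ≤ q ^ (2 (m + 1)) |U : N 2| = q ^ (m ^ 2 - m + 4)`. -/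
theorem cc_bad (h5 : 5 ≤ m) (hy : finrank F (O.comm y.1) = m + 1) : Nat.card 𝐂[y] < Nat.card F ^ (m * m) := by
  have h1 : finrank F (O.fix y.1) = m + 1 := by
    have := O.finrank_comm_add_finrank_fix y.1
    rw [r.rk] at this
    omega
  have h2 := card_step r.m1 y
  have h3 := card_step r.m0 y
  rw [N_zero, inf_bot_eq, card_bot, mul_one] at h3
  have h4 := h2.trans (Nat.mul_le_mul_left _ h3)
  have h6 : Nat.card 𝐂[y] ≤ Nat.card ↥(𝐂[y] ⊓ r.N 2) * (r.N 2).index := by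
    rw [← ((r.N 2).subgroupOf 𝐂[y]).card_mul_index, ← inf_subgroupOf_left, Nat.card_congr (subgroupOfEquivOfLe inf_le_left).toEquiv,
      inf_subgroupOf_left]
    exact Nat.mul_le_mul_left _ (relIndex_top_right (r.N 2) ▸ relIndex_le_of_le_right le_top (by simpa using (r.N 2).index_ne_zero_of_finite))
  have h7 := Nat.mul_le_mul_right (Nat.card (r.N 2)) (h6.trans (Nat.mul_le_mul_right _ h4))
  rw [mul_assoc, index_mul_card, card_U, r.card_N r.m1, h1, ← pow_add, ← pow_add] at h7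
  refine Nat.lt_of_mul_lt_mul_right (h7.trans_lt ?_)
  rw [← pow_add, mul_add m]
  exact Nat.pow_lt_pow_right Finite.one_lt_card (by omega)
/-- `P ⊔ zpowers x` is a `2`-group; conjugate it into `j U` (`em`, `Syl.exists_conj_le`); the rank is a class function; `cc_bad`, `card_Vγ`. -/
theorem cc_bad' (h5 : 5 ≤ m) (x : commutator (O Q)) (hx : x * x = 1) (hr : finrank F (O.comm x.1) = m + 1) :
    ∀ P ≤ 𝐂[x], IsPGroup 2 P → Nat.card P < Nat.card (fx r.fU 1 r.γ) := fun P hP p2 => by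
  have hz : IsPGroup 2 (zpowers x) := .of_card_dvd_pow (n := 1) (by rwa [Nat.card_zpowers, pow_one, orderOf_dvd_iff_pow_eq_one, pow_two])
  obtain ⟨g, -, hg⟩ := r.em.syl.exists_conj_le (p2.to_sup_of_normal_right' hz (hP.trans fun a ha =>
    centralizer_le_normalizer _ (mem_centralizer_iff.2 fun b ⟨k, hb⟩ => hb ▸
      (Commute.zpow_left (mem_centralizer_singleton_iff.1 ha).symm k).eq))) le_top
  obtain ⟨y, hy⟩ := Transfer.conj_le_iff.1 hg x (mem_sup_right (mem_zpowers x))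
  have h1 : g ⋆ P ≤ 𝐂[y].map r.j := Transfer.conj_le_iff.2 fun a ha => by
    obtain ⟨b, hb⟩ := Transfer.conj_le_iff.1 hg a (mem_sup_left ha)
    refine ⟨b, mem_centralizer_singleton_iff.2 (r.em.inj ?_), hb⟩
    rw [map_mul, map_mul, hb, hy, conj_mul, conj_mul, mem_centralizer_singleton_iff.1 (hP ha)]
  rw [card_Vγ, ← Transfer.card_conj g]
  refine (card_le_of_le h1).trans_lt ((card_map_of_injective r.em.inj).trans_lt (cc_bad h5 ?_))
  rw [show y.1 = g.1 * x.1 * g.1⁻¹ from congrArg Subtype.val hy, O.comm_conj, LinearEquiv.finrank_map_eq, hr]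
theorem cc_of {x : commutator (O Q)} {w : O Q} (hw : w ∈ commutator (O Q)) (h : x.1 = w * y.1 * w⁻¹) (hy : y ∈ ⁅𝐂[y], 𝐂[y]⁆) :
    x ∈ ⁅𝐂[x], 𝐂[x]⁆ := by
  let φ : r.U →* commutator (O Q) := (MulAut.conj (⟨w, hw⟩ : commutator (O Q))).toMonoidHom.comp r.j
  have e : x = φ y := Subtype.ext h
  have h1 : 𝐂[y].map φ ≤ 𝐂[φ y] := map_le_iff_le_comap.2 fun a ha =>
    mem_centralizer_singleton_iff.2 (by rw [← map_mul, ← map_mul, mem_centralizer_singleton_iff.1 ha])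
  rw [e]
  exact commutator_mono h1 h1 (map_commutator _ _ φ ▸ mem_map_of_mem φ hy)
/-- `nf_even`; if `2 n + 1 = m` then `m = 3`, `n = 1` or `5 ≤ m` (`rank_R`). -/
theorem cc (x : commutator (O Q)) (hx : x * x = 1) :
    x ∈ ⁅𝐂[x], 𝐂[x]⁆ ∨ r.um.Big ∧ ∀ P ≤ 𝐂[x], IsPGroup 2 P → Nat.card P < Nat.card (fx r.fU 1 r.γ) := by
  obtain ⟨w, hw, n, ⟨-, e⟩ | ⟨hn, u, hu, h0, h1, e⟩⟩ := nf_even (r := r) x.2 (congrArg Subtype.val hx)
  · exact .inl (cc_of hw e (cc_P n))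
  rcases hn.eq_or_lt with c | c
  · rcases r.m3.eq_or_lt with c' | c'
    · obtain rfl : n = 1 := by omega
      exact .inl (cc_of hw e (cc_three hu h0))
    · exact .inr ⟨big (by omega), cc_bad' (by omega) x hx (by rw [e, O.comm_conj, LinearEquiv.finrank_map_eq, rank_R hu h0 hn, ← c])⟩
  · obtain rfl := h1.resolve_right fun k => c.ne k.2
    exact .inl (cc_of hw e (cc_R c))

end Fr

end Cfsg.Lib.OS
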