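import Cfsg.Agent.Lib.OS.Gn
import Cfsg.Agent.Lib.USt.SA_a
import Cfsg.Agent.Lib.EqX.Nrm

/-!
# S3130, split case: lemmas on the model `SM`.  First part: copy of `USt/SA_a`.
-/

set_option autoImplicit false
set_option linter.unusedSectionVars false

namespace Cfsg.Lib.OS

open Subgroup G2S Cfsg.Lib.BG Cfsg.Lib.GW GSt.SLa
open USt (conj_one_iff pg_prod N0_le)
open scoped commutatorElement Cfsg.Lib.Transfer

variable {J U A : Type*} [Group J] [Finite J] [Group U] [Finite U] [Group A] {α β ω : MulAut J} {θ η σ ι : A} {u : U}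

theorem mem_fx {f : A →* MulAut U} {x : U} : x ∈ fx f u θ ↔ u * f θ x * u⁻¹ = x := Iff.rfl
theorem mem_V {f : A →* MulAut U} {x : U} : x ∈ fx f 1 θ ↔ f θ x = x := by rw [mem_fx, one_mul, inv_one, mul_one]
theorem fx_one {f : A →* MulAut U} : fx f 1 1 = ⊤ := eq_top_iff.2 fun x _ => mem_V.2 (by simp)
theorem fx_inv {f : A →* MulAut U} : fx f 1 θ⁻¹ = fx f 1 θ := ext fun x => by
  rw [mem_V, mem_V, map_inv, MulAut.inv_def, MulEquiv.symm_apply_eq, eq_comm]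

/-- A finite abelian group has a character that does not kill `c` (`CommGroup.exists_apply_ne_one_of_hasEnoughRootsOfUnity`, or: a subgroup `K` maximal
with `c ∉ K` has a cyclic quotient). -/
theorem exists_chi [Finite A] (h : ∀ x y : A, x * y = y * x) {c : A} (hc : c ≠ 1) :
    ∃ (n : ℕ) (χ : A →* Multiplicative (ZMod n)), χ c ≠ 1 := by
  let _ : CommGroup A := { ‹Group A› with mul_comm := h }
  obtain ⟨κ, _, n, -, ⟨e⟩⟩ := CommGroup.equiv_prod_multiplicative_zmod_of_finite A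
  obtain ⟨i, hi⟩ := Function.ne_iff.1 (e.map_ne_one_iff.2 hc)
  exact ⟨n i, (Pi.evalMonoidHom _ i).comp e.toMonoidHom, hi⟩

namespace UM
variable (m : UM U A)
include m
omit m in
theorem two_le [Finite A] (h : ι ≠ 1) : 2 ≤ Nat.card A := have : Nontrivial A := ⟨_, _, h⟩; Finite.one_lt_card
theorem cases' (h : θ * θ = 1) : (θ = 1 ∨ θ = m.γ) ∨ Fd m.γ θ :=
  or_iff_not_imp_left.2 fun c => ⟨h, fun e => c (.inl e), fun e => c (.inr e)⟩
/-- `I2`: the elements of square one are among `1, γ, a, a γ`. -/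
theorem card_four [Finite A] {D : Subgroup A} (h : ∀ a ∈ D, a * a = 1) : Nat.card D ≤ 4 := by
  classical
  obtain ⟨a, ha⟩ : ∃ a, ∀ b ∈ D, b ∈ ({1, m.γ, a, a * m.γ} : Finset A) := by
    by_cases c : ∃ a, Fd m.γ a
    · obtain ⟨a, c⟩ := c
      exact ⟨a, fun b hb => by have := (m.cases' (h b hb)).imp_right (m.I2 a b c); simp only [Finset.mem_insert, Finset.mem_singleton]; tauto⟩
    · exact ⟨1, fun b hb => by
        have := (m.cases' (h b hb)).resolve_right fun e => c ⟨b, e⟩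
        simp only [Finset.mem_insert, Finset.mem_singleton]; tauto⟩
  exact ((Set.ncard_le_ncard (show (D : Set A) ⊆ ({1, m.γ, a, a * m.γ} : Finset A) from ha)).trans_eq (Set.ncard_coe_finset _)).trans Finset.card_le_four
theorem cases (h : θ * θ = 1) : (θ = 1 ∨ θ = m.γ) ∨ Fd m.γ θ :=
  or_iff_not_imp_left.2 fun c => ⟨h, fun e => c (.inl e), fun e => c (.inr e)⟩
theorem vf_eq (h : Fd m.γ ι) (h' : Fd m.γ θ) : Nat.card (m.V ι) = Nat.card (m.V θ) :=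
  Nat.pow_left_injective two_ne_zero ((m.vf _ h).trans (m.vf _ h').symm)
theorem vf_lt [Finite A] (h : Fd m.γ ι) : Nat.card (m.V ι) < m.lo :=
  (Nat.le_mul_of_pos_left _ (pow_pos Nat.card_pos 2)).trans_lt (m.nf _ h)
theorem z_V (θ : A) : m.z ∈ m.V θ := mem_V.2 (m.fz θ)
/-- `VG`: a homomorphism from `V θ` to an abelian group has values of square one. -/
theorem VG_sq {X : Type*} [Group X] (h : ∀ x y : X, x * y = y * x) (f : m.V θ →* X) (x : m.V θ) : f x * f x = 1 := by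
  let K : Subgroup (m.V θ) := ⟨⟨⟨{x | f x * f x = 1}, fun {a c} ha hc => by
    rw [Set.mem_setOf_eq, map_mul]; exact Inv.mul_self_mul_of_comm ha hc (h _ _)⟩, by simp⟩, fun {a} ha => by
    rw [Set.mem_setOf_eq, map_inv, ← _root_.mul_inv_rev, show f a * f a = 1 from ha, inv_one]⟩
  obtain ⟨y, hy, e⟩ := m.VG θ (K.map (m.V θ).subtype) (fun y hy e => ⟨⟨y, hy⟩, by
    change f _ * f _ = 1
    rw [← map_mul, show (⟨y, hy⟩ * ⟨y, hy⟩ : m.V θ) = 1 from Subtype.ext e, map_one], rfl⟩) x.2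
  exact Subtype.ext e ▸ hy
end UM

namespace SM
variable (m : SM J U A)
include m

theorem pU : IsPGroup 2 U := m.em.syl.pgroup.of_equiv (MonoidHom.ofInjective m.em.inj).symm
theorem j_two (u : U) : ∃ n, m.j u ^ 2 ^ n = 1 := let ⟨n, e⟩ := m.pU u; ⟨n, by rw [← map_pow, e, map_one]⟩
theorem jz (h1 : u ≠ 1) : m.j u ∉ center J := fun h => h1 ((map_eq_one_iff _ m.em.inj).1 (m.two_center h (m.j_two _).choose_spec))
theorem Θ_spec (l : J) (θ : A) : m.Θ (MulAut.conj l * m.fl θ) = θ := by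
  rw [map_mul, m.Θ_conj, one_mul, m.Θ_fl]
theorem fl_conj (θ : A) (l : J) : m.fl θ * MulAut.conj l = MulAut.conj (m.fl θ l) * m.fl θ :=
  MulEquiv.ext fun x => by simp
theorem R_mul (a a' : U) (θ θ' : A) : MulAut.conj (m.j (a * m.fU θ a')) * m.fl (θ * θ') =
    MulAut.conj (m.j a) * m.fl θ * (MulAut.conj (m.j a') * m.fl θ') := by
  rw [map_mul, map_mul, map_mul, ← m.fl_j, mul_assoc, mul_assoc, ← mul_assoc (m.fl θ), m.fl_conj, mul_assoc]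
theorem R_j (a x : U) (θ : A) : (MulAut.conj (m.j a) * m.fl θ) (m.j x) = m.j (a * m.fU θ x * a⁻¹) := by simp [m.fl_j]
/-- The standard Sylow subgroup of `Aut J`. -/
def R : Subgroup (MulAut J) where
  carrier := {α | ∃ u θ, α = MulAut.conj (m.j u) * m.fl θ}
  one_mem' := ⟨1, 1, by simp⟩
  mul_mem' := by rintro _ _ ⟨a, θ, rfl⟩ ⟨a', θ', rfl⟩; exact ⟨_, _, (m.R_mul _ _ _ _).symm⟩
  inv_mem' := by
    rintro _ ⟨a, θ, rfl⟩
    exact ⟨m.fU θ⁻¹ a⁻¹, θ⁻¹, by rw [← m.fl_j, ← m.fl_conj]; simp⟩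
/-- `R` is a `2`-group.  If `R ≤ R'`, a `2`-group, and `x ∈ R'`, then `x (fl (Θ x))⁻¹ = conj l` (`inner`, `two_of`: `l` a `2`-element); the
`2`-elements `l` with `conj l ∈ R'` form a `2`-subgroup of `J` (`two_eq`, or: the preimage of `R'` is `2`-group × centre) containing `j U`. -/
theorem syl_R : Syl 2 m.R ⊤ := by
  refine Syl.of_max le_top (fun ⟨x, hx⟩ => ?_) fun R' hR h1 _ x hx => ?_
  · obtain ⟨k, hk⟩ := m.p2 (m.Θ x)
    obtain ⟨u, θ, e⟩ := pow_mem hx (2 ^ k)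
    obtain rfl : θ = 1 := by rw [← m.Θ_spec (m.j u) θ, ← e, map_pow, hk]
    obtain ⟨n, hn⟩ := m.j_two u
    exact ⟨k + n, Subtype.ext (show x ^ _ = 1 by rw [pow_add, pow_mul, e, map_one, mul_one, ← map_pow, hn, map_one])⟩
  have hy := mul_mem hx (inv_mem (h1 (show m.fl (m.Θ x) ∈ m.R from ⟨1, m.Θ x, by simp⟩)))
  obtain ⟨k, hk⟩ := hR ⟨_, hy⟩
  obtain ⟨l, e⟩ := m.inner _ k (congrArg Subtype.val hk) (by rw [map_mul, map_inv, m.Θ_fl, mul_inv_cancel])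
  have := (m.em.syl.of_le (M := R'.comap MulAut.conj) (by rintro _ ⟨u, rfl⟩; exact h1 ⟨u, 1, by simp⟩) le_top).sup_eq
    (N := (MulAut.conj : J →* _).ker) (ker_le_comap _ _)
    (by rw [relIndex_ker]; exact PiGrp.p_iff.2 (pgroup_of_le hR (map_comap_le _ _)))
  obtain ⟨z, hz, _, ⟨u, rfl⟩, rfl⟩ := mem_sup_of_normal_left.1 (this.ge (show l ∈ R'.comap MulAut.conj from mem_comap.2 (e ▸ hy)))
  exact ⟨u, _, mul_inv_eq_iff_eq_mul.1 (e.trans (by rw [map_mul, show MulAut.conj z = 1 from hz, one_mul]))⟩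
theorem fl_inj (h : m.fl θ = m.fl η) : θ = η := by rw [← m.Θ_fl θ, h, m.Θ_fl]
theorem conj_j {a b : U} (h : MulAut.conj (m.j a) = MulAut.conj (m.j b)) : a = b :=
  m.em.inj (m.two_eq (m.j_two a).choose_spec (m.j_two b).choose_spec (conj_one_iff.1 (by rw [map_mul, map_inv, h, inv_mul_cancel])))
theorem R_inj {a b : U} (h : MulAut.conj (m.j a) * m.fl θ = MulAut.conj (m.j b) * m.fl η) : a = b ∧ θ = η := by
  obtain rfl : θ = η := by rw [← m.Θ_spec (m.j a) θ, h, m.Θ_spec]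
  exact ⟨m.conj_j (mul_right_cancel h), rfl⟩
theorem R_pow (n : ℕ) : (MulAut.conj (m.j u) * m.fl θ) ^ n = MulAut.conj (m.j (nrm m.fU θ u n)) * m.fl (θ ^ n) := by
  induction n with
  | zero => simp [nrm]
  | succ n ih => rw [pow_succ', ih, ← m.R_mul, pow_succ']; rfl
theorem R_sq (h : MulAut.conj (m.j u) * m.fl θ * (MulAut.conj (m.j u) * m.fl θ) = 1) : u * m.fU θ u = 1 ∧ θ * θ = 1 :=
  m.R_inj ((m.R_mul _ _ _ _).trans (h.trans (by simp)))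
theorem R_cob (w : U) : MulAut.conj (m.j (w⁻¹ * m.fU θ w)) * m.fl θ = (MulAut.conj (m.j w))⁻¹ * m.fl θ * (MulAut.conj (m.j w))⁻¹⁻¹ := by
  rw [inv_inv, mul_assoc, m.fl_conj, m.fl_j]; simp [mul_assoc]
/-- `syl_R`. -/
theorem into_R {n : ℕ} (h : α ^ 2 ^ n = 1) : ∃ δ u, δ * α * δ⁻¹ = MulAut.conj (m.j u) * m.fl (m.Θ α) := by
  obtain ⟨γ, -, e⟩ := m.syl_R.exists_conj_le (Inv.isPGroup_zpowers h) le_top
  obtain ⟨u, θ, e⟩ := Transfer.conj_le_iff.1 e α (mem_zpowers α)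
  obtain rfl : m.Θ α = θ := by rw [← m.Θ_cj γ, e, m.Θ_spec]
  exact ⟨γ, u, e⟩
theorem R_cm {a : U} (h : MulAut.conj (m.j a) * m.fl η * (MulAut.conj (m.j u) * m.fl θ) = MulAut.conj (m.j u) * m.fl θ * (MulAut.conj (m.j a) * m.fl η)) :
    a * m.fU η u = u * m.fU θ a := (m.R_inj ((m.R_mul _ _ _ _).trans (h.trans (m.R_mul _ _ _ _).symm))).1
theorem pR : IsPGroup 2 m.R := m.syl_R.pgroup
/-- The elements of `R` with type in `D` commuting with `ω = conj (j u) * fl θ`: `GSt.fx_card` for `Θ`; `conj (j x)` commutes with `ω` iff `x ∈ fx u θ` (`conj_j`); `UP`. -/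
theorem card_CR {P : Subgroup (MulAut J)} {D : Subgroup A} (hP : P ≤ m.R ⊓ 𝐂[MulAut.conj (m.j u) * m.fl θ]) (hD : ∀ α ∈ P, m.Θ α ∈ D) :
    Nat.card P ≤ Nat.card D * Nat.card (m.V θ) := by
  have := m.fin
  refine (GSt.fx_card P m.Θ.ker (fun x => (⟨_, hD x x.2⟩ : D)) fun a c e => by
    rw [MonoidHom.mem_ker, map_mul, map_inv, inv_mul_eq_one]; exact congrArg Subtype.val e).trans (Nat.mul_le_mul_left _ ?_)
  refine ((card_le_of_le (K := (fx m.fU u θ).map (MulAut.conj.comp m.j)) fun α hα => ?_).trans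
    (Nat.le_of_dvd Nat.card_pos (card_map_dvd _ _))).trans (m.UP u θ)
  obtain ⟨⟨a, η, rfl⟩, c⟩ := hP hα.1
  obtain rfl : η = 1 := (m.Θ_spec _ _).symm.trans hα.2
  exact ⟨a, mul_inv_eq_iff_eq_mul.2 (by simpa using (m.R_cm (mc.1 c)).symm), by simp⟩
/-- `syl_R`, `card_CR` with `u = 1`, `θ = 1`. -/
theorem card_aut {P : Subgroup (MulAut J)} (hP : IsPGroup 2 P) : Nat.card P ≤ Nat.card A * Nat.card U := by
  obtain ⟨c, -, e⟩ := m.syl_R.exists_conj_le hP le_top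
  have := m.card_CR (u := 1) (θ := 1) (D := ⊤) (le_inf e fun x _ => mc.2 (by simp)) fun _ _ => trivial
  rwa [UM.V, fx_one, card_top, card_top, Transfer.card_conj] at this
/-- `NFγ` for `u = 1`. -/
theorem lo_le (h1 : m.γ ≠ 1) : m.lo ≤ Nat.card (m.V m.γ) :=
  let ⟨_, _, _, _, h⟩ := m.NFγ h1 1 (by simp); h.trans (card_le_of_le inf_le_left)
/-- `into_R`, `R_sq`, `LG0`, `R_cob`. -/
theorem conj_f (h : α * α = 1) (hf : Fd m.γ (m.Θ α)) : ∃ δ, α = δ * m.fl (m.Θ α) * δ⁻¹ := by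
  obtain ⟨δ, u, e⟩ := m.into_R (n := 1) ((sq α).trans h)
  obtain ⟨w, rfl⟩ := m.LG0 u _ hf (m.R_sq (e ▸ cj2 h δ)).1
  rw [m.R_cob] at e
  exact ⟨δ⁻¹ * (MulAut.conj (m.j w))⁻¹, (by group : α = δ⁻¹ * (δ * α * δ⁻¹) * δ).trans (by rw [e]; group)⟩
theorem tr_fix {δ : MulAut J} (e : α = δ * ω * δ⁻¹) {X : Subgroup U} (h : ∀ x ∈ X, ω (m.j x) = m.j x) :
    ∃ E : Subgroup J, IsPGroup 2 E ∧ (∀ x ∈ E, α x = x) ∧ Nat.card E = Nat.card X :=
  ⟨(X.map m.j).map δ.toMonoidHom, ((m.pU.to_subgroup X).map _).map _, by rintro _ ⟨_, ⟨x, hx, rfl⟩, rfl⟩; simp [e, h x hx],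
    by rw [card_map_of_injective δ.injective, card_map_of_injective m.em.inj]⟩
/-- `inner`, `sq_of`, `NF0`; `into_R`, `NFγ`. -/
theorem LO (h : α * α = 1) (h1 : m.Θ α = 1 ∨ m.Θ α = m.γ) : ∃ E : Subgroup J, IsPGroup 2 E ∧ (∀ x ∈ E, α x = x) ∧ m.lo ≤ Nat.card E := by
  by_cases h0 : m.Θ α = 1
  · obtain ⟨l, rfl⟩ := m.inner α 1 ((sq α).trans h) h0
    obtain ⟨l, l2, e⟩ := m.sq_of h
    obtain ⟨a, c, n⟩ := m.NF0 l l2
    obtain ⟨c, c1⟩ := isConj_iff.1 c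
    obtain ⟨E, p, q, r⟩ := m.tr_fix (δ := MulAut.conj c⁻¹) (ω := MulAut.conj (m.j a)) (X := 𝐂[a])
      (e.trans (by rw [← c1, ← map_inv, ← map_mul, ← map_mul]; congr 1; group)) fun x hx => by
        rw [MulAut.conj_apply, cjf, ← map_mul, ← map_mul, mc.1 hx]
    exact ⟨E, p, q, r ▸ n⟩
  have h1 := h1.resolve_left h0
  obtain ⟨δ, u, e⟩ := m.into_R (n := 1) ((sq α).trans h)
  rw [h1] at e h0
  obtain ⟨w, a, e1, -, n⟩ := m.NFγ h0 u (m.R_sq (e ▸ cj2 h δ)).1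
  obtain ⟨E, p, q, r⟩ := m.tr_fix (α := α) (δ := δ⁻¹ * MulAut.conj w) (ω := MulAut.conj (m.j a) * m.fl m.γ) (X := fx m.fU 1 m.γ ⊓ 𝐂[a])
    ((by group : α = δ⁻¹ * (δ * α * δ⁻¹) * δ).trans (by rw [e, e1]; group)) fun x hx => by
      rw [m.R_j, mem_V.1 hx.1, cjf.2 (mc.1 hx.2).symm]
  exact ⟨E, p, q, r ▸ n⟩
/-- `conj_f`: `E = δ j (V ι)`. -/
theorem LF (h : α * α = 1) (hf : Fd m.γ (m.Θ α)) : ∃ E : Subgroup J, IsPGroup 2 E ∧ (∀ x ∈ E, α x = x) ∧ Nat.card E = Nat.card (m.V (m.Θ α)) :=   let ⟨_, e⟩ := m.conj_f h hf; m.tr_fix e fun x hx => by rw [m.fl_j, mem_V.1 hx]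
/-- Type `1`: `j u = c (j e) c⁻¹`, `w = fl η c · c⁻¹`.  Type `γ`: `NFγ`, `fl η` commutes with `conj (j e) * fl γ` (`fl_conj`, `comm`).  Field type: `LG0`, `R_cob`. -/
theorem nf2 (h : u * m.fU θ u = 1) (h2 : θ * θ = 1) (h1 : θ = 1 → ∀ x : J, x * x = 1 → ∃ e, IsConj x (m.j e) ∧ ∀ θ, m.fU θ e = e) (η : A) :
    ∃ w, m.fl η * (MulAut.conj (m.j u) * m.fl θ) * (m.fl η)⁻¹ = MulAut.conj w * (MulAut.conj (m.j u) * m.fl θ) * (MulAut.conj w)⁻¹ := by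
  have k {w : J} {e : U} (h1 : MulAut.conj (m.j u) * m.fl θ = MulAut.conj w * (MulAut.conj (m.j e) * m.fl θ) * (MulAut.conj w)⁻¹)
      (h2 : ∀ θ, m.fU θ e = e) : ∃ w, m.fl η * (MulAut.conj (m.j u) * m.fl θ) * (m.fl η)⁻¹ =
        MulAut.conj w * (MulAut.conj (m.j u) * m.fl θ) * (MulAut.conj w)⁻¹ := by
    have c : m.fl η * (MulAut.conj (m.j e) * m.fl θ) * (m.fl η)⁻¹ = MulAut.conj (m.j e) * m.fl θ := by
      rw [← mul_assoc, m.fl_conj, m.fl_j, h2, mul_assoc _ (m.fl η), ← map_mul, m.comm, map_mul, ← mul_assoc, mul_inv_cancel_right]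
    refine ⟨m.fl η w * w⁻¹, ?_⟩
    rw [h1, map_mul MulAut.conj, map_inv, ← mul_inv_eq_iff_eq_mul.2 (m.fl_conj η w)]
    conv_rhs => rw [← c]
    group
  rcases m.cases h2 with (rfl | e) | e
  · obtain ⟨a, c, n⟩ := h1 rfl (m.j u) (by rw [← map_mul, show u * u = 1 by simpa using h, map_one])
    obtain ⟨c, c1⟩ := isConj_iff.1 c
    exact k (w := c⁻¹) (by rw [← c1, map_one, mul_one, mul_one, ← map_inv, ← map_mul, ← map_mul]; congr 1; group) n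
  · by_cases h0 : θ = 1
    · obtain ⟨a, c, n⟩ := h1 h0 (m.j u) (by rw [← map_mul, show u * u = 1 by simpa [h0] using h, map_one])
      obtain ⟨c, c1⟩ := isConj_iff.1 c
      exact k (w := c⁻¹) (by rw [← c1, h0, map_one, mul_one, mul_one, ← map_inv, ← map_mul, ← map_mul]; congr 1; group) n
    · subst e
      obtain ⟨w, a, e1, n, -⟩ := m.NFγ h0 u h
      exact k e1 n
  · obtain ⟨w, rfl⟩ := m.LG0 u _ e h
    exact k (w := (m.j w)⁻¹) (e := 1) (by rw [m.R_cob]; simp) fun _ => map_one _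
theorem fl_R (θ : A) : m.fl θ = MulAut.conj (m.j 1) * m.fl θ := by simp
/-- `R ⊓ C(fl ι) = {conj (j u) * fl θ | u ∈ V ι}` has order `|V ι| |A|` (`R_inj`); a `2`-subgroup of `C(fl ι)` containing `fl ι` is conjugate into `R` (`syl_R`), `card_CR`. -/
theorem syl_CR (ι : A) : Syl 2 (m.R ⊓ 𝐂[m.fl ι]) 𝐂[m.fl ι] := by
  have := m.fin
  refine Syl.of_max inf_le_right (pgroup_of_le m.pR inf_le_left) fun Q hQ h1 h2 => (eq_of_le_of_card_ge h1 ?_).ge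
  obtain ⟨c, -, e⟩ := m.syl_R.exists_conj_le hQ le_top
  obtain ⟨u, θ, e1⟩ := Transfer.conj_le_iff.1 e _ (h1 ⟨⟨1, ι, m.fl_R ι⟩, mc.2 rfl⟩)
  obtain rfl : ι = θ := by rw [← m.Θ_spec (m.j u) θ, ← e1, m.Θ_cj, m.Θ_fl]
  have := m.card_CR (D := ⊤) (le_inf e (e1 ▸ conj_cent1 c _ ▸ Transfer.conj_mono c h2)) fun _ _ => trivial
  rw [card_top, Transfer.card_conj, ← Nat.card_prod] at this
  refine this.trans (Nat.card_le_card_of_injective (fun x => ⟨MulAut.conj (m.j x.2) * m.fl x.1, ⟨_, _, rfl⟩, mc.2 ?_⟩) fun x y e => ?_)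
  · rw [m.fl_R ι, ← m.R_mul, ← m.R_mul, m.comm, mem_V.1 x.2.2]; simp
  · have := m.R_inj (congrArg Subtype.val e)
    exact Prod.ext this.2 (Subtype.ext this.1)
/-- Replace `ω` by `δ⁻¹ ω δ ∈ C(fl ι)`, `ι = σ ^ 2 ^ i`, a `2`-element (`p2`); `syl_CR`; `R_pow`, `R_inj`, `LG1`, `R_cob`. -/
theorem LG {i : ℕ} {δ : MulAut J} (h : m.Θ ω = σ) (o : orderOf σ = 2 ^ (i + 1)) (e : ω ^ 2 ^ i = δ * m.fl (σ ^ 2 ^ i) * δ⁻¹) :
    ∃ δ', ω = δ' * m.fl σ * δ'⁻¹ := by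
  have e1 : (δ⁻¹ * ω * δ⁻¹⁻¹) ^ 2 ^ i = m.fl (σ ^ 2 ^ i) := by rw [conj_pow, e]; group
  obtain ⟨c, hc, e2⟩ := (m.syl_CR (σ ^ 2 ^ i)).exists_conj_le (Inv.isPGroup_zpowers (show (δ⁻¹ * ω * δ⁻¹⁻¹) ^ 2 ^ (i + 1) = 1 by
    rw [pow_succ, pow_mul, e1, ← map_pow, ← pow_mul, ← pow_succ, ← o, pow_orderOf_eq_one, map_one]))
    (zpowers_le.2 (mc.2 (by rw [← e1]; exact ((Commute.refl _).pow_right _).eq)))
  obtain ⟨⟨u, θ, e3⟩, c1⟩ := Transfer.conj_le_iff.1 e2 _ (mem_zpowers _)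
  obtain rfl : σ = θ := by rw [← m.Θ_spec (m.j u) θ, ← e3, m.Θ_cj, m.Θ_cj, h]
  have e4 := m.R_pow (u := u) (θ := σ) (2 ^ i)
  rw [← e3, conj_pow, e1, cjf.2 (mc.1 hc)] at e4
  rw [e3, m.fl_R] at c1
  obtain ⟨w, rfl⟩ := m.LG1 u σ i o (mem_V.2 (by simpa using (m.R_cm (mc.1 c1)).symm)) (m.R_inj ((m.fl_R _).symm.trans e4)).1.symm
  rw [m.R_cob] at e3
  exact ⟨δ * c⁻¹ * (MulAut.conj (m.j w))⁻¹, (by group : ω = δ * c⁻¹ * (c * (δ⁻¹ * ω * δ⁻¹⁻¹) * c⁻¹) * c * δ⁻¹).trans (by rw [e3]; group)⟩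
theorem E0_fix {a : U} (h : a ∈ m.E0) (h' : θ = 1 ∨ θ = m.γ) : m.fU θ a = a := by
  rcases h' with rfl | rfl
  exacts [by simp, mem_V.1 (m.E0V h)]
/-- The abelian group `{conj (j a) * fl θ | a ∈ E0, θ ∈ {1, γ}}`. -/
def D0 : Subgroup (MulAut J) where
  carrier := {α | ∃ a ∈ m.E0, ∃ θ, (θ = 1 ∨ θ = m.γ) ∧ α = MulAut.conj (m.j a) * m.fl θ}
  one_mem' := ⟨1, one_mem _, 1, .inl rfl, by simp⟩
  mul_mem' := by
    rintro _ _ ⟨a, ha, θ, h, rfl⟩ ⟨c, hc, η, h', rfl⟩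
    exact ⟨a * c, mul_mem ha hc, θ * η, by rcases h with rfl | rfl <;> rcases h' with rfl | rfl <;> simp [m.γ2], by rw [← m.R_mul, m.E0_fix hc h]⟩
  inv_mem' := by
    rintro _ ⟨a, ha, θ, h, rfl⟩
    refine ⟨a⁻¹, inv_mem ha, θ, h, inv_eq_of_mul_eq_one_right ?_⟩
    rw [← m.R_mul, m.E0_fix (inv_mem ha) h, show θ * θ = 1 by rcases h with rfl | rfl <;> simp [m.γ2]]; simp
theorem D0_comm (h : α ∈ m.D0) (h' : β ∈ m.D0) : α * β = β * α := by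
  obtain ⟨a, ha, θ, h, rfl⟩ := h
  obtain ⟨c, hc, η, h', rfl⟩ := h'
  rw [← m.R_mul, ← m.R_mul, m.E0_fix hc h, m.E0_fix ha h', m.E0c a ha c hc, m.comm]
theorem card_D0 : Nat.card m.D0 ≤ 2 * Nat.card m.E0 := by
  rw [← show Nat.card Bool = 2 by simp, ← Nat.card_prod]
  refine Nat.card_le_card_of_surjective (fun x => ⟨MulAut.conj (m.j x.2) * m.fl (bif x.1 then 1 else m.γ), _, x.2.2, _, by cases x.1 <;> simp, rfl⟩) ?_
  rintro ⟨_, a, ha, _, rfl | rfl, rfl⟩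
  exacts [⟨(true, ⟨a, ha⟩), rfl⟩, ⟨(false, ⟨a, ha⟩), rfl⟩]
end SM

end Cfsg.Lib.OS
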